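import Cfsg.Agent.Lib.J4Two56.ModelFacts
import Cfsg.Agent.Lib.J4Two56.CoverData
import Cfsg.Agent.Lib.Golay.ClassFacts

/-!
# The translations of the tetrads, and involutions with a fixed class moved into them
-/

set_option autoImplicit false
set_option maxRecDepth 100000

namespace Cfsg.Agent.Lib.J4Two56

open Cfsg Cfsg.Agent.Lib
open scoped Pointwise

/-- The exclusive or of the numbers of the images under an image list. -/
def imgSumL (l : List ℕ) (ps : List ℕ) : ℕ :=
  ps.foldr (fun i r => cdList.getD (Golay.applyNum l (i % 24)) 0 ^^^ r) 0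

/-- The action of an image list on the numbers. -/
def actL (l : List ℕ) (n : ℕ) : ℕ :=
  (List.range 11).foldr (fun k r => (if n.testBit k then imgSumL l (repList.getD k []) else 0) ^^^ r) 0

theorem act_toPerm {l : List ℕ} (h : Golay.validList l = true) (n : ℕ) :
    act (Golay.toPerm l) n = actL l n := by
  have e : imgSum (Golay.toPerm l) = imgSumL l := by
    funext ps
    unfold imgSum imgSumL
    congr 1
    funext i r
    rw [cd, Golay.idx_toPerm h, show Golay.ptN i = Golay.pt ⟨i % 24, Nat.mod_lt _ (by norm_num)⟩ from rfl,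
      Golay.idx_pt]
  rw [act, actL, e]

/-- The test for being one of the translations: on the seven unit vectors below 128. -/
def inWL (l : List ℕ) : Bool :=
  Golay.inM24 l && actL l 1 == 1 && (List.range 7).all fun k => decide (actL l (2 ^ k) ^^^ 2 ^ k < 2)

theorem wList_ok : wList.all inWL = true := by decide +kernel

theorem wList_nodup : (wList.map Golay.Classes.pack).Nodup ∧ wList.length = 64 := by decide +kernel

theorem xor_four (a b c d : ℕ) : (a ^^^ b) ^^^ (c ^^^ d) = (a ^^^ c) ^^^ (b ^^^ d) := by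
  rw [Nat.xor_assoc, Nat.xor_assoc, Nat.xor_left_comm b c d]

theorem xor_four' (a b c d : ℕ) : (a ^^^ b) ^^^ (c ^^^ d) = (a ^^^ d) ^^^ (b ^^^ c) := by
  rw [Nat.xor_comm c d]
  exact xor_four a b d c

theorem xor_cancel_mid (a b c : ℕ) : (a ^^^ b) ^^^ (a ^^^ c) = b ^^^ c := by
  rw [xor_four, Nat.xor_self, Nat.zero_xor]

theorem act_xor_self_lt {σ : Equiv.Perm GolayPt} :
    ∀ m, (∀ k < m, act σ (2 ^ k) ^^^ 2 ^ k < 2) → ∀ n < 2 ^ m, act σ n ^^^ n < 2
  | 0, _, n, hn => by
    obtain rfl : n = 0 := by simpa using hn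
    simp [act_zero]
  | m + 1, h, n, hn => by
    have ih := act_xor_self_lt m (fun k hk => h k (Nat.lt_succ_of_lt hk))
    rcases Nat.lt_or_ge n (2 ^ m) with h' | h'
    · exact ih n h'
    · have hb : n.testBit m = true := by
        rw [Nat.testBit_eq_decide_div_mod_eq]
        have : n / 2 ^ m = 1 := Nat.div_eq_of_lt_le (by simpa using h') (by rw [pow_succ] at hn; omega)
        simp [this]
      have hlt : n ^^^ 2 ^ m < 2 ^ m := Nat.lt_pow_two_of_testBit _ fun i hi => by
        rw [Nat.testBit_xor]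
        rcases hi.eq_or_lt with rfl | hi
        · simp [hb]
        · rw [Nat.testBit_lt_two_pow (lt_of_lt_of_le hn (Nat.pow_le_pow_right (by norm_num) hi)),
            Nat.testBit_two_pow_of_ne (by omega)]
          rfl
      have hn' : (n ^^^ 2 ^ m) ^^^ 2 ^ m = n := by rw [Nat.xor_assoc, Nat.xor_self, Nat.xor_zero]
      have e : act σ n ^^^ n =
          (act σ (n ^^^ 2 ^ m) ^^^ (n ^^^ 2 ^ m)) ^^^ (act σ (2 ^ m) ^^^ 2 ^ m) := by
        rw [xor_four _ _ (act σ (2 ^ m)), ← act_xor, hn']
      rw [e]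
      exact Nat.xor_lt_two_pow (n := 1) (ih _ hlt) (h m (Nat.lt_succ_self m))

theorem inW_toPerm {l : List ℕ} (h : inWL l = true) : InW (Golay.toPerm l) := by
  simp only [inWL, Bool.and_eq_true, beq_iff_eq, List.all_eq_true, List.mem_range,
    decide_eq_true_eq] at h
  have hv := Golay.inM24.valid h.1.1
  refine ⟨Golay.toPerm_mem_M24 h.1.1, ?_, fun n hn => ?_⟩
  · rw [act_toPerm hv]; exact h.1.2
  · have hl := act_xor_self_lt (σ := Golay.toPerm l) 7
      (fun k hk => by rw [act_toPerm hv]; exact h.2 k hk) n hn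
    have e : act (Golay.toPerm l) n = (act (Golay.toPerm l) n ^^^ n) ^^^ n := by
      rw [Nat.xor_assoc, Nat.xor_self, Nat.xor_zero]
    rcases Nat.le_one_iff_eq_zero_or_eq_one.1 (Nat.lt_succ_iff.1 hl) with e0 | e0 <;> rw [e, e0]
    · exact Or.inl (Nat.zero_xor n)
    · exact Or.inr (Nat.xor_comm 1 n)

/-- The image of a point under the candidate with the given translations on the tetrads. -/
def candImg (v i : ℕ) : ℕ :=
  (tetrads.getD (tetOf.getD i (0, 0)).1 []).getD
    ((tetOf.getD i (0, 0)).2 ^^^ (v / 4 ^ (tetOf.getD i (0, 0)).1 % 4)) 0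

/-- The candidates: a translation on each tetrad. -/
def candAt (v : ℕ) : List ℕ := (List.range 24).map (candImg v)

/-- Either one of the translations, or some generator of the code is not preserved. -/
def candTest (v : ℕ) : Bool :=
  wNums.contains v || Golay.genRows.any fun g => !Golay.isCodeMask (Golay.imageMask (candAt v) g)

theorem candTest_0 : (List.range' 0 512).all candTest = true := by decide +kernel

theorem candTest_1 : (List.range' 512 512).all candTest = true := by decide +kernel

theorem candTest_2 : (List.range' 1024 512).all candTest = true := by decide +kernel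

theorem candTest_3 : (List.range' 1536 512).all candTest = true := by decide +kernel

theorem candTest_4 : (List.range' 2048 512).all candTest = true := by decide +kernel

theorem candTest_5 : (List.range' 2560 512).all candTest = true := by decide +kernel

theorem candTest_6 : (List.range' 3072 512).all candTest = true := by decide +kernel

theorem candTest_7 : (List.range' 3584 512).all candTest = true := by decide +kernel

theorem candTest_all {v : ℕ} (hv : v < 4096) : candTest v = true := by
  have key : ∀ {a : ℕ}, (List.range' a 512).all candTest = true → a ≤ v → v < a + 512 →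
      candTest v = true := fun h h1 h2 =>
    List.all_eq_true.1 h v (List.mem_range'_1.2 ⟨h1, h2⟩)
  rcases Nat.lt_or_ge v 512 with h | h
  · exact key candTest_0 (by omega) (by omega)
  rcases Nat.lt_or_ge v 1024 with h | h
  · exact key candTest_1 (by omega) (by omega)
  rcases Nat.lt_or_ge v 1536 with h | h
  · exact key candTest_2 (by omega) (by omega)
  rcases Nat.lt_or_ge v 2048 with h | h
  · exact key candTest_3 (by omega) (by omega)
  rcases Nat.lt_or_ge v 2560 with h | h
  · exact key candTest_4 (by omega) (by omega)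
  rcases Nat.lt_or_ge v 3072 with h | h
  · exact key candTest_5 (by omega) (by omega)
  rcases Nat.lt_or_ge v 3584 with h | h
  · exact key candTest_6 (by omega) (by omega)
  rcases Nat.lt_or_ge v 4096 with h | h
  · exact key candTest_7 (by omega) (by omega)
  omega

theorem wNums_ok : wNums.map candAt = wList := by decide +kernel

theorem tetOf_ok : ∀ i < 24, (tetOf.getD i (0, 0)).1 < 6 ∧ (tetOf.getD i (0, 0)).2 < 4 ∧
    (tetrads.getD (tetOf.getD i (0, 0)).1 []).getD (tetOf.getD i (0, 0)).2 0 = i := by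
  decide +kernel

theorem testBit_foldl_lor_of {f : ℕ → ℕ} : ∀ (l : List ℕ) (acc j : ℕ),
    (acc.testBit j = true ∨ ∃ i ∈ l, f i = j) →
      (l.foldl (fun a i => a ||| (1 <<< f i)) acc).testBit j = true
  | [], _, _, h => by simpa using h
  | i :: l, acc, j, h => by
    refine testBit_foldl_lor_of l _ j ?_
    rcases h with h | ⟨k, hk, e⟩
    · exact Or.inl (by simp [h])
    · rcases List.mem_cons.1 hk with rfl | hk
      · exact Or.inl (by simp [Nat.one_shiftLeft, e])
      · exact Or.inr ⟨k, hk, e⟩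

theorem validList_imageList (σ : Equiv.Perm GolayPt) :
    Golay.validList (Golay.imageList σ) = true := by
  rw [Golay.validList, beq_iff_eq]
  refine Nat.eq_of_testBit_eq fun j => ?_
  rw [Nat.testBit_two_pow_sub_one, Bool.eq_iff_iff, decide_eq_true_eq]
  refine ⟨fun h => ?_, fun hj => testBit_foldl_lor_of _ _ _ (Or.inr ?_)⟩
  · rcases Golay.testBit_foldl_lor _ _ _ _ h with h' | ⟨i, -, rfl⟩
    · simp at h'
    · exact Nat.mod_lt _ (by norm_num)
  · refine ⟨(Golay.idx (σ⁻¹ (Golay.pt ⟨j, hj⟩))).val, List.mem_range.2 (Fin.isLt _), ?_⟩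
    have e : Golay.pt (Golay.idx (σ⁻¹ (Golay.pt ⟨j, hj⟩))) = σ⁻¹ (Golay.pt ⟨j, hj⟩) :=
      Golay.ptEquiv.symm_apply_apply _
    simp only [Golay.applyNum, Golay.imageList]
    rw [List.getD_eq_getElem _ _ (by simp)]
    simp only [List.getElem_map, List.getElem_finRange]
    show (Golay.idx (σ (Golay.pt (Golay.idx (σ⁻¹ (Golay.pt ⟨j, hj⟩)))))).val % 24 = j
    rw [e]
    simp [Golay.idx_pt, Nat.mod_eq_of_lt hj]

theorem pair_cases {α : Type*} [DecidableEq α] {a b c d : α}
    (h : ({a, b} : Finset α) = {c, d}) : (a = c ∧ b = d) ∨ (a = d ∧ b = c) := by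
  have h1 : ({a, b} : Set α) = {c, d} := by
    simpa using congrArg (fun s : Finset α => (s : Set α)) h
  exact Set.pair_eq_pair_iff.1 h1

/-- What is used of each tetrad. -/
def tetOK (t : List ℕ) : Bool :=
  t.length == 4 && (List.range 4).all fun j => (List.range 4).all fun k =>
    j == k || (decide (cdList.getD (t.getD j 0) 0 ^^^ cdList.getD (t.getD k 0) 0 < 128) &&
      decide (t.getD j 0 < 24) && t.getD j 0 != t.getD k 0)

theorem tetrads_ok : tetrads.all tetOK = true ∧
    (tetrads.map fun t => cdList.getD (t.getD 0 0) 0 ^^^ cdList.getD (t.getD 1 0) 0 ^^^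
      (cdList.getD (t.getD 2 0) 0 ^^^ cdList.getD (t.getD 3 0) 0)) = List.replicate 6 1 := by
  decide +kernel

theorem translation_cases {σ : Equiv.Perm GolayPt} (hσ : InW σ) {a b c d : GolayPt} (hab : a ≠ b)
    (hac : a ≠ c) (had : a ≠ d) (hbc : b ≠ c) (hbd : b ≠ d) (hcd : c ≠ d)
    (h1 : cd a ^^^ cd b < 128) (h2 : cd a ^^^ cd c < 128)
    (hsum : cd a ^^^ cd b ^^^ (cd c ^^^ cd d) = 1) :
    (σ a = a ∧ σ b = b ∧ σ c = c ∧ σ d = d) ∨ (σ a = b ∧ σ b = a ∧ σ c = d ∧ σ d = c) ∨
    (σ a = c ∧ σ b = d ∧ σ c = a ∧ σ d = b) ∨ (σ a = d ∧ σ b = c ∧ σ c = b ∧ σ d = a) := by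
  have h3 : cd a ^^^ cd d < 128 := by
    have e : cd a ^^^ cd d = 1 ^^^ (cd b ^^^ cd c) := by
      rw [← hsum, xor_four' (cd a) (cd b) (cd c) (cd d), Nat.xor_assoc, Nat.xor_self, Nat.xor_zero]
    have e' : cd b ^^^ cd c = (cd a ^^^ cd b) ^^^ (cd a ^^^ cd c) := (xor_cancel_mid _ _ _).symm
    rw [e, e']
    exact Nat.xor_lt_two_pow (n := 7) (by norm_num) (Nat.xor_lt_two_pow (n := 7) h1 h2)
  have pick : ∀ {p q r s : GolayPt}, p ≠ q → r ≠ s → cd p ^^^ cd q < 128 →
      cd p ^^^ cd q ^^^ (cd r ^^^ cd s) = 1 →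
      (σ p = p ∧ σ q = q) ∨ (σ p = q ∧ σ q = p) ∨ (σ p = r ∧ σ q = s) ∨ (σ p = s ∧ σ q = r) := by
    intro p q r s hpq hrs hlt hs
    have hpq' : σ p ≠ σ q := fun e => hpq (σ.injective e)
    rcases hσ.2.2 _ hlt with e | e <;> rw [act_pair hσ.1] at e
    · rcases pair_cases (pair_inj hpq' hpq e) with e' | e'
      · exact Or.inl e'
      · exact Or.inr (Or.inl e')
    · have e2 : cd p ^^^ cd q ^^^ 1 = cd r ^^^ cd s := by
        rw [← hs, ← Nat.xor_assoc, Nat.xor_self, Nat.zero_xor]
      rcases pair_cases (pair_inj hpq' hrs (e.trans e2)) with e' | e'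
      · exact Or.inr (Or.inr (Or.inl e'))
      · exact Or.inr (Or.inr (Or.inr e'))
  have p1 := pick hab hcd h1 hsum
  have p2 := pick hac hbd h2 (by rw [← hsum]; exact xor_four _ _ _ _)
  have p3 := pick had hbc h3 (by rw [← hsum]; exact (xor_four' _ _ _ _).symm)
  clear pick h1 h2 h3 hsum
  rcases p1 with h | h | h | h <;> rcases p2 with h' | h' | h' | h' <;> grind

/-- **inW_count.** The translations are the 64 listed permutations. -/
theorem inW_iff_mem {σ : Equiv.Perm GolayPt} :
    InW σ ↔ ∃ l ∈ wList, Golay.toPerm l = σ := by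
  refine ⟨fun hσ => ?_, ?_⟩
  swap
  · rintro ⟨l, hl, rfl⟩
    exact inW_toPerm (List.all_eq_true.1 wList_ok l hl)
  have key : ∀ j, j < 6 → ∃ v, v < 4 ∧ ∀ q, q < 4 →
      (Golay.idx (σ (Golay.ptN ((tetrads.getD j []).getD q 0)))).val =
        (tetrads.getD j []).getD (q ^^^ v) 0 := by
    intro j hj
    set t := tetrads.getD j [] with ht
    have hlen : tetrads.length = 6 := rfl
    have htm : t ∈ tetrads := by
      rw [ht, List.getD_eq_getElem _ _ (hlen ▸ hj)]; exact List.getElem_mem _
    have hok := List.all_eq_true.1 tetrads_ok.1 t htm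
    simp only [tetOK, Bool.and_eq_true, List.all_eq_true, List.mem_range, Bool.or_eq_true,
      beq_iff_eq, decide_eq_true_eq, bne_iff_ne] at hok
    have hlt : ∀ q, q < 4 → t.getD q 0 < 24 := fun q hq => by
      rcases (hok.2 q hq ((q + 1) % 4) (Nat.mod_lt _ (by norm_num))) with h | h
      · omega
      · exact h.1.2
    have hcd : ∀ q, q < 4 → cd (Golay.ptN (t.getD q 0)) = cdList.getD (t.getD q 0) 0 := fun q hq => by
      rw [cd, Golay.idx_ptN (hlt q hq)]
    have hne : ∀ q k, q < 4 → k < 4 → q ≠ k → Golay.ptN (t.getD q 0) ≠ Golay.ptN (t.getD k 0) := by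
      intro q k hq hk hqk e
      have e' := congrArg (fun x => (Golay.idx x).val) e
      simp only [Golay.idx_ptN (hlt q hq), Golay.idx_ptN (hlt k hk)] at e'
      rcases hok.2 q hq k hk with h | h
      · exact hqk h
      · exact h.2 e'
    have h128 : ∀ q k, q < 4 → k < 4 → q ≠ k →
        cd (Golay.ptN (t.getD q 0)) ^^^ cd (Golay.ptN (t.getD k 0)) < 128 := by
      intro q k hq hk hqk
      rw [hcd q hq, hcd k hk]
      rcases hok.2 q hq k hk with h | h
      · exact absurd h hqk
      · exact h.1.1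
    have hsum : cd (Golay.ptN (t.getD 0 0)) ^^^ cd (Golay.ptN (t.getD 1 0)) ^^^
        (cd (Golay.ptN (t.getD 2 0)) ^^^ cd (Golay.ptN (t.getD 3 0))) = 1 := by
      rw [hcd 0 (by norm_num), hcd 1 (by norm_num), hcd 2 (by norm_num), hcd 3 (by norm_num)]
      refine List.eq_of_mem_replicate (n := 6) ?_
      rw [← tetrads_ok.2]
      exact List.mem_map.2 ⟨t, htm, rfl⟩
    have he : ∀ q k, k < 4 → σ (Golay.ptN (t.getD q 0)) = Golay.ptN (t.getD k 0) →
        (Golay.idx (σ (Golay.ptN (t.getD q 0)))).val = t.getD k 0 := fun q k hk e => by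
      rw [e, Golay.idx_ptN (hlt k hk)]
    rcases translation_cases hσ (hne 0 1 (by norm_num) (by norm_num) (by norm_num))
      (hne 0 2 (by norm_num) (by norm_num) (by norm_num))
      (hne 0 3 (by norm_num) (by norm_num) (by norm_num))
      (hne 1 2 (by norm_num) (by norm_num) (by norm_num))
      (hne 1 3 (by norm_num) (by norm_num) (by norm_num))
      (hne 2 3 (by norm_num) (by norm_num) (by norm_num))
      (h128 0 1 (by norm_num) (by norm_num) (by norm_num))
      (h128 0 2 (by norm_num) (by norm_num) (by norm_num)) hsum with h | h | h | h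
    all_goals obtain ⟨e0, e1, e2, e3⟩ := h
    · refine ⟨0, by norm_num, fun q hq => ?_⟩
      interval_cases q
      · exact he 0 0 (by norm_num) e0
      · exact he 1 1 (by norm_num) e1
      · exact he 2 2 (by norm_num) e2
      · exact he 3 3 (by norm_num) e3
    · refine ⟨1, by norm_num, fun q hq => ?_⟩
      interval_cases q
      · exact he 0 1 (by norm_num) e0
      · exact he 1 0 (by norm_num) e1
      · exact he 2 3 (by norm_num) e2
      · exact he 3 2 (by norm_num) e3
    · refine ⟨2, by norm_num, fun q hq => ?_⟩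
      interval_cases q
      · exact he 0 2 (by norm_num) e0
      · exact he 1 3 (by norm_num) e1
      · exact he 2 0 (by norm_num) e2
      · exact he 3 1 (by norm_num) e3
    · refine ⟨3, by norm_num, fun q hq => ?_⟩
      interval_cases q
      · exact he 0 3 (by norm_num) e0
      · exact he 1 2 (by norm_num) e1
      · exact he 2 1 (by norm_num) e2
      · exact he 3 0 (by norm_num) e3
  choose! f hf4 hf using key
  set v := f 0 + 4 * f 1 + 16 * f 2 + 64 * f 3 + 256 * f 4 + 1024 * f 5 with hv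
  have hb0 := hf4 0 (by norm_num)
  have hb1 := hf4 1 (by norm_num)
  have hb2 := hf4 2 (by norm_num)
  have hb3 := hf4 3 (by norm_num)
  have hb4 := hf4 4 (by norm_num)
  have hb5 := hf4 5 (by norm_num)
  have hv4096 : v < 4096 := by omega
  have hdig : ∀ j, j < 6 → v / 4 ^ j % 4 = f j := by
    intro j hj
    interval_cases j <;> norm_num <;> omega
  have hvalid : Golay.validList (Golay.imageList σ) = true := validList_imageList σ
  have hl : Golay.imageList σ = candAt v := by
    refine List.ext_getElem (by simp [candAt, Golay.imageList]) fun i h1 h2 => ?_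
    have hi : i < 24 := by simpa [candAt] using h2
    obtain ⟨hj, hq, e⟩ := tetOf_ok i hi
    have h := hf _ hj _ hq
    rw [e, ← hdig _ hj] at h
    have e2 : Golay.ptN i = Golay.pt ⟨i, hi⟩ := by simp [Golay.ptN, Nat.mod_eq_of_lt hi]
    rw [e2] at h
    simp only [Golay.imageList, candAt, List.getElem_map, List.getElem_finRange, List.getElem_range,
      candImg]
    exact h
  have hv' : v ∈ wNums := by
    rcases Bool.or_eq_true_iff.1 (candTest_all hv4096) with h | h
    · exact List.contains_iff_mem.1 h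
    · exfalso
      obtain ⟨g, hg, hbad⟩ := List.any_eq_true.1 h
      have h' : Golay.IsCodeSet (Golay.toPerm (Golay.imageList σ) • Golay.ptsOf g) := by
        rw [Golay.toPerm_imageList σ hvalid]
        exact Golay.M24_isCodeSet hσ.1 (Golay.genRows_isCodeSet g hg)
      rw [Golay.toPerm_smul_ptsOf hvalid,
        Golay.isCodeSet_ptsOf_iff (Golay.Classes.imageMask_lt _ _), hl] at h'
      simp [h'] at hbad
  refine ⟨candAt v, ?_, ?_⟩
  · rw [← wNums_ok]
    exact List.mem_map_of_mem hv'
  · rw [← hl]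
    exact Golay.toPerm_imageList σ hvalid

/-- **inW_count**, as a list. -/
theorem inW_count : ∃ L : List (List ℕ), L.length = 64 ∧ (∀ l ∈ L, Golay.inM24 l = true) ∧
    (L.map Golay.Classes.pack).Nodup ∧ ∀ σ, InW σ ↔ ∃ l ∈ L, Golay.toPerm l = σ :=
  ⟨wList, wList_nodup.2, fun l hl => by
    have := List.all_eq_true.1 wList_ok l hl
    simp only [inWL, Bool.and_eq_true] at this
    exact this.1.1, wList_nodup.1, fun _ => inW_iff_mem⟩

/-! ### The cover -/

/-- The check for one class of involutions. -/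
def coverOK (r : List ℕ) (ents : List (ℕ × List ℕ × List ℕ)) (imgs : List (ℕ × ℕ)) : Bool :=
  Golay.inM24 r && ents.all (fun e => Golay.inM24 e.2.1 && Golay.inM24 e.2.2 &&
      Golay.Classes.pack (Golay.compList e.2.1 e.2.2) == Golay.Classes.pack (List.range 24) &&
      inWL (Golay.compList (Golay.compList e.2.1 r) e.2.2) && decide (actL e.2.1 e.1 < 128)) &&
    imgs.all (fun p => decide (p.2 < 2048) && p.1 == (p.2 ^^^ actL r p.2)) &&
    (List.range 2048).all fun n => actL r n != n ||
      ents.any fun e => imgs.any fun p => p.1 == (n ^^^ e.1)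

theorem cover_ok8 : coverOK Golay.ClassData.rep2f8 ents8 imgs8 = true := by decide +kernel

theorem cover_ok0 : coverOK Golay.ClassData.rep2f0 ents0 imgs0 = true := by decide +kernel

/-- **cover.** An involution with a fixed class is moved to a translation with a class below 128. -/
theorem cover {σ : Equiv.Perm GolayPt} (hσ : σ ∈ Cfsg.M24) (h2 : σ * σ = 1) (h1 : σ ≠ 1) {c : ℕ}
    (_hc : c < 2048) (hfix : act σ c = c) :
    ∃ g ∈ Cfsg.M24, ∃ d < 2048, InW (g * σ * g⁻¹) ∧ act g (c ^^^ d ^^^ act σ d) < 128 := by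
  have hord : orderOf σ = 2 := orderOf_eq_prime (by rw [pow_two]; exact h2) h1
  obtain ⟨r, hr, k, hk, hkr⟩ := Golay.Classes.classify_two hσ hord
  obtain ⟨ents, imgs, hok⟩ : ∃ ents imgs, coverOK r ents imgs = true := by
    simp only [List.mem_cons, List.not_mem_nil, or_false] at hr
    rcases hr with rfl | rfl
    exacts [⟨_, _, cover_ok8⟩, ⟨_, _, cover_ok0⟩]
  simp only [coverOK, Bool.and_eq_true, List.all_eq_true, List.mem_range, beq_iff_eq,
    decide_eq_true_eq, Bool.or_eq_true, bne_iff_ne, List.any_eq_true] at hok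
  obtain ⟨⟨⟨hrM, hents⟩, himgs⟩, hcov⟩ := hok
  have hrv := Golay.inM24.valid hrM
  have hR : Golay.toPerm r ∈ Cfsg.M24 := Golay.toPerm_mem_M24 hrM
  set c' := act k⁻¹ c with hc'
  have hc'lt : c' < 2048 := act_lt _ _
  have hfix' : actL r c' = c' := by
    rw [← act_toPerm hrv, hc', ← act_mul hR]
    have e : Golay.toPerm r * k⁻¹ = k⁻¹ * σ := by rw [← hkr]; group
    rw [e, act_mul (inv_mem hk), hfix]
  obtain ⟨e, he, p, hp, hpe⟩ := (hcov c' hc'lt).resolve_left (not_not.2 hfix')
  obtain ⟨⟨⟨⟨hgM, hgiM⟩, hinv⟩, hW⟩, hlow⟩ := hents e he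
  obtain ⟨hd, hpd⟩ := himgs p hp
  set g := Golay.toPerm e.2.1 with hg
  have hgv := Golay.inM24.valid hgM
  have hgiv := Golay.inM24.valid hgiM
  have hgmem : g ∈ Cfsg.M24 := Golay.toPerm_mem_M24 hgM
  have hginv : Golay.toPerm e.2.2 = g⁻¹ := by
    refine eq_inv_of_mul_eq_one_right (Equiv.ext fun x => Golay.ptEquiv.injective (Fin.ext ?_))
    show (Golay.idx (g (Golay.toPerm e.2.2 x))).val = (Golay.idx x).val
    rw [hg, Golay.idx_toPerm hgv, Golay.idx_toPerm hgiv,
      ← Golay.applyNum_compList _ _ (Golay.idx x).isLt, ← Golay.Classes.pimg_pack, hinv,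
      Golay.Classes.pimg_pack]
    simp [Golay.applyNum, Nat.mod_eq_of_lt]
  have hWp : InW (g * Golay.toPerm r * g⁻¹) := by
    have h := inW_toPerm hW
    have hv3 : Golay.validList (Golay.compList (Golay.compList e.2.1 r) e.2.2) = true := by
      simp only [inWL, Bool.and_eq_true] at hW
      exact Golay.inM24.valid hW.1.1
    have e3 : Golay.toPerm (Golay.compList (Golay.compList e.2.1 r) e.2.2) =
        g * Golay.toPerm r * g⁻¹ := by
      rw [← hginv]
      refine Equiv.ext fun x => Golay.ptEquiv.injective (Fin.ext ?_)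
      show (Golay.idx (Golay.toPerm _ x)).val =
        (Golay.idx (g (Golay.toPerm r (Golay.toPerm e.2.2 x)))).val
      rw [Golay.idx_toPerm hv3, hg, Golay.idx_toPerm hgv, Golay.idx_toPerm hrv,
        Golay.idx_toPerm hgiv, Golay.applyNum_compList _ _ (Golay.idx x).isLt,
        Golay.applyNum_compList _ _ (Golay.applyNum_lt _ _)]
    rwa [← e3]
  refine ⟨g * k⁻¹, mul_mem hgmem (inv_mem hk), act k p.2, act_lt _ _, ?_, ?_⟩
  · rwa [← hkr, show g * k⁻¹ * (k * Golay.toPerm r * k⁻¹) * (g * k⁻¹)⁻¹ =
      g * Golay.toPerm r * g⁻¹ by group]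
  · have hd' : act k⁻¹ (act k p.2) = p.2 := by
      rw [← act_mul (inv_mem hk), inv_mul_cancel, act_one hd]
    have hd2 : act k⁻¹ (act σ (act k p.2)) = actL r p.2 := by
      have e3 : k⁻¹ * (σ * k) = Golay.toPerm r := by rw [← hkr]; group
      rw [← act_mul hσ, ← act_mul (inv_mem hk), e3, act_toPerm hrv]
    rw [act_mul hgmem, act_xor k⁻¹, act_xor k⁻¹, hd', hd2, ← hc', Nat.xor_assoc,
      ← hpd, hpe, ← Nat.xor_assoc, Nat.xor_self, Nat.zero_xor, hg, act_toPerm hgv]
    exact hlow

end Cfsg.Agent.Lib.J4Two56
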