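import Cfsg.Agent.Lib.Golay.Perm
import Cfsg.Agent.Lib.Golay.Chain

/-!
# The even cocode of the Golay code in coordinates

`cd p` is the number of a point; the class of an even set of points is the exclusive or of the numbers of
its members, a number below 2048.  The classes of the pairs are the 276 numbers with `isD`.  The number 1
is the class of a sextet: the fixed element `z` of the J4-type analysis.
-/

set_option autoImplicit false

namespace Cfsg.Agent.Lib.J4Two56

open Cfsg Cfsg.Agent.Lib
open scoped symmDiff Pointwise

/-- The numbers of the points. -/
def cdList : List ℕ := [0, 2, 4, 7, 542, 1126, 314, 534, 1017, 328, 519, 263, 526, 1159, 1031, 979, 941, 1062, 1200, 902, 1244, 1258, 372, 1094]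

/-- The number of a point. -/
def cd (p : GolayPt) : ℕ := cdList.getD (Golay.idx p).val 0

/-- The mask of the classes of pairs. -/
def dMask : ℕ := 0x402008018010080180200401802008024002100804100280024004202008800210102010080404044080404002020201010101020101010201010102020202010108204008018010208001044010040110084002100480022004400210044001000065005900000000950000000000a9000000560000005600000056000000a96a000000009a00000000a600000000560408040440408040201010100202020140040220021040081002048008802002000000000000000000000000565656a940808080201020200808040801010102005900000000950065000000000000a904402002084010020480100204401001c00c30030c30c00330c00c03030303fc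

/-- Being the class of a pair. -/
def isD (n : ℕ) : Bool := Nat.testBit dMask n

/-- The class of a coded set of points. -/
def msum (m : ℕ) : ℕ :=
  (List.range 24).foldr (fun i r => (if m.testBit i then cdList.getD i 0 else 0) ^^^ r) 0

/-- Sets of points representing the unit numbers. -/
def repList : List (List ℕ) := [[0, 1, 2, 3], [0, 1], [0, 2], [4, 7], [4, 12], [5, 23], [5, 17], [13, 14], [3, 11], [3, 10], [3, 14]]

/-- The exclusive or of the numbers of the images of listed points. -/
def imgSum (σ : Equiv.Perm GolayPt) (l : List ℕ) : ℕ :=
  l.foldr (fun i r => cd (σ (Golay.ptN i)) ^^^ r) 0

/-- The action of a permutation on the numbers below 2048. -/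
def act (σ : Equiv.Perm GolayPt) (n : ℕ) : ℕ :=
  (List.range 11).foldr (fun k r => (if n.testBit k then imgSum σ (repList.getD k []) else 0) ^^^ r) 0

end Cfsg.Agent.Lib.J4Two56
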