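import Cfsg.Agent.Lib.J4Two56.Cert56
import Cfsg.Agent.Lib.J4Two56.Model

/-!
# The quadratic forms on the lines and the constants of the triples
-/

set_option autoImplicit false
set_option maxRecDepth 100000

namespace Cfsg.Agent.Lib.J4Two56

/-- The code of an index and the point through a vector. -/
def incCode (i v : ℕ) : ℕ := i * 64 + pnt v

/-- The maps on incidences. -/
def incGens : List (ℕ → ℕ) :=
  (List.range 4).map fun k x => M22D.uP k (x / 64) * 64 + pmap k (x % 64)

/-- A vector of the first line on or off the hyperoval. -/
def basePt (h : Bool) : ℕ :=
  ((List.range 64).find? fun v => inLine 1 v && !Nat.beq v 0 && Nat.beq (pnt v) v && (isHy v == h)).getD 0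

theorem basePt_ok : ([false, true].all fun h =>
    inLine 1 (basePt h) && decide (pnt (basePt h) = basePt h) && decide (basePt h < 64) && decide (basePt h ≠ 0)) = true := by
  decide +kernel

/-- The incidences of one kind. -/
def incList (h : Bool) : List ℕ :=
  (List.range 1024).filter fun x => !Nat.beq (x / 64) 0 && !Nat.beq (x % 64) 0 && inLine (x / 64) (x % 64) &&
    Nat.beq (pnt (x % 64)) (x % 64) && (isHy (x % 64) == h)

/-- The targets lie in a list. -/
def covered (T L : List ℕ) : Bool := T.all fun x => L.contains x

theorem incOrbit_hy : covered (incList true) (reach56 incGens 6 [incCode 1 (basePt true)]) = true := by decide +kernel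

theorem incOrbit_ext : covered (incList false) (reach56 incGens 6 [incCode 1 (basePt false)]) = true := by decide +kernel

theorem hyPnt_ok : ((List.range 16).all fun i => (List.range 64).all fun v =>
    Nat.beq i 0 || Nat.beq v 0 || !inLine i v || decide (incCode i v ∈ incList (isHy v))) = true := by decide +kernel

/-- The form taking given values on and off the hyperoval. -/
def qTab (a b : Bool) (v : ℕ) : Bool := !Nat.beq v 0 && (if isHy v then a else b)

/-- Polarisation. -/
def polTab (a b : Bool) (v w : ℕ) : Bool := qTab a b (v ^^^ w) ^^ qTab a b v ^^ qTab a b w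

theorem qOpt_ok : ([false, true].all fun a => [false, true].all fun b => (a && !b) ||
    (((List.range 64).filter (inLine 1)).any fun v => !Nat.beq v 0 &&
      ((List.range 64).filter (inLine 1)).all fun w => !polTab a b v w) ||
    (((List.range 64).filter (inLine 1)).any fun u => ((List.range 64).filter (inLine 1)).any fun v =>
      ((List.range 64).filter (inLine 1)).any fun w =>
        !(polTab a b (u ^^^ v) w == (polTab a b u w ^^ polTab a b v w)))) = true := by decide +kernel

/-- The maps on pairs of indices. -/
def pairGens : List (ℕ → ℕ) :=
  ((List.range 4).map fun k x => M22D.uP k (x / 16) * 16 + M22D.uP k (x % 16)) ++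
    [fun x => x % 16 * 16 + x / 16, fun x => x / 16 * 16 + (x / 16 ^^^ x % 16)]

/-- The pairs in the first class of triples, as a mask. -/
def class0Mask : ℕ := 0x2a54155485a44aa491986298946868683c42c3823312cc220f06f00a00fc0000

/-- A pair outside the first class. -/
def pair1 : ℕ := 24

/-- The pairs of one class. -/
def classList (c : Bool) : List ℕ :=
  (List.range 256).filter fun x => !(Nat.beq (x / 16) 0 || Nat.beq (x % 16) 0 || Nat.beq (x / 16) (x % 16)) &&
    (class0Mask.testBit x == c)

/-- The values of a tree of maps. -/
def treeVals (g : List (ℕ → ℕ)) (start : ℕ) (t : List (ℕ × ℕ)) : List ℕ :=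
  t.foldl (fun acc e => acc ++ [(g.getD e.1 id) (acc.getD e.2 start)]) [start]

theorem treeVals_const {g : List (ℕ → ℕ)} {C : ℕ → Prop} (hC : ∀ h ∈ g, ∀ x, C x → C (h x)) {start : ℕ}
    (hs : C start) (t : List (ℕ × ℕ)) : ∀ x ∈ treeVals g start t, C x := by
  have key : ∀ (t : List (ℕ × ℕ)) (acc : List ℕ), (∀ x ∈ acc, C x) →
      ∀ x ∈ t.foldl (fun acc e => acc ++ [(g.getD e.1 id) (acc.getD e.2 start)]) acc, C x := by
    intro t
    induction t with
    | nil => exact fun acc h => h
    | cons e t ih =>
      intro acc h
      refine ih _ fun x hx => ?_
      rw [List.mem_append, List.mem_singleton] at hx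
      rcases hx with hx | rfl
      · exact h x hx
      · have hp : C (acc.getD e.2 start) := by
          rw [List.getD_eq_getElem?_getD]
          cases he : acc[e.2]? with
          | none => exact hs
          | some y => exact h y (List.mem_of_getElem? he)
        rw [List.getD_eq_getElem?_getD]
        cases he : g[e.1]? with
        | none => exact hp
        | some f => exact hC f (List.mem_of_getElem? he) _ hp
  exact key t [start] (by simpa using hs)

/-- A spanning tree of the first class. -/
def tree0 : List (ℕ × ℕ) := [(0, 0), (1, 0), (2, 0), (3, 0), (4, 0), (5, 0), (0, 1), (1, 1), (2, 1), (3, 1), (4, 1), (5, 1), (1, 2), (2, 2), (3, 2), (4, 2), (0, 3), (4, 3), (5, 3), (0, 4), (1, 4), (2, 4), (3, 4), (4, 4), (5, 4), (5, 5), (4, 6), (2, 7), (3, 7), (4, 7), (2, 8), (0, 9), (2, 9), (3, 9), (4, 9), (5, 9), (2, 10), (3, 10), (4, 12), (3, 13), (3, 14), (4, 14), (2, 15), (3, 15), (3, 17), (5, 18), (0, 20), (2, 20), (4, 20), (5, 20), (1, 21), (2, 21), (3, 21), (0, 22), (3, 22), (5, 22), (0, 23), (5, 24), (4, 25), (0, 28), (3, 28), (0, 29), (1, 29), (2, 29), (3, 29), (3, 33), (0, 34), (2, 34), (4, 34), (3, 37), (1, 38), (2, 38), (0, 40),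 (2, 40), (3, 40), (0, 41), (0, 44), (1, 44), (2, 44), (1, 45), (2, 45), (0, 48), (2, 48), (5, 48), (1, 53), (3, 53), (5, 54), (0, 68), (2, 68)]

/-- A spanning tree of the second class. -/
def tree1 : List (ℕ × ℕ) := [(0, 0), (1, 0), (2, 0), (3, 0), (4, 0), (5, 0), (0, 1), (1, 1), (2, 1), (3, 1), (4, 1), (5, 1), (1, 2), (2, 2), (3, 2), (4, 2), (5, 2), (0, 3), (2, 3), (3, 3), (4, 3), (5, 3), (0, 4), (1, 4), (2, 4), (3, 4), (4, 4), (5, 4), (5, 5), (4, 6), (1, 7), (2, 7), (3, 7), (4, 7), (5, 7), (1, 8), (2, 8), (3, 8), (4, 8), (5, 8), (0, 9), (2, 9), (3, 9), (4, 9), (5, 9), (0, 10), (1, 10), (2, 10), (4, 10), (5, 10), (5, 11), (4, 12), (3, 13), (5, 13), (3, 14), (4, 14), (5, 14), (0, 15), (1, 15), (4, 15), (5, 15), (5, 16), (4, 17), (3, 18), (4, 18), (5, 18), (0, 19), (4, 19), (5, 19), (0, 20), (2, 20), (4, 20), (5, 21), (4, 22), (0, 23), (1, 23), (3, 23), (5, 23), (1, 24), (2, 24), (3, 24), (4, 24), (3, 25), (5, 25), (0, 26), (4, 26), (5, 26), (4, 28), (1, 31), (2, 31), (3, 31), (4, 31), (3, 32), (4, 32), (5, 32), (3, 36), (5, 36), (4, 37), (5, 38), (4, 40), (2, 41), (3, 42), (1, 43), (4, 43), (5, 43), (5, 44), (3, 46), (5, 46), (4, 48), (4,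 50), (0, 53), (5, 53), (1, 55), (3, 55), (1, 76), (0, 83), (5, 85), (1, 103), (5, 103)]

theorem pairOrbit0_ok : covered (classList true) (treeVals pairGens 18 tree0) = true := by decide +kernel

theorem pairOrbit1_ok : covered (classList false) (treeVals pairGens pair1 tree1) = true := by decide +kernel

/-- The constant of a pair of indices. -/
def kTab (c0 c1 : Bool) (i j : ℕ) : Bool :=
  !(Nat.beq i 0 || Nat.beq j 0 || Nat.beq i j) && (if class0Mask.testBit (i * 16 + j) then c0 else c1)

/-- The correction of the chosen lifts. -/
def epsC (c0 c1 : Bool) (i : ℕ) : Bool :=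
  ((List.range 4).foldl (fun (r : ℕ × Bool) k =>
    if i.testBit k then (r.1 ^^^ 2 ^ k, r.2 ^^ kTab c0 c1 r.1 (2 ^ k)) else r) (0, false)).2

/-- The elements not conjugate to `z`, in the numbering of a choice of constants. -/
def isO (c0 c1 : Bool) (n : ℕ) : Bool :=
  if Nat.beq (n / 128) 0 then !Nat.beq (n / 2 % 64) 0 && isHy (n / 2 % 64)
  else inLine (n / 128) (n / 2 % 64) &&
    ((n % 2 == 1) == (qTab true false (n / 2 % 64) ^^ epsC c0 c1 (n / 128)))

theorem eps_cocycle : ([false, true].all fun a => [false, true].all fun b => (List.range 16).all fun i =>
    (List.range 16).all fun j => (epsC a b i ^^ epsC a b j ^^ kTab a b i j) == epsC a b (i ^^^ j)) = true := by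
  decide +kernel

/-- The elements not conjugate to `z`, as masks. -/
def oMask (c0 c1 : Bool) : ℕ :=
  if c0 then (if c1 then 0x40200801801008018020040180200802800120040820014001800810100440011010201008040404408040400202020102020201020202010202020101010102010820400801801020800104401004012004800120084001100880012008800200009a00a6000000006a000000000056000000560000005600000056000000a9950000000065000000005900000000a90804080880804080102020200101010240040220021040081002048008802002000000000000000000000000565656a940808080201020200808040801010102005900000000950065000000000000a904402002084010020480100204401001c00c30030c30c00330c00c03030303fc else 0x402008018010080180200401802008024002100804100280024004202008800210102010080404044080404002020201010101020101010201010102020202010108204008018010208001044010040110084002100480022004400210044001000065005900000000950000000000a9000000560000005600000056000000a96a000000009a00000000a600000000560408040440408040201010100202020140040220021040081002048008802002000000000000000000000000565656a940808080201020200808040801010102005900000000950065000000000000a904402002084010020480100204401001c00c30030c30c00330c00c03030303fc)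
  else (if c1 then 0x80100402402004024010080240100401400210080410028002400420200880021010201008040404408040400202020102020201020202010202020101010102010820400801801020800104401004012004800120084001100880012008800200009a00a6000000006a000000000056000000560000005600000056000000a96a000000009a00000000a600000000560804080880804080102020200101010280080110012080042001084004401001000000000000000000000000565656a980404040102010100404080402020201005900000000950065000000000000a904402002084010020480100204401001c00c30030c30c00330c00c03030303fc else 0x801004024020040240100802401004018001200408200140018008101004400110102010080404044080404002020201010101020101010201010102020202010108204008018010208001044010040110084002100480022004400210044001000065005900000000950000000000a9000000560000005600000056000000a9950000000065000000005900000000a90408040440408040201010100202020180080110012080042001084004401001000000000000000000000000565656a980404040102010100404080402020201005900000000950065000000000000a904402002084010020480100204401001c00c30030c30c00330c00c03030303fc)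

theorem oMask_ok : ([false, true].all fun a => [false, true].all fun b => (List.range 2048).all fun n =>
    isO a b n == (oMask a b).testBit n) = true := by decide +kernel

/-- Number of neighbours. -/
def nbO (c0 c1 : Bool) (n : ℕ) : ℕ :=
  ((List.range 2048).filter fun m => (oMask c0 c1).testBit m && (oMask c0 c1).testBit (n ^^^ m)).length

/-- Neighbour numbers against 44, with the members listed once. -/
def nbCheck (mask : ℕ) (L : List ℕ) : Bool :=
  L.all fun d => (Nat.beq ((L.filter fun m => mask.testBit (d ^^^ m)).length) 44) == Nat.blt d 128

/-- A third of the check. -/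
def nbPart (mask : ℕ) (L : List ℕ) (k : ℕ) : Bool :=
  ((L.drop (92 * k)).take 92).all fun d =>
    (Nat.beq ((L.filter fun m => mask.testBit (d ^^^ m)).length) 44) == Nat.blt d 128

theorem kOpt_00_0 : nbPart (oMask false false) ((List.range 2048).filter (oMask false false).testBit) 0 = true := by
  decide +kernel

theorem kOpt_00_1 : nbPart (oMask false false) ((List.range 2048).filter (oMask false false).testBit) 1 = true := by
  decide +kernel

theorem kOpt_00_2 : nbPart (oMask false false) ((List.range 2048).filter (oMask false false).testBit) 2 = true := by
  decide +kernel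

theorem kOpt_01_0 : nbPart (oMask false true) ((List.range 2048).filter (oMask false true).testBit) 0 = true := by
  decide +kernel

theorem kOpt_01_1 : nbPart (oMask false true) ((List.range 2048).filter (oMask false true).testBit) 1 = true := by
  decide +kernel

theorem kOpt_01_2 : nbPart (oMask false true) ((List.range 2048).filter (oMask false true).testBit) 2 = true := by
  decide +kernel

theorem kOpt_11_0 : nbPart (oMask true true) ((List.range 2048).filter (oMask true true).testBit) 0 = true := by
  decide +kernel

theorem kOpt_11_1 : nbPart (oMask true true) ((List.range 2048).filter (oMask true true).testBit) 1 = true := by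
  decide +kernel

theorem kOpt_11_2 : nbPart (oMask true true) ((List.range 2048).filter (oMask true true).testBit) 2 = true := by
  decide +kernel

theorem isO_isD : oMask true false = dMask := by decide +kernel

/-- The unit vectors as sums of members below 128. -/
def lowReps : List (List ℕ) := [[2, 3], [2], [4], [8], [16], [32], [64]]

theorem lowReps_ok : ((List.range 7).all fun k => let l := lowReps.getD k []
    (Nat.beq (l.foldr (fun m r => m ^^^ r) 0) (2 ^ k)) && l.all fun m => Nat.blt m 128 && isO true false m) = true := by
  decide +kernel

theorem low_same : ([false, true].all fun a => [false, true].all fun b => (List.range 128).all fun n =>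
    isO a b n == isO true false n) = true := by decide +kernel

theorem eps_epsW : ((List.range 16).all fun i => (if epsC true false i then 1 else 0) == epsW i) = true := by
  decide +kernel

end Cfsg.Agent.Lib.J4Two56
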