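import Cfsg.Agent.Lib.J4Two56.Model

/-!
# An elementary abelian group of order `2¹¹` with its normaliser inducing `M₂₄`

The interface between the local analysis at `z` (which constructs it) and the global arguments (the
centraliser of an element of the small orbit, the two classes of involutions).
-/

set_option autoImplicit false

universe u

namespace Cfsg.Agent.Lib.J4Two56

open Cfsg Cfsg.Agent.Lib

/-- The classes of sextets: non-zero and not the class of a pair. -/
def IsQ (n : ℕ) : Prop := n ≠ 0 ∧ isD n = false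

/-- The translations of the tetrads of the sextet numbered `1`. -/
def InW (σ : Equiv.Perm GolayPt) : Prop :=
  σ ∈ Cfsg.M24 ∧ act σ 1 = 1 ∧ ∀ n, n < 128 → act σ n = n ∨ act σ n = n ^^^ 1

/-- The subgroup, its coordinates, and the action of its normaliser. -/
structure Todd (G : Type u) [Group G] (z : G) : Type u where
  el : ℕ → G
  el_xor : ∀ a, a < 2048 → ∀ b, b < 2048 → el (a ^^^ b) = el a * el b
  el_inj : ∀ a, a < 2048 → ∀ b, b < 2048 → el a = el b → a = b
  el_z : el 1 = z
  V : Subgroup G
  mem_V : ∀ x, x ∈ V ↔ ∃ a, a < 2048 ∧ el a = x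
  cent : Subgroup.centralizer (V : Set G) ≤ V
  uniq : ∀ g : G, (∀ v ∈ V, g * v * g⁻¹ ∈ Subgroup.normalizer (V : Set G)) →
    g ∈ Subgroup.normalizer (V : Set G)
  cls : ∀ a, a < 2048 → (IsConj z (el a) ↔ IsQ a)
  ρ : ↥(Subgroup.normalizer (V : Set G)) →* ↥Cfsg.M24
  ρ_spec : ∀ (n : ↥(Subgroup.normalizer (V : Set G))) (a : ℕ), a < 2048 →
    (n : G) * el a * (n : G)⁻¹ = el (act ((ρ n : ↥Cfsg.M24) : Equiv.Perm GolayPt) a)
  ρ_surj : Function.Surjective ρ

namespace Todd

variable {G : Type u} [Group G] {z : G}

/-- The statement proved at the centraliser of `z`: an element centralising a sextet element and a pair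
element normalises the subgroup. -/
def CentQD (T : Todd G z) : Prop :=
  ∀ a b, a < 2048 → b < 2048 → IsQ a → isD b = true → ∀ g : G,
    g * T.el a = T.el a * g → g * T.el b = T.el b * g → g ∈ Subgroup.normalizer (T.V : Set G)

end Todd

end Cfsg.Agent.Lib.J4Two56
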