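import Cfsg.Agent.Lib.J4Two56.Frame
import Cfsg.Agent.Lib.J4Two56.Todd

/-!
# The coordinates on the elementary subgroup of order `2 ^ 11` at `z`
-/

set_option autoImplicit false

universe u

namespace Cfsg.Agent.Lib.J4Two56

open Cfsg Cfsg.Agent.Lib.J4Type19

/-- Correction of the chosen lift of an index. -/
def epsW (i : ℕ) : ℕ := [0, 0, 0, 1, 0, 1, 0, 1, 0, 0, 0, 0, 0, 0, 1, 1].getD i 0

variable {G : Type u} [Group G] [Finite G] {z : G} {P : Subgroup G}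

/-- The coordinates at `z`. -/
structure Loc (D : HData z P) (X : Plus M22t) (L : Lifts D.toJMod X.F) : Type u where
  f : Frame56 D X L
  T : Todd G z
  mem_B : ∀ b : G, b ∈ T.V ↔ D.InSpan X.F.U0 b
  x : ℕ → ↥(cC z P)
  x_zero : x 0 = 1
  x_π : ∀ i, i < 16 → D.π (x i) = X.u i
  x_sq : ∀ i, i < 16 → x i * x i = 1
  x_nz : ∀ i, i < 16 → i ≠ 0 → ¬ IsConj z (x i : G)
  x_z : ∀ i, i < 16 → i ≠ 0 → IsConj z ((x i : G) * z)
  el_eq : ∀ n, n < 2048 → T.el n =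
    z ^ (n % 2) * (secV D (f.vec (n / 2 % 64)) : G) * ((x (n / 128) : G) * z ^ epsW (n / 128))
  conjB : ∀ V : Subgroup G, Cfsg.IsElementaryAbelian 2 V → Nat.card ↥V = 2 ^ 11 →
    ∃ g : G, V = T.V.map (MulAut.conj g).toMonoidHom

end Cfsg.Agent.Lib.J4Two56
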