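import Cfsg.Agent.Lib.J4Two56.Model
import Cfsg.Agent.Lib.J4Two56.Todd
import Cfsg.Agent.Lib.Golay.Transitive

/-!
# The even cocode in coordinates: the class map, the action of `M₂₄`, and its two orbits
-/

set_option autoImplicit false

namespace Cfsg.Agent.Lib.J4Two56

open Cfsg Cfsg.Agent.Lib
open scoped symmDiff Pointwise

/-! ## Folds of exclusive ors -/

theorem foldr_bit_xor (l : List ℕ) (f : ℕ → ℕ) (a b : ℕ) :
    l.foldr (fun i r => (if (a ^^^ b).testBit i then f i else 0) ^^^ r) 0 =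
      l.foldr (fun i r => (if a.testBit i then f i else 0) ^^^ r) 0 ^^^
        l.foldr (fun i r => (if b.testBit i then f i else 0) ^^^ r) 0 := by
  induction l with
  | nil => simp
  | cons i l ih =>
    rw [List.foldr_cons, List.foldr_cons, List.foldr_cons, ih, Nat.testBit_xor]
    generalize l.foldr (fun i r => (if a.testBit i then f i else 0) ^^^ r) 0 = x
    generalize l.foldr (fun i r => (if b.testBit i then f i else 0) ^^^ r) 0 = y
    cases a.testBit i <;> cases b.testBit i <;>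
      simp [Nat.xor_assoc, Nat.xor_left_comm, Nat.xor_xor_cancel_left]

theorem foldr_bit_lt {N : ℕ} (l : List ℕ) (f : ℕ → ℕ) (hf : ∀ i, f i < 2 ^ N) (a : ℕ) :
    l.foldr (fun i r => (if a.testBit i then f i else 0) ^^^ r) 0 < 2 ^ N := by
  induction l with
  | nil => exact Nat.two_pow_pos N
  | cons i l ih =>
    rw [List.foldr_cons]
    refine Nat.xor_lt_two_pow ?_ ih
    cases a.testBit i
    · simpa using Nat.two_pow_pos N
    · simpa using hf i

theorem xor_lt {a b : ℕ} (ha : a < 2048) (hb : b < 2048) : a ^^^ b < 2048 :=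
  Nat.xor_lt_two_pow (n := 11) ha hb

/-! ## The numbers of the points and of the sets -/

theorem cdList_lt (i : ℕ) : cdList.getD i 0 < 2048 := by
  by_cases h : i < 24
  · exact (show ∀ j < 24, cdList.getD j 0 < 2048 by decide +kernel) i h
  · rw [List.getD_eq_default _ _ (by show 24 ≤ i; omega)]
    norm_num

theorem cd_lt (p : GolayPt) : cd p < 2048 := cdList_lt _

theorem cd_pt (i : Fin 24) : cd (Golay.pt i) = cdList.getD i.val 0 := by
  rw [cd, Golay.idx_pt]

theorem cd_ptN {i : ℕ} (hi : i < 24) : cd (Golay.ptN i) = cdList.getD i 0 := by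
  rw [cd, Golay.idx_ptN hi]

theorem msum_xor (a b : ℕ) : msum (a ^^^ b) = msum a ^^^ msum b :=
  foldr_bit_xor _ _ a b

theorem msum_lt (m : ℕ) : msum m < 2048 :=
  foldr_bit_lt (N := 11) _ _ cdList_lt m

theorem msum_zero : msum 0 = 0 := by decide +kernel

/-- The class of a set of points. -/
def cls (s : Finset GolayPt) : ℕ := msum (Golay.maskOf s)

theorem cls_lt (s : Finset GolayPt) : cls s < 2048 := msum_lt _

theorem maskOf_symmDiff (s t : Finset GolayPt) :
    Golay.maskOf (s ∆ t) = Golay.maskOf s ^^^ Golay.maskOf t := by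
  refine Golay.ptsOf_injective (Golay.maskOf_lt _)
    (Nat.xor_lt_two_pow (Golay.maskOf_lt _) (Golay.maskOf_lt _)) ?_
  rw [Golay.ptsOf_xor, Golay.ptsOf_maskOf, Golay.ptsOf_maskOf, Golay.ptsOf_maskOf]

theorem cls_symmDiff (s t : Finset GolayPt) : cls (s ∆ t) = cls s ^^^ cls t := by
  rw [cls, maskOf_symmDiff, msum_xor, cls, cls]

theorem cls_empty : cls ∅ = 0 := by
  rw [cls, ← Golay.ptsOf_zero, Golay.maskOf_ptsOf (by norm_num), msum_zero]

theorem cls_singleton (p : GolayPt) : cls {p} = cd p := by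
  have h : ∀ i : Fin 24, msum (2 ^ i.val) = cdList.getD i.val 0 := by decide +kernel
  have e : Golay.maskOf {p} = 2 ^ (Golay.idx p).val := by
    refine Golay.ptsOf_injective (Golay.maskOf_lt _)
      (Nat.pow_lt_pow_right (by norm_num) (Golay.idx p).isLt) ?_
    rw [Golay.ptsOf_maskOf]
    ext q
    rw [Finset.mem_singleton, Golay.mem_ptsOf, Nat.testBit_two_pow, decide_eq_true_eq,
      ← Fin.ext_iff]
    exact ⟨fun h => by rw [h], fun h => (Golay.ptEquiv.injective h).symm⟩
  rw [cls, e, h, cd]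

theorem cls_insert {p : GolayPt} {s : Finset GolayPt} (h : p ∉ s) :
    cls (insert p s) = cd p ^^^ cls s := by
  rw [← cls_singleton p, ← cls_symmDiff]
  congr 1
  ext q
  simp only [Finset.mem_insert, Finset.mem_symmDiff, Finset.mem_singleton]
  grind

theorem cls_pair {p q : GolayPt} (h : p ≠ q) : cls {p, q} = cd p ^^^ cd q := by
  rw [cls_insert (by simpa using h), cls_singleton]

theorem even_symmDiff {α : Type*} [DecidableEq α] {s t : Finset α} (hs : Even s.card)
    (ht : Even t.card) : Even (s ∆ t).card := by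
  have h := Golay.card_symmDiff_add s t
  rw [even_iff_two_dvd] at hs ht ⊢
  omega

theorem even_smul {σ : Equiv.Perm GolayPt} {s : Finset GolayPt} (h : Even s.card) :
    Even (σ • s).card := by
  rwa [Finset.card_smul_finset]

theorem isCodeSet_iff (s : Finset GolayPt) :
    Golay.IsCodeSet s ↔ Even s.card ∧ cls s = 0 := by
  have henc : ∀ x, msum (Golay.encode x) = 0 :=
    Golay.combine_mem (P := fun m => msum m = 0) msum_zero
      (fun a b ha hb => by rw [msum_xor, ha, hb]; rfl) Golay.genRows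
      (by decide +kernel)
  constructor
  · intro h
    refine ⟨?_, ?_⟩
    · obtain ⟨c, hc⟩ := Golay.four_dvd_card h
      exact even_iff_two_dvd.2 ⟨2 * c, by omega⟩
    · obtain ⟨x, hx, e⟩ := h.exists_eq
      rw [cls, e, Golay.maskOf_ptsOf (Golay.encode_lt x hx), henc]
  · rintro ⟨he, hc⟩
    obtain ⟨x, hx⟩ : ∃ x, x = Golay.maskOf s % 4096 := ⟨_, rfl⟩
    have hx' : x < 4096 := hx ▸ Nat.mod_lt _ (by norm_num)
    obtain ⟨r, hr⟩ : ∃ r, r = Golay.maskOf s ^^^ Golay.encode x := ⟨_, rfl⟩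
    have hrlt : r < 2 ^ 24 :=
      hr ▸ Nat.xor_lt_two_pow (Golay.maskOf_lt s) (Golay.encode_lt x hx')
    have hmod : r % 4096 = 0 := by
      rw [hr, show (4096 : ℕ) = 2 ^ 12 from rfl, Nat.xor_mod_two_pow]
      show Golay.maskOf s % 4096 ^^^ Golay.encode x % 4096 = 0
      rw [Golay.encode_mod x hx', hx, Nat.xor_self]
    have hms : msum r = 0 := by
      rw [hr, msum_xor, henc]
      simpa [cls] using hc
    have hev : Even (Golay.ptsOf r).card := by
      rw [hr, Golay.ptsOf_xor, Golay.ptsOf_maskOf]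
      refine even_symmDiff he ?_
      obtain ⟨c, hc⟩ := Golay.four_dvd_card (Golay.encode_isCodeSet x)
      exact even_iff_two_dvd.2 ⟨2 * c, by omega⟩
    have key : (List.range 4096).all (fun k =>
        k == 0 || msum (4096 * k) != 0 || Golay.popCount (4096 * k) % 2 != 0) = true := by
      decide +kernel
    have hk := List.all_eq_true.1 key (r / 4096) (List.mem_range.2 (by omega))
    have er : 4096 * (r / 4096) = r := by omega
    rw [er] at hk
    rw [Golay.card_ptsOf, Nat.even_iff] at hev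
    have hr0 : r = 0 := by
      simp only [hms, hev, bne_self_eq_false, Bool.or_false, beq_iff_eq] at hk
      omega
    have em : Golay.maskOf s = Golay.encode x := by
      rw [hr0] at hr
      exact Nat.xor_eq_zero_iff.1 hr.symm
    rw [← Golay.ptsOf_maskOf s, em]
    exact Golay.encode_isCodeSet x

theorem eq_of_cls_eq {s t : Finset GolayPt} (hs : Even s.card) (ht : Even t.card)
    (hcard : s.card + t.card < 8) (h : cls s = cls t) : s = t := by
  have hc : Golay.IsCodeSet (s ∆ t) :=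
    (isCodeSet_iff _).2 ⟨even_symmDiff hs ht, by rw [cls_symmDiff, h, Nat.xor_self]⟩
  have h' := Golay.card_symmDiff_add s t
  exact symmDiff_eq_bot.1 (Golay.eq_empty_of_card_lt hc (by omega))

/-! ## Representatives of the numbers -/

/-- A finite set from a list of point numbers, as an iterated symmetric difference. -/
def setOfNums (l : List ℕ) : Finset GolayPt := l.foldr (fun i r => {Golay.ptN i} ∆ r) ∅

/-- A set of points of the given class. -/
def repSet (n : ℕ) : Finset GolayPt :=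
  (List.range 11).foldr
    (fun k r => (if n.testBit k then setOfNums (repList.getD k []) else ∅) ∆ r) ∅

theorem smul_empty' (σ : Equiv.Perm GolayPt) : σ • (∅ : Finset GolayPt) = ∅ :=
  Finset.smul_finset_empty σ

theorem imgSum_eq (σ : Equiv.Perm GolayPt) :
    ∀ l : List ℕ, imgSum σ l = cls (σ • setOfNums l)
  | [] => by simp [imgSum, setOfNums, cls_empty]
  | i :: l => by
    have ih := imgSum_eq σ l
    simp only [imgSum, setOfNums, List.foldr_cons] at ih ⊢
    rw [Golay.smul_symmDiff_finset, cls_symmDiff, ← ih, Finset.smul_finset_singleton,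
      cls_singleton]
    rfl

theorem act_eq_cls (σ : Equiv.Perm GolayPt) (n : ℕ) : act σ n = cls (σ • repSet n) := by
  unfold act repSet
  induction List.range 11 with
  | nil => simp [cls_empty]
  | cons k l ih =>
    rw [List.foldr_cons, List.foldr_cons, Golay.smul_symmDiff_finset, cls_symmDiff, ← ih]
    congr 1
    cases n.testBit k <;> simp [imgSum_eq, cls_empty]

theorem even_repSet (n : ℕ) : Even (repSet n).card := by
  have hk : ∀ k < 11, (setOfNums (repList.getD k [])).card % 2 = 0 := by decide +kernel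
  unfold repSet
  have : ∀ l : List ℕ, (∀ k ∈ l, k < 11) → Even (l.foldr
      (fun k r => (if n.testBit k then setOfNums (repList.getD k []) else ∅) ∆ r) ∅).card := by
    intro l
    induction l with
    | nil => intro; simp
    | cons k l ih =>
      intro h
      rw [List.foldr_cons]
      refine even_symmDiff ?_ (ih fun j hj => h j (List.mem_cons_of_mem k hj))
      cases n.testBit k
      · simp
      · simpa [Nat.even_iff] using hk k (h k (List.mem_cons_self ..))
  exact this _ fun k hk => List.mem_range.1 hk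

theorem act_one {n : ℕ} (hn : n < 2048) : act 1 n = n := by
  have h : (List.range 2048).all (fun n => act 1 n == n) = true := by decide +kernel
  simpa using List.all_eq_true.1 h n (List.mem_range.2 hn)

theorem cls_repSet {n : ℕ} (hn : n < 2048) : cls (repSet n) = n := by
  have h := act_eq_cls 1 n
  rwa [one_smul, act_one hn, eq_comm] at h

theorem exists_rep {n : ℕ} (hn : n < 2048) : ∃ s : Finset GolayPt, Even s.card ∧ cls s = n :=
  ⟨repSet n, even_repSet n, cls_repSet hn⟩

/-! ## The action of `M₂₄` -/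

theorem act_lt (σ : Equiv.Perm GolayPt) (n : ℕ) : act σ n < 2048 := by
  rw [act_eq_cls]
  exact cls_lt _

theorem act_xor (σ : Equiv.Perm GolayPt) (a b : ℕ) :
    act σ (a ^^^ b) = act σ a ^^^ act σ b :=
  foldr_bit_xor _ _ a b

theorem act_zero (σ : Equiv.Perm GolayPt) : act σ 0 = 0 := by
  have h := act_xor σ 0 0
  rwa [Nat.xor_self, Nat.xor_self] at h

theorem act_cls {σ : Equiv.Perm GolayPt} (hσ : σ ∈ Cfsg.M24) {s : Finset GolayPt}
    (hs : Even s.card) : act σ (cls s) = cls (σ • s) := by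
  have hc : Golay.IsCodeSet (repSet (cls s) ∆ s) :=
    (isCodeSet_iff _).2 ⟨even_symmDiff (even_repSet _) hs,
      by rw [cls_symmDiff, cls_repSet (cls_lt s), Nat.xor_self]⟩
  have h := ((isCodeSet_iff _).1 (Golay.M24_isCodeSet hσ hc)).2
  rw [Golay.smul_symmDiff_finset, cls_symmDiff, ← act_eq_cls] at h
  exact Nat.xor_eq_zero_iff.1 h

theorem act_mul {σ : Equiv.Perm GolayPt} (hσ : σ ∈ Cfsg.M24) (τ : Equiv.Perm GolayPt) (n : ℕ) :
    act (σ * τ) n = act σ (act τ n) := by
  rw [act_eq_cls τ, act_cls hσ (even_smul (even_repSet n)), act_eq_cls, mul_smul]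

theorem act_inv_act {σ : Equiv.Perm GolayPt} (hσ : σ ∈ Cfsg.M24) {n : ℕ} (hn : n < 2048) :
    act σ⁻¹ (act σ n) = n := by
  rw [← act_mul (inv_mem hσ), inv_mul_cancel, act_one hn]

theorem act_act_inv {σ : Equiv.Perm GolayPt} (hσ : σ ∈ Cfsg.M24) {n : ℕ} (hn : n < 2048) :
    act σ (act σ⁻¹ n) = n := by
  rw [← act_mul hσ, mul_inv_cancel, act_one hn]

theorem act_injOn {σ : Equiv.Perm GolayPt} (hσ : σ ∈ Cfsg.M24) {a b : ℕ} (ha : a < 2048)
    (hb : b < 2048) (h : act σ a = act σ b) : a = b := by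
  rw [← act_inv_act hσ ha, h, act_inv_act hσ hb]

theorem act_pair {σ : Equiv.Perm GolayPt} (hσ : σ ∈ Cfsg.M24) (p q : GolayPt) :
    act σ (cd p ^^^ cd q) = cd (σ p) ^^^ cd (σ q) := by
  rcases eq_or_ne p q with rfl | h
  · rw [Nat.xor_self, Nat.xor_self, act_zero]
  · rw [← cls_pair h, act_cls hσ (by simp [h]), Golay.smul_finset_eq_image,
      Finset.image_insert, Finset.image_singleton, cls_pair (σ.injective.ne h)]

/-! ## The classes of pairs -/

theorem pair_inj {p q a b : GolayPt} (hpq : p ≠ q) (hab : a ≠ b)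
    (h : cd p ^^^ cd q = cd a ^^^ cd b) : ({p, q} : Finset GolayPt) = {a, b} :=
  eq_of_cls_eq (by simp [hpq]) (by simp [hab]) (by simp [hpq, hab])
    (by rw [cls_pair hpq, cls_pair hab, h])

theorem pair_ne_zero {p q : GolayPt} (h : p ≠ q) : cd p ^^^ cd q ≠ 0 := by
  intro e
  have := eq_of_cls_eq (s := {p, q}) (t := (∅ : Finset GolayPt)) (by simp [h]) (by simp)
    (by simp [h]) (by rw [cls_pair h, cls_empty, e])
  simp at this

/-- The numbers of the pairs of points. -/
def pairVals : List ℕ :=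
  (List.range 24).flatMap fun i => (List.range i).map fun j => cdList.getD i 0 ^^^ cdList.getD j 0

theorem isD_iff {n : ℕ} : isD n = true ↔ ∃ p q, p ≠ q ∧ cd p ^^^ cd q = n := by
  constructor
  · intro h
    have e : dMask = pairVals.foldl (fun a i => a ||| (1 <<< id i)) 0 := by decide +kernel
    rw [isD, e] at h
    rcases Golay.testBit_foldl_lor _ _ _ _ h with h' | ⟨v, hv, rfl⟩
    · simp at h'
    · simp only [pairVals, List.mem_flatMap, List.mem_map, List.mem_range] at hv
      obtain ⟨i, hi, j, hj, rfl⟩ := hv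
      refine ⟨Golay.ptN i, Golay.ptN j, fun e => ?_, ?_⟩
      · have := congrArg (fun p => (Golay.idx p).val) e
        simp only [Golay.idx_ptN hi, Golay.idx_ptN (hj.trans hi)] at this
        omega
      · rw [cd_ptN hi, cd_ptN (hj.trans hi)]
        rfl
  · rintro ⟨p, q, hne, rfl⟩
    have h : ∀ i j : Fin 24, i ≠ j →
        isD (cdList.getD i.val 0 ^^^ cdList.getD j.val 0) = true := by decide +kernel
    exact h _ _ fun e => hne (Golay.ptEquiv.injective e)

theorem isD_pair {p q : GolayPt} (h : p ≠ q) : isD (cd p ^^^ cd q) = true :=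
  isD_iff.2 ⟨p, q, h, rfl⟩

theorem isD_lt {n : ℕ} (h : isD n = true) : n < 2048 := by
  obtain ⟨p, q, -, rfl⟩ := isD_iff.1 h
  exact xor_lt (cd_lt p) (cd_lt q)

theorem isD_zero : isD 0 = false := by decide +kernel

theorem isD_act {σ : Equiv.Perm GolayPt} (hσ : σ ∈ Cfsg.M24) {n : ℕ} (hn : n < 2048) :
    isD (act σ n) = isD n := by
  have key : ∀ {τ : Equiv.Perm GolayPt}, τ ∈ Cfsg.M24 → ∀ m, isD m = true →
      isD (act τ m) = true := fun {τ} hτ m hm => by
    obtain ⟨p, q, hne, rfl⟩ := isD_iff.1 hm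
    rw [act_pair hτ]
    exact isD_pair (τ.injective.ne hne)
  rw [Bool.eq_iff_iff]
  refine ⟨fun h => ?_, key hσ n⟩
  have h' := key (inv_mem hσ) _ h
  rwa [act_inv_act hσ hn] at h'

theorem isQ_act {σ : Equiv.Perm GolayPt} (hσ : σ ∈ Cfsg.M24) {n : ℕ} (hn : n < 2048) :
    IsQ (act σ n) ↔ IsQ n := by
  rw [IsQ, IsQ, isD_act hσ hn]
  refine and_congr_left fun _ => not_congr ⟨fun h => ?_, fun h => by rw [h, act_zero]⟩
  exact act_injOn hσ hn (by norm_num) (by rw [h, act_zero])

theorem act_pair_eq_iff {σ : Equiv.Perm GolayPt} (hσ : σ ∈ Cfsg.M24) {p q : GolayPt} (h : p ≠ q) :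
    act σ (cd p ^^^ cd q) = cd p ^^^ cd q ↔ σ • ({p, q} : Finset GolayPt) = {p, q} := by
  rw [act_pair hσ, Golay.smul_finset_eq_image, Finset.image_insert, Finset.image_singleton]
  refine ⟨fun e => pair_inj (σ.injective.ne h) h e, fun e => ?_⟩
  rw [← cls_pair (σ.injective.ne h), e, cls_pair h]

/-- A point different from two given ones. -/
theorem exists_ne_ne (p q : GolayPt) : ∃ r : GolayPt, r ≠ p ∧ r ≠ q := by
  have h : ({p, q} : Finset GolayPt).card < Fintype.card GolayPt := by
    rw [Golay.card_golayPt]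
    exact lt_of_le_of_lt Finset.card_le_two (by norm_num)
  obtain ⟨r, hr⟩ : ∃ r, r ∉ ({p, q} : Finset GolayPt) := by
    by_contra hall
    push Not at hall
    rw [Finset.eq_univ_of_forall hall, Finset.card_univ] at h
    exact lt_irrefl _ h
  exact ⟨r, by simpa using hr⟩

theorem act_inj {σ τ : Equiv.Perm GolayPt} (hσ : σ ∈ Cfsg.M24) (hτ : τ ∈ Cfsg.M24)
    (h : ∀ n, n < 2048 → act σ n = act τ n) : σ = τ := by
  refine Equiv.ext fun p => ?_
  obtain ⟨q, hq, -⟩ := exists_ne_ne p p
  obtain ⟨r, hrp, hrq⟩ := exists_ne_ne p q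
  have e1 := h _ (xor_lt (cd_lt p) (cd_lt q))
  have e2 := h _ (xor_lt (cd_lt p) (cd_lt r))
  rw [act_pair hσ, act_pair hτ] at e1 e2
  have m1 : σ p ∈ ({τ p, τ q} : Finset GolayPt) :=
    pair_inj (σ.injective.ne hq.symm) (τ.injective.ne hq.symm) e1 ▸ Finset.mem_insert_self _ _
  have m2 : σ p ∈ ({τ p, τ r} : Finset GolayPt) :=
    pair_inj (σ.injective.ne hrp.symm) (τ.injective.ne hrp.symm) e2 ▸ Finset.mem_insert_self _ _
  simp only [Finset.mem_insert, Finset.mem_singleton] at m1 m2
  rcases m1 with e | e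
  · exact e
  · rcases m2 with e' | e'
    · exact e'
    · exact absurd (τ.injective (e.symm.trans e')) hrq.symm

/-! ## Recognition of the induced maps -/

/-- Two pairs whose classes differ by the class of a pair meet. -/
theorem pair_meet {a b c d : GolayPt} (hab : a ≠ b) (hcd : c ≠ d)
    (h : isD ((cd a ^^^ cd b) ^^^ (cd c ^^^ cd d)) = true) : a = c ∨ a = d ∨ b = c ∨ b = d := by
  obtain ⟨e, g, heg, he⟩ := isD_iff.1 h
  by_contra hall
  push Not at hall
  obtain ⟨h1, h2, h3, h4⟩ := hall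
  have hc : ({a, b} ∆ {c, d} : Finset GolayPt) = {a, b, c, d} := by
    ext x
    simp only [Finset.mem_symmDiff, Finset.mem_insert, Finset.mem_singleton]
    grind
  have h4c : ({a, b, c, d} : Finset GolayPt).card = 4 := by
    simp [hab, hcd, h1, h2, h3, h4]
  have := eq_of_cls_eq (s := ({a, b, c, d} : Finset GolayPt)) (t := {e, g})
    (by rw [h4c]; decide) (by simp [heg]) (by rw [h4c]; simp [heg])
    (by rw [← hc, cls_symmDiff, cls_pair hab, cls_pair hcd, cls_pair heg, he])
  rw [this] at h4c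
  simp [heg] at h4c

theorem four_ne_zero {a b c d : GolayPt} (hab : a ≠ b) (hac : a ≠ c) (had : a ≠ d) (hbc : b ≠ c)
    (hbd : b ≠ d) (hcd : c ≠ d) : cd a ^^^ (cd b ^^^ (cd c ^^^ cd d)) ≠ 0 := by
  intro e
  have h4c : ({a, b, c, d} : Finset GolayPt).card = 4 := by
    simp [hab, hac, had, hbc, hbd, hcd]
  have := eq_of_cls_eq (s := ({a, b, c, d} : Finset GolayPt)) (t := ∅)
    (by rw [h4c]; decide) (by simp) (by rw [h4c]; simp)
    (by rw [cls_insert (by simp [hab, hac, had]), cls_insert (by simp [hbc, hbd]),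
      cls_pair hcd, cls_empty, e])
  rw [this] at h4c
  simp at h4c

theorem exists_perm (f : ℕ → ℕ) (hlt : ∀ n, n < 2048 → f n < 2048)
    (hadd : ∀ a, a < 2048 → ∀ b, b < 2048 → f (a ^^^ b) = f a ^^^ f b)
    (hinj : ∀ a, a < 2048 → ∀ b, b < 2048 → f a = f b → a = b)
    (hD : ∀ n, n < 2048 → isD n = true → isD (f n) = true) :
    ∃ σ ∈ Cfsg.M24, ∀ n, n < 2048 → f n = act σ n := by
  classical
  have hd2 : ∀ p q : GolayPt, cd p ^^^ cd q < 2048 := fun p q => xor_lt (cd_lt p) (cd_lt q)
  have hf0 : f 0 = 0 := by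
    have h := hadd 0 (by norm_num) 0 (by norm_num)
    rwa [Nat.xor_self, Nat.xor_self] at h
  -- the image of a pair
  have hP : ∀ p q : GolayPt, ∃ x y : GolayPt, p ≠ q → x ≠ y ∧ f (cd p ^^^ cd q) = cd x ^^^ cd y := by
    intro p q
    by_cases h : p = q
    · exact ⟨p, p, fun h' => absurd h h'⟩
    · obtain ⟨x, y, hxy, e⟩ := isD_iff.1 (hD _ (hd2 p q) (isD_pair h))
      exact ⟨x, y, fun _ => ⟨hxy, e.symm⟩⟩
  choose X Y hXY using hP
  obtain ⟨S, hS⟩ : ∃ S : GolayPt → GolayPt → Finset GolayPt, ∀ p q, S p q = {X p q, Y p q} :=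
    ⟨_, fun _ _ => rfl⟩
  have hcancel : ∀ p q r : GolayPt, (cd p ^^^ cd q) ^^^ (cd p ^^^ cd r) = cd q ^^^ cd r := by
    intro p q r
    simp [Nat.xor_comm, Nat.xor_assoc, Nat.xor_left_comm]
  -- distinct images meet
  have hmeet : ∀ p q r : GolayPt, p ≠ q → p ≠ r → q ≠ r →
      X p q ∈ S p r ∨ Y p q ∈ S p r := by
    intro p q r hpq hpr hqr
    obtain ⟨h1, e1⟩ := hXY p q hpq
    obtain ⟨h2, e2⟩ := hXY p r hpr
    have h3 := hD _ (hd2 q r) (isD_pair hqr)
    rw [← hcancel p q r, hadd _ (hd2 p q) _ (hd2 p r), e1, e2] at h3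
    rcases pair_meet h1 h2 h3 with h | h | h | h <;> simp [hS, h]
  have hdist : ∀ p q r : GolayPt, p ≠ q → p ≠ r → q ≠ r → S p q ≠ S p r := by
    intro p q r hpq hpr hqr he
    obtain ⟨h1, e1⟩ := hXY p q hpq
    obtain ⟨h2, e2⟩ := hXY p r hpr
    have e : f (cd p ^^^ cd q) = f (cd p ^^^ cd r) := by
      rw [e1, e2, ← cls_pair h1, ← cls_pair h2, ← hS, ← hS, he]
    have e' := congrArg (fun v => (cd p ^^^ cd q) ^^^ v) (hinj _ (hd2 p q) _ (hd2 p r) e)
    simp only [Nat.xor_self, hcancel] at e'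
    exact pair_ne_zero hqr e'.symm
  -- three images never form a triangle
  have htri : ∀ p q r s : GolayPt, p ≠ q → p ≠ r → p ≠ s → q ≠ r → q ≠ s → r ≠ s →
      f (cd p ^^^ cd q) ^^^ (f (cd p ^^^ cd r) ^^^ f (cd p ^^^ cd s)) ≠ 0 := by
    intro p q r s hpq hpr hps hqr hqs hrs e
    rw [← hadd _ (hd2 p r) _ (hd2 p s), ← hadd _ (hd2 p q) _ (xor_lt (hd2 p r) (hd2 p s))] at e
    have e' := hinj _ (xor_lt (hd2 p q) (xor_lt (hd2 p r) (hd2 p s))) 0 (by norm_num)
      (by rw [e, hf0])
    refine four_ne_zero hpq hpr hps hqr hqs hrs ?_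
    rw [hcancel p r s, Nat.xor_assoc] at e'
    exact e'
  -- the common point
  have hpt : ∀ p : GolayPt, ∃ a, ∀ q, q ≠ p → a ∈ S p q := by
    intro p
    obtain ⟨q₀, hq₀, -⟩ := exists_ne_ne p p
    obtain ⟨r₀, hr₀p, hr₀q⟩ := exists_ne_ne p q₀
    obtain ⟨hn1, e1⟩ := hXY p q₀ hq₀.symm
    obtain ⟨hn2, e2⟩ := hXY p r₀ hr₀p.symm
    -- name the common point and the other two
    obtain ⟨a, b, c, hab, hac, hbc, hSq, hSr⟩ : ∃ a b c, a ≠ b ∧ a ≠ c ∧ b ≠ c ∧
        S p q₀ = {a, b} ∧ S p r₀ = {a, c} := by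
      have hm := hmeet p q₀ r₀ hq₀.symm hr₀p.symm hr₀q.symm
      have hd := hdist p q₀ r₀ hq₀.symm hr₀p.symm hr₀q.symm
      simp only [hS, Finset.mem_insert, Finset.mem_singleton] at hm hd ⊢
      rcases hm with (h | h) | (h | h)
      · exact ⟨X p q₀, Y p q₀, Y p r₀, hn1, h ▸ hn2, fun e => hd (by rw [h, e]), rfl, by rw [h]⟩
      · exact ⟨X p q₀, Y p q₀, X p r₀, hn1, h ▸ hn2.symm,
          fun e => hd (by rw [h, e, Finset.pair_comm]), rfl, by rw [h, Finset.pair_comm]⟩
      · exact ⟨Y p q₀, X p q₀, Y p r₀, hn1.symm, h ▸ hn2,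
          fun e => hd (by rw [h, e, Finset.pair_comm]), Finset.pair_comm _ _, by rw [h]⟩
      · exact ⟨Y p q₀, X p q₀, X p r₀, hn1.symm, h ▸ hn2.symm, fun e => hd (by rw [h, e]),
          Finset.pair_comm _ _, by rw [h, Finset.pair_comm]⟩
    refine ⟨a, fun q hq => ?_⟩
    by_cases hq1 : q = q₀
    · subst hq1; simp [hSq]
    by_cases hq2 : q = r₀
    · subst hq2; simp [hSr]
    obtain ⟨hn3, e3⟩ := hXY p q (Ne.symm hq)
    have m1 := hmeet p q q₀ (Ne.symm hq) hq₀.symm hq1
    have m2 := hmeet p q r₀ (Ne.symm hq) hr₀p.symm hq2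
    rw [hSq] at m1
    rw [hSr] at m2
    rw [hS]
    simp only [Finset.mem_insert, Finset.mem_singleton] at m1 m2 ⊢
    by_contra hna
    push Not at hna
    -- otherwise the third image is the pair of the other two points
    have hSq3 : S p q = {b, c} := by
      rw [hS]
      ext x
      simp only [Finset.mem_insert, Finset.mem_singleton]
      grind
    refine htri p q₀ r₀ q hq₀.symm hr₀p.symm (Ne.symm hq) hr₀q.symm (Ne.symm hq1) (Ne.symm hq2) ?_
    rw [e1, e2, e3, ← cls_pair hn1, ← cls_pair hn2, ← cls_pair hn3, ← hS, ← hS, ← hS, hSq, hSr,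
      hSq3, cls_pair hab, cls_pair hac, cls_pair hbc]
    simp [Nat.xor_comm, Nat.xor_assoc, Nat.xor_left_comm]
  choose π hπ using hpt
  have hsymm : ∀ p q : GolayPt, p ≠ q → S q p = S p q := by
    intro p q h
    obtain ⟨h1, e1⟩ := hXY p q h
    obtain ⟨h2, e2⟩ := hXY q p h.symm
    rw [hS, hS]
    exact pair_inj h2 h1 (by rw [← e2, Nat.xor_comm, e1])
  have hπinj : Function.Injective π := by
    intro p q he
    by_contra hpq
    obtain ⟨r, hrp, hrq⟩ := exists_ne_ne p q
    have hval : ∀ u v : GolayPt, u ≠ v → π p ∈ S u v →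
        ∃ x, x ≠ π p ∧ f (cd u ^^^ cd v) = cd (π p) ^^^ cd x := by
      intro u v huv hm
      obtain ⟨hn, e⟩ := hXY u v huv
      rw [hS, Finset.mem_insert, Finset.mem_singleton] at hm
      rcases hm with hm | hm
      · exact ⟨Y u v, by rw [hm]; exact hn.symm, by rw [e, hm]⟩
      · exact ⟨X u v, by rw [hm]; exact hn, by rw [e, hm, Nat.xor_comm]⟩
    obtain ⟨x, hx, ex⟩ := hval p q hpq (hπ p q (Ne.symm hpq))
    obtain ⟨y, hy, ey⟩ := hval p r hrp.symm (hπ p r hrp)
    obtain ⟨w, hw, ew⟩ := hval q r hrq.symm (he ▸ hπ q r hrq)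
    have hne : ∀ {u v u' v' : GolayPt}, f (cd u ^^^ cd v) = f (cd u' ^^^ cd v') → u ≠ v → u' ≠ v' →
        ({u, v} : Finset GolayPt) = {u', v'} := fun h h1 h2 =>
      pair_inj h1 h2 (hinj _ (hd2 _ _) _ (hd2 _ _) h)
    have hxy : x ≠ y := by
      rintro rfl
      have := hne (ex.trans ey.symm) hpq hrp.symm
      have h : q ∈ ({p, r} : Finset GolayPt) := this ▸ by simp
      simp only [Finset.mem_insert, Finset.mem_singleton] at h
      rcases h with h | h
      · exact hpq h.symm
      · exact hrq h.symm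
    have hxw : x ≠ w := by
      rintro rfl
      have := hne (ex.trans ew.symm) hpq hrq.symm
      have h : p ∈ ({q, r} : Finset GolayPt) := this ▸ by simp
      simp only [Finset.mem_insert, Finset.mem_singleton] at h
      rcases h with h | h
      · exact hpq h
      · exact hrp h.symm
    have hyw : y ≠ w := by
      rintro rfl
      have := hne (ey.trans ew.symm) hrp.symm hrq.symm
      have h : p ∈ ({q, r} : Finset GolayPt) := this ▸ by simp
      simp only [Finset.mem_insert, Finset.mem_singleton] at h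
      rcases h with h | h
      · exact hpq h
      · exact hrp h.symm
    have hz : f (cd p ^^^ cd q) ^^^ (f (cd p ^^^ cd r) ^^^ f (cd q ^^^ cd r)) = 0 := by
      rw [← hadd _ (hd2 p r) _ (hd2 q r), ← hadd _ (hd2 p q) _ (xor_lt (hd2 p r) (hd2 q r))]
      refine (congrArg f ?_).trans hf0
      simp [Nat.xor_comm, Nat.xor_assoc, Nat.xor_left_comm]
    rw [ex, ey, ew] at hz
    refine four_ne_zero hx.symm hy.symm hw.symm hxy hxw hyw (Eq.trans ?_ hz)
    simp [Nat.xor_comm, Nat.xor_assoc, Nat.xor_left_comm]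
  obtain ⟨σ, hσ⟩ : ∃ σ : Equiv.Perm GolayPt, ∀ p, σ p = π p :=
    ⟨Equiv.ofBijective π (Finite.injective_iff_bijective.1 hπinj), fun _ => rfl⟩
  have hpair : ∀ p q : GolayPt, f (cd p ^^^ cd q) = cd (σ p) ^^^ cd (σ q) := by
    intro p q
    rcases eq_or_ne p q with rfl | h
    · rw [Nat.xor_self, Nat.xor_self, hf0]
    · obtain ⟨hn, e⟩ := hXY p q h
      have m1 : σ p ∈ S p q := hσ p ▸ hπ p q h.symm
      have m2 : σ q ∈ S p q := hsymm p q h ▸ hσ q ▸ hπ q p h
      have hne : σ p ≠ σ q := σ.injective.ne h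
      rw [hS, Finset.mem_insert, Finset.mem_singleton] at m1 m2
      rw [e]
      rcases m1 with h1 | h1 <;> rcases m2 with h2 | h2
      · exact absurd (h1.trans h2.symm) hne
      · rw [h1, h2]
      · rw [h1, h2, Nat.xor_comm]
      · exact absurd (h1.trans h2.symm) hne
  obtain ⟨p₀, -, -⟩ := exists_ne_ne (none : GolayPt) none
  have hset : ∀ s : Finset GolayPt,
      (Even s.card → f (cls s) = cls (σ • s)) ∧
      (¬ Even s.card → f (cls s ^^^ cd p₀) = cls (σ • s) ^^^ cd (σ p₀)) := by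
    intro s
    induction s using Finset.induction with
    | empty => simp [cls_empty, hf0]
    | insert a s ha ih =>
      have hsm : cls (σ • insert a s) = cd (σ a) ^^^ cls (σ • s) := by
        rw [Golay.smul_finset_eq_image, Finset.image_insert, ← Golay.smul_finset_eq_image,
          cls_insert (by simpa [Golay.smul_finset_eq_image] using ha)]
      rw [Finset.card_insert_of_notMem ha, Nat.even_add_one, cls_insert ha, hsm]
      refine ⟨fun h => ?_, fun h => ?_⟩
      · have e := hadd _ (xor_lt (cls_lt s) (cd_lt p₀)) _ (hd2 a p₀)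
        rw [ih.2 h, hpair] at e
        refine (congrArg f ?_).trans (e.trans ?_) <;>
          simp [Nat.xor_comm, Nat.xor_assoc, Nat.xor_left_comm]
      · have e := hadd _ (cls_lt s) _ (hd2 a p₀)
        rw [ih.1 (not_not.1 h), hpair] at e
        refine (congrArg f ?_).trans (e.trans ?_) <;>
          simp [Nat.xor_comm, Nat.xor_assoc, Nat.xor_left_comm]
  have hσM : σ ∈ Cfsg.M24 := by
    rw [Golay.mem_M24_iff]
    intro s hs
    obtain ⟨he, h0⟩ := (isCodeSet_iff s).1 hs
    refine (isCodeSet_iff _).2 ⟨even_smul he, ?_⟩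
    rw [← (hset s).1 he, h0, hf0]
  refine ⟨σ, hσM, fun n hn => ?_⟩
  rw [act_eq_cls, ← (hset _).1 (even_repSet n), cls_repSet hn]

/-! ## The two orbits -/

/-- The numbers of the four-point sets containing the first point. -/
def quadVals : List ℕ :=
  (List.range 24).flatMap fun i => (List.range i).flatMap fun j =>
    ((List.range j).filter fun k => 0 < k).map fun k =>
      cdList.getD 0 0 ^^^ (cdList.getD i 0 ^^^ (cdList.getD j 0 ^^^ cdList.getD k 0))

theorem exists_quad {a : ℕ} (ha : a < 2048) (hQ : IsQ a) :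
    ∃ p q r s : GolayPt, [p, q, r, s].Nodup ∧ a = (cd p ^^^ cd q) ^^^ (cd r ^^^ cd s) := by
  have e : quadVals.foldl (fun x i => x ||| (1 <<< id i)) (dMask ||| 1) = 2 ^ 2048 - 1 := by
    decide +kernel
  have h : (quadVals.foldl (fun x i => x ||| (1 <<< id i)) (dMask ||| 1)).testBit a = true := by
    rw [e, Nat.testBit_two_pow_sub_one]
    simpa using ha
  rcases Golay.testBit_foldl_lor _ _ _ _ h with h' | ⟨v, hv, rfl⟩
  · rw [Nat.testBit_lor, Bool.or_eq_true] at h'
    rcases h' with h' | h'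
    · exact absurd hQ.2 (by rw [isD, h']; simp)
    · rw [Nat.testBit_one_eq_true_iff_self_eq_zero] at h'
      exact absurd h' hQ.1
  · simp only [quadVals, List.mem_flatMap, List.mem_map, List.mem_filter, List.mem_range,
      decide_eq_true_eq] at hv
    obtain ⟨i, hi, j, hj, k, ⟨hk, hk0⟩, rfl⟩ := hv
    have hj' := hj.trans hi
    have hk' := hk.trans hj'
    refine ⟨Golay.ptN 0, Golay.ptN i, Golay.ptN j, Golay.ptN k, ?_, ?_⟩
    · refine List.Nodup.of_map (fun p => (Golay.idx p).val) ?_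
      simp only [List.map_cons, List.map_nil, Golay.idx_ptN (show 0 < 24 by norm_num),
        Golay.idx_ptN hi, Golay.idx_ptN hj', Golay.idx_ptN hk']
      simp
      omega
    · rw [cd_ptN (show 0 < 24 by norm_num), cd_ptN hi, cd_ptN hj', cd_ptN hk', id_eq,
        Nat.xor_assoc]

theorem trans_Q {a : ℕ} (ha : a < 2048) (hQ : IsQ a) : ∃ σ ∈ Cfsg.M24, act σ a = 1 := by
  obtain ⟨p, q, r, s, hnd, rfl⟩ := exists_quad ha hQ
  obtain ⟨g, hg, h⟩ := Golay.exists_map_list [p, q, r, s]
    [Golay.ptN 0, Golay.ptN 1, Golay.ptN 2, Golay.ptN 3] rfl (by simp) hnd (by decide +kernel)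
  simp only [List.map_cons, List.map_nil, List.cons.injEq, and_true] at h
  refine ⟨g, hg, ?_⟩
  rw [act_xor, act_pair hg, act_pair hg, h.1, h.2.1, h.2.2.1, h.2.2.2]
  decide +kernel

theorem trans_D {a b : ℕ} (ha : isD a = true) (hb : isD b = true) :
    ∃ σ ∈ Cfsg.M24, act σ a = b := by
  obtain ⟨p, q, hpq, rfl⟩ := isD_iff.1 ha
  obtain ⟨r, s, hrs, rfl⟩ := isD_iff.1 hb
  obtain ⟨g, hg, h⟩ := Golay.exists_map_list [p, q] [r, s] rfl (by simp) (by simpa using hpq)
    (by simpa using hrs)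
  simp only [List.map_cons, List.map_nil, List.cons.injEq, and_true] at h
  exact ⟨g, hg, by rw [act_pair hg, h.1, h.2]⟩

theorem card_filter_range (N : ℕ) (P : ℕ → Prop) [DecidablePred P] (b : ℕ → Bool)
    (h : ∀ n, P n ↔ b n = true) :
    ((Finset.range N).filter P).card = ((List.range N).filter b).length := by
  rw [← List.toFinset_card_of_nodup (List.nodup_range.filter _)]
  congr 1
  ext e
  simp [h]

theorem neighbours {d : ℕ} (hd : isD d = true) :
    ((Finset.range 2048).filter fun e => isD e = true ∧ isD (d ^^^ e) = true).card = 44 := by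
  have h0 : ((List.range 2048).filter fun e => isD e && isD (2 ^^^ e)).length = 44 := by
    decide +kernel
  have h1 : ((Finset.range 2048).filter fun e => isD e = true ∧ isD (2 ^^^ e) = true).card = 44 := by
    exact (card_filter_range _ _ _ fun e => by simp).trans h0
  obtain ⟨σ, hσ, rfl⟩ := trans_D (show isD 2 = true by decide +kernel) hd
  rw [← h1]
  refine Finset.card_bij' (fun e _ => act σ⁻¹ e) (fun e _ => act σ e) ?_ ?_ ?_ ?_
  · intro e he
    simp only [Finset.mem_filter, Finset.mem_range] at he ⊢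
    refine ⟨act_lt _ _, by rw [isD_act (inv_mem hσ) he.1]; exact he.2.1, ?_⟩
    have e2 : act σ⁻¹ (act σ 2 ^^^ e) = 2 ^^^ act σ⁻¹ e := by
      rw [act_xor, act_inv_act hσ (by norm_num)]
    rw [← e2, isD_act (inv_mem hσ) (xor_lt (act_lt _ _) he.1)]
    exact he.2.2
  · intro e he
    simp only [Finset.mem_filter, Finset.mem_range] at he ⊢
    refine ⟨act_lt _ _, by rw [isD_act hσ he.1]; exact he.2.1, ?_⟩
    rw [← act_xor, isD_act hσ (xor_lt (by norm_num) he.1)]
    exact he.2.2
  · intro e he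
    simp only [Finset.mem_filter, Finset.mem_range] at he
    exact act_act_inv hσ he.1
  · intro e he
    simp only [Finset.mem_filter, Finset.mem_range] at he
    exact act_inv_act hσ he.1

theorem card_isD : ((Finset.range 2048).filter fun n => isD n = true).card = 276 := by
  have h : ((List.range 2048).filter fun n => isD n).length = 276 := by decide +kernel
  exact (card_filter_range _ _ _ fun e => by simp).trans h

theorem card_isQ : ((Finset.range 2048).filter fun n => n ≠ 0 ∧ isD n = false).card = 1771 := by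
  have h : ((List.range 2048).filter fun n => n != 0 && !isD n).length = 1771 := by decide +kernel
  exact (card_filter_range _ _ _ fun e => by simp).trans h

theorem isQ_one : IsQ 1 := ⟨by norm_num, by decide +kernel⟩

/-- The orbit of a class of a sextet. -/
theorem orbit_Q {a : ℕ} (ha : a < 2048) (hQ : IsQ a) :
    {n | ∃ σ ∈ Cfsg.M24, act σ a = n} = {n | n < 2048 ∧ IsQ n} := by
  ext n
  simp only [Set.mem_ofPred_eq]
  constructor
  · rintro ⟨σ, hσ, rfl⟩
    exact ⟨act_lt _ _, (isQ_act hσ ha).2 hQ⟩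
  · rintro ⟨hn, hnQ⟩
    obtain ⟨σ, hσ, e⟩ := trans_Q ha hQ
    obtain ⟨τ, hτ, e'⟩ := trans_Q hn hnQ
    refine ⟨τ⁻¹ * σ, mul_mem (inv_mem hτ) hσ, ?_⟩
    rw [act_mul (inv_mem hτ), e, ← e', act_inv_act hτ hn]

/-- The orbit of a class of a pair. -/
theorem orbit_D {a : ℕ} (hD : isD a = true) :
    {n | ∃ σ ∈ Cfsg.M24, act σ a = n} = {n | n < 2048 ∧ isD n = true} := by
  ext n
  simp only [Set.mem_ofPred_eq]
  constructor
  · rintro ⟨σ, hσ, rfl⟩
    exact ⟨act_lt _ _, by rw [isD_act hσ (isD_lt hD)]; exact hD⟩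
  · rintro ⟨-, hn⟩
    exact trans_D hD hn

theorem ncard_Q : Set.ncard {n | n < 2048 ∧ IsQ n} = 1771 := by
  rw [← card_isQ, ← Set.ncard_coe_finset]
  congr 1
  ext n
  simp [IsQ]

theorem ncard_D : Set.ncard {n | n < 2048 ∧ isD n = true} = 276 := by
  rw [← card_isD, ← Set.ncard_coe_finset]
  congr 1
  ext n
  simp

end Cfsg.Agent.Lib.J4Two56
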