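import Cfsg.Agent.Lib.J4Two56.BCoord
import Cfsg.Agent.Lib.J4Two56.Local
import Cfsg.Agent.Lib.J4Two56.ModelFacts

/-!
# The numbering of the elementary subgroup: interface
-/

set_option autoImplicit false
set_option linter.unusedSectionVars false

universe u

namespace Cfsg.Agent.Lib.J4Two56

open Cfsg Cfsg.Agent.Lib.J4Type19

variable {G : Type u} [Group G] [Finite G] {z : G} {P : Subgroup G}
variable {D : HData z P} {X : Plus M22t}

/-- The element of a number, from special lifts `x`. -/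
noncomputable def elx (S : Base D X) (x : ℕ → ↥(cC z P)) (n : ℕ) : G :=
  z ^ (n % 2) * S.sv (n / 2 % 64) * ((x (n / 128) : G) * z ^ epsW (n / 128))

/-- The numbering, and the classes in it. -/
structure SpecData (S : Base D X) : Type u where
  x : ℕ → ↥(cC z P)
  x_zero : x 0 = 1
  x_π : ∀ i, i < 16 → D.π (x i) = X.u i
  x_sq : ∀ i, i < 16 → x i * x i = 1
  x_nz : ∀ i, i < 16 → i ≠ 0 → ¬ IsConj z (x i : G)
  x_z : ∀ i, i < 16 → i ≠ 0 → IsConj z ((x i : G) * z)
  el_mem : ∀ n, n < 2048 → elx S x n ∈ S.B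
  el_surj : ∀ b ∈ S.B, ∃ n, n < 2048 ∧ elx S x n = b
  el_inj : ∀ a, a < 2048 → ∀ b, b < 2048 → elx S x a = elx S x b → a = b
  el_xor : ∀ a, a < 2048 → ∀ b, b < 2048 → elx S x (a ^^^ b) = elx S x a * elx S x b
  cls : ∀ a, a < 2048 → (IsConj z (elx S x a) ↔ IsQ a)

/-- The numbering exists. -/
def SpecStmt : Prop :=
  ∀ (G : Type u) [Group G] [Finite G] (z : G) (P : Subgroup G) (D : HData z P) (X : Plus M22t) (S : Base D X),
    (∃ g : G, g * z * g⁻¹ ∈ cC z P ∧ g * z * g⁻¹ ≠ z) → Nonempty (SpecData S)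

end Cfsg.Agent.Lib.J4Two56
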