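import Cfsg.Agent.Lib.J4Two56.BZCount
import Cfsg.Agent.Lib.J4Two56.SpecCert
import Cfsg.Agent.Lib.J4Two56.SpecDef

/-!
# The special lifts and the numbering of the elementary subgroup
-/

set_option autoImplicit false
set_option linter.unusedSectionVars false
set_option maxRecDepth 100000

universe u

namespace Cfsg.Agent.Lib.J4Two56

open Cfsg Cfsg.Agent.Lib.J4Type19 Cfsg.Agent.Lib.J4Fusion14
open scoped Classical

attribute [local instance] m22_finite

theorem odd56_xor (a b : ℕ) : decide ((a ^^^ b) % 2 = 1) = (decide (a % 2 = 1) ^^ decide (b % 2 = 1)) := by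
  simp only [← Nat.testBit_zero, Nat.testBit_xor]

theorem vpart56_xor (a b : ℕ) : (a ^^^ b) / 2 % 64 = (a / 2 % 64) ^^^ (b / 2 % 64) := by
  have h := Nat.shiftRight_xor_distrib (a := a) (b := b) (i := 1)
  simp only [Nat.shiftRight_eq_div_pow, pow_one] at h
  rw [h, show (64 : ℕ) = 2 ^ 6 by norm_num, Nat.xor_mod_two_pow]

theorem ipart56_xor (a b : ℕ) : (a ^^^ b) / 128 = (a / 128) ^^^ (b / 128) := by
  have h := Nat.shiftRight_xor_distrib (a := a) (b := b) (i := 7)
  simpa only [Nat.shiftRight_eq_div_pow, show (2 : ℕ) ^ 7 = 128 by norm_num] using h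

theorem line_closed56 {i : ℕ} (hi : i < 16) (hi0 : i ≠ 0) {v : ℕ} (hv : v < 64) :
    inLine i 0 = true ∧ inLine i (sc 2 v) = inLine i v ∧ ∀ w, w < 64 → inLine i v = true → inLine i w = true →
      inLine i (v ^^^ w) = true := by
  have h := List.all_eq_true.1 line_closed_ok i (List.mem_range.2 hi)
  simp only [Bool.or_eq_true, Bool.and_eq_true, List.all_eq_true, decide_eq_true_eq, Bool.not_eq_true'] at h
  obtain ⟨h0, h1⟩ := h.resolve_left fun e => hi0 (Nat.eq_of_beq_eq_true e)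
  obtain ⟨h2, h3⟩ := h1 v (List.mem_range.2 hv)
  refine ⟨h0, h2, fun w hw e1 e2 => ?_⟩
  rcases h3 w (List.mem_range.2 hw) with (h | h) | h
  · rw [e1] at h; exact absurd h (by simp)
  · rw [e2] at h; exact absurd h (by simp)
  · exact h

theorem incList_mem {i v : ℕ} (hi : i < 16) (hi0 : i ≠ 0) (hv : v < 64) (hv0 : v ≠ 0) (hl : inLine i v = true) :
    incCode i v ∈ incList (isHy v) := by
  have h := (List.all_eq_true.1 hyPnt_ok i (List.mem_range.2 hi))
  simp only [List.all_eq_true, Bool.or_eq_true, decide_eq_true_eq] at h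
  rcases h v (List.mem_range.2 hv) with ((h | h) | h) | h
  · exact absurd (Nat.eq_of_beq_eq_true h) hi0
  · exact absurd (Nat.eq_of_beq_eq_true h) hv0
  · rw [hl] at h; exact absurd h (by simp)
  · exact h

variable {G : Type u} [Group G] [Finite G] {z : G} {P : Subgroup G}
variable {D : HData z P} {X : Plus M22t}

namespace Base

variable (S : Base D X)
include S

theorem zb_inj {s t : Bool} {g : G} (h : zb z s * g = zb z t * g) : s = t := by
  have h' := mul_right_cancel h
  cases s <;> cases t <;> simp [zb] at h' ⊢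
  · exact z_ne D.hJ h'.symm
  · exact z_ne D.hJ h'

theorem conj_bit (f : ↥(cE z)) {v : ℕ} :
    ∃ s : Bool, (f : G) * S.sv v * (f : G)⁻¹ = zb z s * S.sv v := by
  rcases comm_or D.hJ f ⟨S.sv v, S.sv_mem_cE v⟩ with h | h
  · exact ⟨false, by simpa [zb] using mul_inv_eq_one.1 h⟩
  · exact ⟨true, by simpa [zb] using mul_inv_eq_iff_eq_mul.1 h⟩

theorem bit_add (f : ↥(cE z)) (s : ℕ → Bool) (hs : ∀ v, (f : G) * S.sv v * (f : G)⁻¹ = zb z (s v) * S.sv v)
    {v w : ℕ} (hv : v < 64) (hw : w < 64) : s (v ^^^ w) = (s v ^^ s w) := by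
  refine S.zb_inj (g := S.sv (v ^^^ w)) ?_
  rw [← hs, S.sv_xor hv hw, show (f : G) * (S.sv v * S.sv w) * (f : G)⁻¹ =
    ((f : G) * S.sv v * (f : G)⁻¹) * ((f : G) * S.sv w * (f : G)⁻¹) by group, hs, hs, S.zb_mul]
  have h := S.commBE (cE_le z (S.sv_mem_cE v)) (s w)
  rw [show zb z (s v) * S.sv v * (zb z (s w) * S.sv w) = zb z (s v) * (S.sv v * zb z (s w)) * S.sv w by group, h]
  group

variable {l : ℕ → ↥(cC z P)} (hl : ∀ i, i < 16 → D.π (l i) = X.u i ∧ l i * l i = 1)
include hl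

theorem el0_mul_zb (t e : Bool) (v i : ℕ) : zb z t * S.el0 l e v i = S.el0 l (t ^^ e) v i := by
  rw [el0, el0, S.zb_mul]; group

theorem shiftF {i : ℕ} (hi : i < 16) (hi0 : i ≠ 0) (f : ↥(cE z)) : ∃ t w, w < 64 ∧ inLine i w = true ∧
    (l i : ↥(cC z P)) • J4Type19.mk f = S.f.vec w + J4Type19.mk f ∧ ∀ v, v < 64 → ∀ s : Bool,
      (f : G) * S.sv v * (f : G)⁻¹ = zb z s * S.sv v →
      ∀ e, (S.Z1 (S.el0 l (e ^^ t ^^ s) (v ^^^ w) i) ↔ S.Z1 (S.el0 l e v i)) := by
  obtain ⟨t, w, hw, hwl, hm⟩ := S.line_move hl hi hi0 f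
  refine ⟨t, w, hw, hwl, ?_, fun v hv s hs e => ?_⟩
  · have hzs : zb z t * S.sv w ∈ cE z := mul_mem (by cases t; exacts [one_mem _, z_mem D.hJ]) (S.sv_mem_cE w)
    rw [smul_mk, show cEAut (l i : G) (l i).2.1 f = ⟨_, hzs⟩ * f from Subtype.ext hm, mk_mul]
    congr 1
    rw [← S.sv_mk w hw]
    refine (mk_eq D.hJ).2 ?_
    cases t
    · left; simp [zb]
    · right
      show S.sv w = zb z true * S.sv w * z
      rw [show zb z true = z from rfl, mul_assoc,
        Subgroup.mem_centralizer_singleton_iff.1 (cE_le z (S.sv_mem_cE w)), ← mul_assoc, z_sq D.hJ, one_mul]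
  · rw [← S.Z1_conj (f : G) (S.el0 l e v i)]
    refine iff_of_eq (congrArg S.Z1 ?_)
    rw [el0, el0, show (f : G) * (zb z e * S.sv v * (l i : G)) * (f : G)⁻¹ =
      (f : G) * zb z e * (f : G)⁻¹ * ((f : G) * S.sv v * (f : G)⁻¹) * ((f : G) * (l i : G) * (f : G)⁻¹) by group,
      hs, S.conj_fibre hl hi f hw hm, S.commBE (cE_le z f.2), mul_inv_cancel_right, S.sv_xor hv hw, S.zb_mul, S.zb_mul]
    have hc := S.commBE (cE_le z (S.sv_mem_cE v)) t
    have hcs : zb z s * zb z t = zb z t * zb z s := by rw [← S.zb_mul, ← S.zb_mul, Bool.xor_comm]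
    rw [show zb z e * (zb z s * S.sv v) * (zb z t * S.sv w * (l i : G)) =
      zb z e * zb z s * ((S.sv v * zb z t) * S.sv w) * (l i : G) by group, hc,
      show zb z e * zb z s * (zb z t * S.sv v * S.sv w) * (l i : G) =
      zb z e * (zb z s * zb z t) * (S.sv v * S.sv w) * (l i : G) by group, hcs]
    group

/-- Normalised lifts. -/
def Spec (l : ℕ → ↥(cC z P)) : Prop :=
  l 0 = 1 ∧ ¬ S.Z1 (S.sv 1) ∧ S.Z1 (S.sv 5) ∧ S.Z1 (S.el0 l false (outPt 1) 1) ∧
    ∀ i, i < 16 → i ≠ 0 → ¬ S.Z1 (S.el0 l false 0 i) ∧ S.Z1 (S.el0 l true 0 i)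

omit hl in
theorem exists_spec (hmain : ∃ g : G, g * z * g⁻¹ ∈ cC z P ∧ g * z * g⁻¹ ≠ z) :
    ∃ l : ℕ → ↥(cC z P), (∀ i, i < 16 → D.π (l i) = X.u i ∧ l i * l i = 1) ∧ S.Spec l := by
  obtain ⟨k, hk0, hk⟩ := S.exists_lifts
  obtain ⟨zC, hzC⟩ : ∃ zC : ↥(cC z P), zC = ⟨z, D.z_mem_C⟩ := ⟨_, rfl⟩
  have hzz : zC * zC = 1 := by rw [hzC]; exact Subtype.ext (z_sq D.hJ)
  have hπz : D.π zC = 1 := (D.ker_iff _).2 ⟨0, Or.inr (by rw [hzC, pow_zero, mul_one])⟩
  obtain ⟨l, hldef⟩ : ∃ l : ℕ → ↥(cC z P),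
      l = fun i => if i ≠ 0 ∧ S.Z1 (S.el0 k false 0 i) then zC * k i else k i := ⟨_, rfl⟩
  have hl : ∀ i, i < 16 → D.π (l i) = X.u i ∧ l i * l i = 1 := by
    intro i hi
    rw [hldef]
    dsimp only
    split
    · refine ⟨by rw [map_mul, hπz, one_mul, (hk i hi).1], ?_⟩
      have hc : Commute (k i) zC := by rw [hzC]; exact Subtype.ext (D.comm_z (k i)).symm
      rw [show zC * k i * (zC * k i) = zC * (k i * zC) * k i by group, hc.eq,
        show zC * (zC * k i) * k i = zC * zC * (k i * k i) by group, hzz, (hk i hi).2, one_mul]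
    · exact hk i hi
  have hl0 : l 0 = 1 := by rw [hldef]; simp [hk0]
  obtain ⟨h1, h5, ho, -⟩ := S.classes_B hl hl0 hmain
  refine ⟨l, hl, hl0, h1, h5, ho, fun i hi hi0 => ?_⟩
  have hn := (S.invariants hk hi hi0).1.trans (S.classes_B hk hk0 hmain).2.2.2
  have hzt : zb z true = z := rfl
  have e0 : ∀ (m : ℕ → ↥(cC z P)) e, S.el0 m e 0 i = zb z e * (m i : G) := fun m e => by
    rw [el0, S.sv_zero, mul_one]
  rw [pairCnt, e0, e0] at hn
  by_cases h : S.Z1 (zb z false * (k i : G))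
  · have hli : (l i : G) = z * (k i : G) := by
      rw [hldef]; simp only [hi0, ne_eq, not_false_eq_true, e0, h, and_self, if_true, Subgroup.coe_mul, hzC]
    have h2 : ¬ S.Z1 (zb z true * (k i : G)) := fun h2 => by rw [if_pos h, if_pos h2] at hn; omega
    rw [e0, e0, hli]
    constructor
    · simpa [zb] using h2
    · rw [← mul_assoc, hzt, z_sq D.hJ]; simpa [zb] using h
  · have hli : (l i : G) = (k i : G) := by
      rw [hldef]; simp only [e0, h, and_false, if_false]
    have h2 : S.Z1 (zb z true * (k i : G)) := by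
      by_contra h2
      rw [if_neg h, if_neg h2] at hn
      omega
    rw [e0, e0, hli]
    exact ⟨h, h2⟩

variable (hs : S.Spec l)
include hs

/-- The bit over a vector of a line. -/
noncomputable def qb (l : ℕ → ↥(cC z P)) (i v : ℕ) : Bool := decide (S.Z1 (S.el0 l false v i))

theorem Z_line {i v : ℕ} (hi : i < 16) (hi0 : i ≠ 0) (hv : v < 64) (hvl : inLine i v = true) (e : Bool) :
    S.Z1 (S.el0 l e v i) ↔ (e ^^ S.qb l i v) = true := by
  have h := S.pairCnt_shift hl hi hi0 hv hvl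
  obtain ⟨a, b⟩ := hs.2.2.2.2 i hi hi0
  have h0 : S.pairCnt l 0 i = 1 := by rw [pairCnt, if_neg a, if_pos b]
  rw [h0, pairCnt] at h
  cases e
  · simp [qb]
  · by_cases hf : S.Z1 (S.el0 l false v i)
    · have : ¬ S.Z1 (S.el0 l true v i) := fun ht => by rw [if_pos hf, if_pos ht] at h; omega
      simp [qb, hf, this]
    · have : S.Z1 (S.el0 l true v i) := by
        by_contra ht; rw [if_neg hf, if_neg ht] at h; omega
      simp [qb, hf, this]

theorem qb_zero {i : ℕ} (hi : i < 16) (hi0 : i ≠ 0) : S.qb l i 0 = false :=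
  decide_eq_false (hs.2.2.2.2 i hi hi0).1

theorem qb_mult {i v : ℕ} (hi : i < 16) (hv : v < 64) : ∀ w ∈ mults v, w < 64 ∧ S.qb l i w = S.qb l i v := by
  intro w hw
  have h1 := (pnt_spec hv).2.2.2.1
  have h2 := (pnt_spec h1).2.2.2.1
  have e1 : S.qb l i (sc 2 v) = S.qb l i v := decide_eq_decide.2 (S.w_fibre hl hi hv false)
  have e2 : S.qb l i (sc 2 (sc 2 v)) = S.qb l i v := (decide_eq_decide.2 (S.w_fibre hl hi h1 false)).trans e1
  simp only [mults, List.mem_cons, List.not_mem_nil, or_false] at hw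
  rcases hw with rfl | rfl | rfl
  exacts [⟨hv, rfl⟩, ⟨h1, e1⟩, ⟨h2, e2⟩]

theorem gen_spec {k : ℕ} (hk : k < 4) : ∃ c : ↥(cC z P), (∀ v, v < 64 → ∃ v', v' < 64 ∧ pnt v' = pmap k v ∧
      (c : G) * S.sv v * (c : G)⁻¹ = S.sv v') ∧
    ∀ i, i < 16 → (c : G) * (l i : G) * (c : G)⁻¹ = (l (M22D.uP k i) : G) := by
  obtain ⟨c, hc, hcv⟩ := S.gen_conj hk
  refine ⟨c, hcv, fun i hi => ?_⟩
  have h := uP_ok
  simp only [List.all_eq_true, Bool.and_eq_true, decide_eq_true_eq] at h
  obtain ⟨hu, hu0⟩ := h k (List.mem_range.2 hk) i (List.mem_range.2 hi)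
  rcases eq_or_ne i 0 with rfl | hi0
  · rw [hu0.1 rfl, hs.1]; simp
  obtain ⟨t, ht⟩ := S.gen_lift hl hk hi hc
  cases t
  · simpa [zb] using ht
  · exfalso
    apply (hs.2.2.2.2 i hi hi0).1
    rw [← S.Z1_conj (c : G), el0, S.sv_zero, mul_one, show zb z false = 1 from rfl, one_mul, ht]
    have h2 := (hs.2.2.2.2 _ hu fun e => hi0 (hu0.2 e)).2
    rwa [el0, S.sv_zero, mul_one] at h2

theorem qb_const {i v : ℕ} (hi : i < 16) (hi0 : i ≠ 0) (hv : v < 64) (hv0 : v ≠ 0) (hvl : inLine i v = true) :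
    S.qb l i v = S.qb l 1 (basePt (isHy v)) := by
  obtain ⟨c0, hc0⟩ : ∃ c0, c0 = S.qb l 1 (basePt (isHy v)) := ⟨_, rfl⟩
  rw [← hc0]
  let C : ℕ → Prop := fun x => x / 64 < 16 ∧ pnt (x % 64) = x % 64 ∧ S.qb l (x / 64) (x % 64) = c0
  have hC : ∀ g ∈ incGens, ∀ x, C x → C (g x) := by
    intro g hg x ⟨hx, _, hxq⟩
    obtain ⟨k, hk, rfl⟩ := List.mem_map.1 hg
    rw [List.mem_range] at hk
    obtain ⟨c, hcv, hci⟩ := S.gen_spec hl hs hk
    obtain ⟨v', hv', hp, he⟩ := hcv (x % 64) (Nat.mod_lt _ (by norm_num))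
    have h := uP_ok
    simp only [List.all_eq_true, Bool.and_eq_true, decide_eq_true_eq] at h
    have hu := (h k (List.mem_range.2 hk) _ (List.mem_range.2 hx)).1
    obtain ⟨hq64, hqe⟩ := S.qb_mult hl hs hu hv' _ (pnt_spec hv').1
    have hd : (M22D.uP k (x / 64) * 64 + pmap k (x % 64)) / 64 = M22D.uP k (x / 64) := by
      rw [← hp]; omega
    have hmo : (M22D.uP k (x / 64) * 64 + pmap k (x % 64)) % 64 = pmap k (x % 64) := by
      rw [← hp]; omega
    refine ⟨by rw [hd]; exact hu, ?_, ?_⟩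
    · rw [hmo, ← hp]
      obtain ⟨h1, -, -, -, h5, -⟩ := pnt_spec hv'
      simp only [mults, List.mem_cons, List.not_mem_nil, or_false] at h1
      rcases h1 with h1 | h1 | h1 <;> conv_lhs => rw [h1]
      · rw [h5]
      · rw [(pnt_spec (pnt_spec hv').2.2.2.1).2.2.2.2.1, h5]
    · rw [hd, hmo, ← hp, hqe, ← hxq]
      refine decide_eq_decide.2 ?_
      rw [← S.Z1_conj (c : G) (S.el0 l false (x % 64) (x / 64))]
      refine iff_of_eq (congrArg S.Z1 ?_)
      rw [el0, el0, show zb z false = 1 from rfl, one_mul, one_mul, show (c : G) * (S.sv (x % 64) * (l (x / 64) : G)) *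
        (c : G)⁻¹ = ((c : G) * S.sv (x % 64) * (c : G)⁻¹) * ((c : G) * (l (x / 64) : G) * (c : G)⁻¹) by group,
        he, hci _ hx]
  have hb : inLine 1 (basePt (isHy v)) = true ∧ pnt (basePt (isHy v)) = basePt (isHy v) ∧ basePt (isHy v) < 64 := by
    have h := basePt_ok
    simp only [List.all_eq_true, Bool.and_eq_true, decide_eq_true_eq] at h
    obtain ⟨⟨⟨a, b⟩, c⟩, -⟩ := h (isHy v) (by cases isHy v <;> simp)
    exact ⟨a, b, c⟩
  have hbC : C (incCode 1 (basePt (isHy v))) := by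
    have e1 : incCode 1 (basePt (isHy v)) / 64 = 1 := by simp only [incCode, hb.2.1]; omega
    have e2 : incCode 1 (basePt (isHy v)) % 64 = basePt (isHy v) := by simp only [incCode, hb.2.1]; omega
    exact ⟨by omega, by rw [e2, hb.2.1], by rw [e1, e2, hc0]⟩
  have hcov : ∀ x ∈ incList (isHy v), x ∈ reach56 incGens 6 [incCode 1 (basePt (isHy v))] := by
    intro x hx
    cases hh : isHy v <;> rw [hh] at hx
    · have := List.all_eq_true.1 incOrbit_ext x hx
      simpa [List.contains_iff_mem] using this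
    · have := List.all_eq_true.1 incOrbit_hy x hx
      simpa [List.contains_iff_mem] using this
  obtain ⟨-, -, h3⟩ := reach56_const hC 6 [incCode 1 (basePt (isHy v))] (by simpa using hbC) _
    (hcov _ (incList_mem hi hi0 hv hv0 hvl))
  have hp64 := (pnt_spec hv).2.2.1
  rw [show incCode i v / 64 = i by simp only [incCode]; omega,
    show incCode i v % 64 = pnt v by simp only [incCode]; omega, (S.qb_mult hl hs hi hv _ (pnt_spec hv).1).2] at h3
  exact h3

theorem qb_eq {i v : ℕ} (hi : i < 16) (hi0 : i ≠ 0) (hv : v < 64) (hvl : inLine i v = true) :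
    S.qb l i v = qTab true false v := by
  obtain ⟨a, ha⟩ : ∃ a, a = S.qb l 1 (basePt true) := ⟨_, rfl⟩
  obtain ⟨b, hb⟩ : ∃ b, b = S.qb l 1 (basePt false) := ⟨_, rfl⟩
  have htab : ∀ i v, i < 16 → i ≠ 0 → v < 64 → inLine i v = true → S.qb l i v = qTab a b v := by
    intro i v hi hi0 hv hvl
    rcases eq_or_ne v 0 with rfl | hv0
    · simp [S.qb_zero hl hs hi hi0, qTab]
    · rw [S.qb_const hl hs hi hi0 hv hv0 hvl]
      have : Nat.beq v 0 = false := Bool.eq_false_iff.2 fun e => hv0 (Nat.eq_of_beq_eq_true e)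
      cases hh : isHy v <;> simp [qTab, this, hh, ha, hb]
  suffices h : a = true ∧ b = false by rw [htab i v hi hi0 hv hvl, h.1, h.2]
  have h16 : (1 : ℕ) < 16 := by norm_num
  have hone : (1 : ℕ) ≠ 0 := one_ne_zero
  have hcl := fun {v} (hv : v < 64) => line_closed56 h16 hone hv
  have key : ∀ v w, v < 64 → w < 64 → inLine 1 v = true → inLine 1 w = true → ∀ (f : ↥(cE z)) (s : ℕ → Bool),
      (∀ u, (f : G) * S.sv u * (f : G)⁻¹ = zb z (s u) * S.sv u) →
      (l 1 : ↥(cC z P)) • J4Type19.mk f = S.f.vec w + J4Type19.mk f → polTab a b v w = s v := by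
    intro v w hv hw hvl hwl f s hsf hfw
    obtain ⟨t, w', hw', -, hm, hsh⟩ := S.shiftF hl h16 hone f
    rw [S.f.vec_inj w' hw' w hw (add_right_cancel (hm.symm.trans hfw))] at hsh
    have hxl := (hcl hv).2.2 w hw hvl hwl
    have hx : v ^^^ w < 64 := Nat.xor_lt_two_pow (n := 6) hv hw
    have hs0 : s 0 = false := by
      have := S.bit_add f s hsf (v := 0) (w := 0) (by norm_num) (by norm_num)
      simpa using this
    have e1 := hsh v hv (s v) (hsf v) false
    have e0 := hsh 0 (by norm_num) (s 0) (hsf 0) false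
    rw [Nat.zero_xor, S.Z_line hl hs h16 hone hw hwl,
      S.Z_line hl hs h16 hone (by norm_num) (hcl hv).1, S.qb_zero hl hs h16 hone, hs0, htab 1 w h16 hone hw hwl] at e0
    rw [S.Z_line hl hs h16 hone hx hxl, S.Z_line hl hs h16 hone hv hvl, htab 1 _ h16 hone hx hxl,
      htab 1 v h16 hone hv hvl] at e1
    unfold polTab
    revert e0 e1
    cases t <;> cases qTab a b (v ^^^ w) <;> cases qTab a b v <;> cases qTab a b w <;> cases s v <;> simp
  have hbit : ∀ f : ↥(cE z), ∃ s : ℕ → Bool, ∀ u, (f : G) * S.sv u * (f : G)⁻¹ = zb z (s u) * S.sv u := fun f =>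
    ⟨fun u => Classical.choose (S.conj_bit f (v := u)), fun u => Classical.choose_spec (S.conj_bit f (v := u))⟩
  have hbil : ∀ u v w, u < 64 → v < 64 → w < 64 → inLine 1 u = true → inLine 1 v = true → inLine 1 w = true →
      polTab a b (u ^^^ v) w = (polTab a b u w ^^ polTab a b v w) := by
    intro u v w hu hv hw hul hvl hwl
    obtain ⟨x, hx⟩ := (S.f.line 1 h16 hone (l 1) (hl 1 h16).1 (S.l_four hl 1 h16) (S.f.vec w)).2 ⟨w, hw, hwl, rfl⟩
    obtain ⟨f, rfl⟩ := mk_surjective x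
    have hfw : (l 1 : ↥(cC z P)) • J4Type19.mk f = S.f.vec w + J4Type19.mk f := by
      rw [← hx, add_assoc, D.toJMod.two, add_zero]
    obtain ⟨s, hsf⟩ := hbit f
    rw [key _ w (Nat.xor_lt_two_pow (n := 6) hu hv) hw ((hcl hu).2.2 v hv hul hvl) hwl f s hsf hfw,
      key u w hu hw hul hwl f s hsf hfw, key v w hv hw hvl hwl f s hsf hfw, S.bit_add f s hsf hu hv]
  have hnd : ∀ v, v < 64 → v ≠ 0 → inLine 1 v = true → ∃ w, w < 64 ∧ inLine 1 w = true ∧ polTab a b v w = true := by
    intro v hv hv0 hvl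
    obtain ⟨f, hf⟩ : ∃ f : ↥(cE z), ¬ Commute (f : G) (S.sv v) := by
      by_contra hno
      push Not at hno
      apply hv0
      refine S.f.vec_inj v hv 0 (by norm_num) ?_
      rw [S.vec_zero, ← S.sv_mk v hv, mk_eq_zero D.hJ, ← center_iff D.hJ, Subgroup.mem_center_iff]
      exact fun f => Subtype.ext (hno f).eq
    obtain ⟨s, hsf⟩ := hbit f
    obtain ⟨t, w, hw, hwl, hm, -⟩ := S.shiftF hl h16 hone f
    refine ⟨w, hw, hwl, ?_⟩
    rw [key v w hv hw hvl hwl f s hsf hm]
    by_contra hne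
    rw [Bool.not_eq_true] at hne
    have := hsf v
    rw [hne, show zb z false = 1 from rfl, one_mul] at this
    exact hf (mul_inv_eq_iff_eq_mul.1 this)
  have hb2 : ∀ b : Bool, b ∈ [false, true] := fun b => by cases b <;> simp
  have h := qOpt_ok
  simp only [List.all_eq_true, List.any_eq_true, Bool.or_eq_true, Bool.and_eq_true, List.mem_filter, List.mem_range,
    Bool.not_eq_true'] at h
  rcases h a (hb2 a) b (hb2 b) with (h' | ⟨v, ⟨hv, hvl⟩, hv0, hw⟩) | ⟨u, ⟨hu, hul⟩, v, ⟨hv, hvl⟩, w, ⟨hw, hwl⟩, hne⟩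
  · exact h'
  · exfalso
    obtain ⟨w, hw', hwl, hp⟩ := hnd v hv (fun e => by rw [e] at hv0; simp at hv0) hvl
    rw [hw w ⟨hw', hwl⟩] at hp
    exact Bool.false_ne_true hp
  · exfalso
    rw [hbil u v w hu hv hw hul hvl hwl] at hne
    simp at hne

theorem Z_index {m : ℕ} (hm : m < 16) (hm0 : m ≠ 0) (t : Bool) : S.Z1 (zb z t * (l m : G)) ↔ t = true := by
  have h := hs.2.2.2.2 m hm hm0
  rw [el0, el0, S.sv_zero, mul_one, mul_one] at h
  cases t
  · simpa using h.1
  · simpa using h.2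

theorem mul_index {i j : ℕ} (hi : i < 16) (hj : j < 16) :
    ∃ t, (l i : G) * (l j : G) = zb z t * (l (i ^^^ j) : G) := by
  have hm : i ^^^ j < 16 := Nat.xor_lt_two_pow (n := 4) hi hj
  refine S.lift_unique hl hm (c := l i * l j) (by rw [map_mul, (hl i hi).1, (hl j hj).1, X.u_xor i hi j hj]) ?_
  have hc : Commute (l i) (l j) := Subtype.ext (S.commB (S.l_mem hl i hi) (S.l_mem hl j hj))
  rw [hc.mul_pow, S.l_four hl i hi, S.l_four hl j hj, one_mul]

theorem exists_k : ∃ c0 c1, ∀ i j, i < 16 → j < 16 →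
    (l i : G) * (l j : G) = zb z (kTab c0 c1 i j) * (l (i ^^^ j) : G) := by
  let F : ℕ → Bool := fun x => decide (S.Z1 ((l (x / 16) : G) * (l (x % 16) : G)))
  let good : ℕ → Prop := fun x => x / 16 < 16 ∧ x / 16 ≠ 0 ∧ x % 16 ≠ 0 ∧ x / 16 ≠ x % 16
  have hu := uP_ok
  simp only [List.all_eq_true, Bool.and_eq_true, decide_eq_true_eq] at hu
  have hC : ∀ c, ∀ g ∈ pairGens, ∀ x, (good x ∧ F x = c) → (good (g x) ∧ F (g x) = c) := by
    intro c g hg x ⟨⟨hx, h1, h2, h3⟩, hxF⟩
    have hx2 : x % 16 < 16 := Nat.mod_lt _ (by norm_num)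
    rw [pairGens, List.mem_append, List.mem_map, List.mem_cons, List.mem_singleton] at hg
    rcases hg with ⟨k, hk, rfl⟩ | rfl | rfl
    · obtain ⟨a1, a2⟩ := hu k hk _ (List.mem_range.2 hx)
      obtain ⟨b1, b2⟩ := hu k hk _ (List.mem_range.2 hx2)
      have e1 : (M22D.uP k (x / 16) * 16 + M22D.uP k (x % 16)) / 16 = M22D.uP k (x / 16) := by omega
      have e2 : (M22D.uP k (x / 16) * 16 + M22D.uP k (x % 16)) % 16 = M22D.uP k (x % 16) := by omega
      refine ⟨⟨by rw [e1]; exact a1, by rw [e1]; exact fun e => h1 (a2.2 e), by rw [e2]; exact fun e => h2 (b2.2 e), ?_⟩, ?_⟩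
      · rw [e1, e2]
        intro e
        apply h3
        refine X.u_inj _ hx _ hx2 ?_
        have := congrArg X.u e
        rw [← X.nu k (List.mem_range.1 hk) _ hx, ← X.nu k (List.mem_range.1 hk) _ hx2] at this
        exact mul_left_cancel (mul_right_cancel this)
      · rw [← hxF]
        obtain ⟨d, -, hd⟩ := S.gen_spec hl hs (List.mem_range.1 hk)
        refine decide_eq_decide.2 ?_
        rw [e1, e2, ← hd _ hx, ← hd _ hx2, ← S.Z1_conj (d : G) ((l (x / 16) : G) * (l (x % 16) : G))]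
        refine iff_of_eq (congrArg S.Z1 ?_)
        group
    · have e1 : (x % 16 * 16 + x / 16) / 16 = x % 16 := by omega
      have e2 : (x % 16 * 16 + x / 16) % 16 = x / 16 := by omega
      refine ⟨⟨by rw [e1]; exact hx2, by rw [e1]; exact h2, by rw [e2]; exact h1, by rw [e1, e2]; exact Ne.symm h3⟩, ?_⟩
      rw [← hxF]
      refine decide_eq_decide.2 ?_
      rw [e1, e2, S.commB (S.l_mem hl _ hx) (S.l_mem hl _ hx2)]
    · have hm : x / 16 ^^^ x % 16 < 16 := Nat.xor_lt_two_pow (n := 4) hx hx2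
      have e1 : (x / 16 * 16 + (x / 16 ^^^ x % 16)) / 16 = x / 16 := by omega
      have e2 : (x / 16 * 16 + (x / 16 ^^^ x % 16)) % 16 = x / 16 ^^^ x % 16 := by omega
      have hm0 : x / 16 ^^^ x % 16 ≠ 0 := fun e => h3 (Nat.xor_eq_zero_iff.1 e)
      refine ⟨⟨by rw [e1]; exact hx, by rw [e1]; exact h1, by rw [e2]; exact hm0, ?_⟩, ?_⟩
      · rw [e1, e2]
        intro e
        apply h2
        have := congrArg (fun w => x / 16 ^^^ w) e
        simpa using this.symm
      · rw [← hxF]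
        refine decide_eq_decide.2 ?_
        rw [e1, e2]
        obtain ⟨t, ht⟩ := S.mul_index hl hs hx hx2
        have hll : (l (x / 16) : G) * (l (x / 16) : G) = 1 := congrArg Subtype.val (hl _ hx).2
        have hkey : (l (x / 16) : G) * (l (x / 16 ^^^ x % 16) : G) = zb z t * (l (x % 16) : G) := by
          have hzz : zb z t * zb z t = 1 := by rw [← S.zb_mul, Bool.xor_self]; rfl
          calc (l (x / 16) : G) * (l (x / 16 ^^^ x % 16) : G)
              = (l (x / 16) : G) * (zb z t * zb z t * (l (x / 16 ^^^ x % 16) : G)) := by rw [hzz, one_mul]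
            _ = ((l (x / 16) : G) * zb z t) * (zb z t * (l (x / 16 ^^^ x % 16) : G)) := by group
            _ = (zb z t * (l (x / 16) : G)) * ((l (x / 16) : G) * (l (x % 16) : G)) := by
                rw [S.commBE (l (x / 16)).2.1, ← ht]
            _ = zb z t * ((l (x / 16) : G) * (l (x / 16) : G)) * (l (x % 16) : G) := by group
            _ = zb z t * (l (x % 16) : G) := by rw [hll, mul_one]
        rw [hkey, ht, S.Z_index hl hs hx2 h2, S.Z_index hl hs hm hm0]
  refine ⟨F 18, F pair1, fun i j hi hj => ?_⟩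
  rcases eq_or_ne i 0 with rfl | hi0
  · simp [kTab, hs.1, zb]
  rcases eq_or_ne j 0 with rfl | hj0
  · simp [kTab, hs.1, zb]
  rcases eq_or_ne i j with rfl | hij
  · have hll : (l i : G) * (l i : G) = 1 := congrArg Subtype.val (hl _ hi).2
    simp [kTab, hs.1, zb, hll]
  obtain ⟨t, ht⟩ := S.mul_index hl hs hi hj
  have hd1 : (i * 16 + j) / 16 = i := by omega
  have hd2 : (i * 16 + j) % 16 = j := by omega
  have hg18 : good 18 := by refine ⟨?_, ?_, ?_, ?_⟩ <;> norm_num
  have hgp : good pair1 := by refine ⟨?_, ?_, ?_, ?_⟩ <;> decide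
  have hFt : F (i * 16 + j) = t := by
    show decide (S.Z1 _) = t
    rw [hd1, hd2, ht]
    have hiff := S.Z_index hl hs (Nat.xor_lt_two_pow (n := 4) hi hj) (fun e => hij (Nat.xor_eq_zero_iff.1 e)) t
    cases t <;> simp [hiff]
  have hnb : (Nat.beq i 0 || Nat.beq j 0 || Nat.beq i j) = false := by
    rw [Bool.eq_false_iff.2 fun e => hi0 (Nat.eq_of_beq_eq_true e),
      Bool.eq_false_iff.2 fun e => hj0 (Nat.eq_of_beq_eq_true e),
      Bool.eq_false_iff.2 fun e => hij (Nat.eq_of_beq_eq_true e)]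
    rfl
  have hmemC : ∀ c, class0Mask.testBit (i * 16 + j) = c → i * 16 + j ∈ classList c := fun c hc =>
    List.mem_filter.2 ⟨List.mem_range.2 (by omega), by rw [hd1, hd2, hnb, hc]; simp⟩
  rw [ht]
  congr 2
  rw [← hFt, kTab, hnb, Bool.not_false, Bool.true_and]
  cases hc : class0Mask.testBit (i * 16 + j)
  · have := List.all_eq_true.1 pairOrbit1_ok _ (hmemC _ hc)
    rw [List.contains_iff_mem] at this
    exact (treeVals_const (hC (F pair1)) ⟨hgp, rfl⟩ tree1 _ this).2
  · have := List.all_eq_true.1 pairOrbit0_ok _ (hmemC _ hc)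
    rw [List.contains_iff_mem] at this
    exact (treeVals_const (hC (F 18)) ⟨hg18, rfl⟩ tree0 _ this).2

/-- The numbering for given constants. -/
noncomputable def elc (l : ℕ → ↥(cC z P)) (a b : Bool) (n : ℕ) : G :=
  S.el0 l (decide (n % 2 = 1) ^^ epsC a b (n / 128)) (n / 2 % 64) (n / 128)

theorem elc_mem (a b : Bool) {n : ℕ} (hn : n < 2048) : S.elc l a b n ∈ S.B :=
  S.el0_mem hl _ (Nat.mod_lt _ (by norm_num)) (by omega)

theorem elc_xor {a b : Bool}
    (hk : ∀ i j, i < 16 → j < 16 → (l i : G) * (l j : G) = zb z (kTab a b i j) * (l (i ^^^ j) : G))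
    {m n : ℕ} (hm : m < 2048) (hn : n < 2048) : S.elc l a b (m ^^^ n) = S.elc l a b m * S.elc l a b n := by
  obtain ⟨e, he⟩ : ∃ e, e = (decide (m % 2 = 1) ^^ epsC a b (m / 128)) := ⟨_, rfl⟩
  obtain ⟨e', he'⟩ : ∃ e', e' = (decide (n % 2 = 1) ^^ epsC a b (n / 128)) := ⟨_, rfl⟩
  have hi : m / 128 < 16 := by omega
  have hj : n / 128 < 16 := by omega
  have hcoc : (epsC a b (m / 128) ^^ epsC a b (n / 128) ^^ kTab a b (m / 128) (n / 128)) =
      epsC a b (m / 128 ^^^ n / 128) := by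
    have h := eps_cocycle
    simp only [List.all_eq_true, beq_iff_eq] at h
    exact h a (by cases a <;> simp) b (by cases b <;> simp) _ (List.mem_range.2 hi) _ (List.mem_range.2 hj)
  rw [elc, elc, elc, ← he, ← he', odd56_xor, vpart56_xor, ipart56_xor, ← hcoc]
  obtain ⟨v, hv, hvd⟩ : ∃ v, v < 64 ∧ m / 2 % 64 = v := ⟨_, Nat.mod_lt _ (by norm_num), rfl⟩
  obtain ⟨w, hw, hwd⟩ : ∃ w, w < 64 ∧ n / 2 % 64 = w := ⟨_, Nat.mod_lt _ (by norm_num), rfl⟩
  rw [hvd, hwd, el0, el0, el0, S.sv_xor hv hw]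
  have hc1 := S.commB (S.l_mem hl _ hi) (S.el0_mem hl e' hw (i := 0) (by norm_num))
  rw [el0, hs.1, OneMemClass.coe_one, mul_one] at hc1
  have hc2 := S.commBE (cE_le z (S.sv_mem_cE v)) e'
  have hc3 := S.commB (S.sv_mem w hw) (S.zb_mem (kTab a b (m / 128) (n / 128)))
  have hc4 := S.commB (S.sv_mem v hv) (S.zb_mem (kTab a b (m / 128) (n / 128)))
  symm
  calc zb z e * S.sv v * (l (m / 128) : G) * (zb z e' * S.sv w * (l (n / 128) : G))
      = zb z e * S.sv v * ((l (m / 128) : G) * (zb z e' * S.sv w)) * (l (n / 128) : G) := by group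
    _ = zb z e * (S.sv v * zb z e') * S.sv w * ((l (m / 128) : G) * (l (n / 128) : G)) := by rw [hc1]; group
    _ = zb z e * zb z e' * S.sv v * (S.sv w * zb z (kTab a b (m / 128) (n / 128))) *
          (l (m / 128 ^^^ n / 128) : G) := by rw [hc2, hk _ _ hi hj]; group
    _ = zb z e * zb z e' * (S.sv v * zb z (kTab a b (m / 128) (n / 128))) * S.sv w *
          (l (m / 128 ^^^ n / 128) : G) := by rw [hc3]; group
    _ = zb z e * zb z e' * zb z (kTab a b (m / 128) (n / 128)) * (S.sv v * S.sv w) *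
          (l (m / 128 ^^^ n / 128) : G) := by rw [hc4]; group
    _ = _ := by
      rw [← S.zb_mul, ← S.zb_mul]
      congr 3
      rw [he, he']
      cases decide (m % 2 = 1) <;> cases decide (n % 2 = 1) <;> cases epsC a b (m / 128) <;>
        cases epsC a b (n / 128) <;> cases kTab a b (m / 128) (n / 128) <;> rfl

theorem elc_inj (a b : Bool) {m n : ℕ} (hm : m < 2048) (hn : n < 2048) (h : S.elc l a b m = S.elc l a b n) :
    m = n := by
  obtain ⟨h1, h2, h3⟩ := S.el0_inj hl (Nat.mod_lt _ (by norm_num)) (Nat.mod_lt _ (by norm_num))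
    (by omega) (by omega) h
  rw [← h3] at h1
  have hodd : decide (m % 2 = 1) = decide (n % 2 = 1) := Bool.xor_left_inj.1 h1
  rw [decide_eq_decide] at hodd
  omega

theorem elc_surj (a b : Bool) {g : G} (hg : g ∈ S.B) : ∃ n, n < 2048 ∧ S.elc l a b n = g := by
  obtain ⟨e, v, i, hv, hi, rfl⟩ := S.el0_surj hl hg
  obtain ⟨d, hd⟩ : ∃ d, d = (e ^^ epsC a b i) := ⟨_, rfl⟩
  refine ⟨(if d then 1 else 0) + 2 * v + 128 * i, by split <;> omega, ?_⟩
  rw [elc, show ((if d then 1 else 0) + 2 * v + 128 * i) / 128 = i by split <;> omega,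
    show ((if d then 1 else 0) + 2 * v + 128 * i) / 2 % 64 = v by split <;> omega,
    show decide (((if d then 1 else 0) + 2 * v + 128 * i) % 2 = 1) = d by
      cases d <;> simp only [Bool.false_eq_true, if_false, if_true, decide_eq_false_iff_not, decide_eq_true_eq] <;> omega]
  congr 1
  rw [hd]; cases e <;> cases epsC a b i <;> rfl

theorem elc_cls (a b : Bool) {n : ℕ} (hn : n < 2048) :
    S.Z1 (S.elc l a b n) ↔ n ≠ 0 ∧ isO a b n = false := by
  have hi : n / 128 < 16 := by omega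
  have hv : n / 2 % 64 < 64 := Nat.mod_lt _ (by norm_num)
  rcases eq_or_ne (n / 128) 0 with h0 | h0
  · rw [elc, h0, el0, hs.1, OneMemClass.coe_one, mul_one, show epsC a b 0 = false from rfl, Bool.xor_false, isO, h0]
    simp only [show Nat.beq 0 0 = true from rfl, if_true]
    rcases eq_or_ne (n / 2 % 64) 0 with hv0 | hv0
    · rw [hv0, S.sv_zero, mul_one]
      have hb : Nat.beq 0 0 = true := rfl
      simp only [hb, Bool.not_true, Bool.false_and, and_true]
      by_cases hodd : n % 2 = 1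
      · simp only [hodd, decide_true]
        exact iff_of_true (IsConj.refl z) (by omega)
      · simp only [hodd, decide_false, show zb z false = 1 from rfl]
        exact iff_of_false S.Z1_one (by omega)
    · rw [S.sv_z hv hv0, S.Z1_sv hv hv0]
      have hb : Nat.beq (n / 2 % 64) 0 = false := Bool.eq_false_iff.2 fun e => hv0 (Nat.eq_of_beq_eq_true e)
      have hn0 : n ≠ 0 := by omega
      cases hh : isHy (n / 2 % 64)
      · simp only [Bool.false_eq_true, if_false, hb, Bool.not_false, Bool.and_false, hn0, ne_eq,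
          not_false_eq_true, and_self, iff_true]
        exact hs.2.2.1
      · simp only [if_true, hb, Bool.not_false, Bool.and_true, Bool.true_eq_false, and_false, iff_false]
        exact hs.2.1
  · rw [elc, isO, Bool.eq_false_iff.2 (fun e => h0 (Nat.eq_of_beq_eq_true e)) |>.trans rfl]
    have hn0 : n ≠ 0 := by omega
    simp only [Bool.false_eq_true, if_false, hn0, ne_eq, not_false_eq_true, true_and]
    cases hvl : inLine (n / 128) (n / 2 % 64)
    · rw [S.out_const hl hi h0 hv hvl, (S.invariants hl hi h0).2]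
      simp [hs.2.2.2.1]
    · rw [S.Z_line hl hs hi h0 hv hvl, S.qb_eq hl hs hi h0 hv hvl]
      by_cases hodd : n % 2 = 1
      · cases qTab true false (n / 2 % 64) <;> cases epsC a b (n / 128) <;> simp [hodd]
      · have : n % 2 = 0 := by omega
        cases qTab true false (n / 2 % 64) <;> cases epsC a b (n / 128) <;> simp [this]

theorem k_eq {a b : Bool}
    (hk : ∀ i j, i < 16 → j < 16 → (l i : G) * (l j : G) = zb z (kTab a b i j) * (l (i ^^^ j) : G)) :
    a = true ∧ b = false := by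
  by_contra hab
  obtain ⟨el, hel⟩ : ∃ el, el = S.elc l a b := ⟨_, rfl⟩
  have hmul : ∀ {m n}, m < 2048 → n < 2048 → el (m ^^^ n) = el m * el n := fun h1 h2 => by
    rw [hel]; exact S.elc_xor hl hs hk h1 h2
  have hlow : ∀ {n}, n < 128 → isO a b n = isO true false n := fun {n} hn => by
    have h := low_same
    simp only [List.all_eq_true, beq_iff_eq] at h
    exact h a (by cases a <;> simp) b (by cases b <;> simp) n (List.mem_range.2 hn)
  -- some element of the normaliser moves a member below 128 out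
  obtain ⟨m, hm, d, hd, hdO, e, he, he128, hme⟩ : ∃ m ∈ Subgroup.normalizer (S.B : Set G), ∃ d, d < 128 ∧
      isO a b d = true ∧ ∃ e, e < 2048 ∧ ¬ e < 128 ∧ m * el d * m⁻¹ = el e := by
    by_contra hno
    push Not at hno
    have hl1 : S.Z1 (S.el0 l true 0 1) := (hs.2.2.2.2 1 (by norm_num) one_ne_zero).2
    obtain ⟨g, hg⟩ := isConj_iff.1 hl1
    have hB1 : g * z * g⁻¹ ∈ S.B := hg ▸ S.el0_mem hl true (by norm_num) (by norm_num)
    obtain ⟨m, hm, hmz⟩ := fusion_control S.L S.hB S.hmem hB1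
    let Lo : ℕ → Prop := fun x => x < 2048 ∧ ∃ y, y < 128 ∧ m * el x * m⁻¹ = el y
    have hLo0 : Lo 0 := ⟨by norm_num, 0, by norm_num, by
      have h := hmul (m := 0) (n := 0) (by norm_num) (by norm_num)
      rw [Nat.xor_self] at h
      rw [left_eq_mul.1 h, mul_one, mul_inv_cancel]⟩
    have hLox : ∀ x x', Lo x → Lo x' → Lo (x ^^^ x') := by
      rintro x x' ⟨hx, y, hy, e1⟩ ⟨hx', y', hy', e2⟩
      refine ⟨Nat.xor_lt_two_pow (n := 11) hx hx', y ^^^ y', Nat.xor_lt_two_pow (n := 7) hy hy', ?_⟩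
      rw [hmul hx hx', hmul (by omega) (by omega), ← e1, ← e2]; group
    have hOlo : ∀ x, x < 128 → isO a b x = true → Lo x := by
      intro x hx hxO
      have hmemB : m * el x * m⁻¹ ∈ S.B :=
        (Subgroup.mem_normalizer_iff.1 hm _).1 (hel ▸ S.elc_mem hl hs a b (by omega))
      obtain ⟨y, hy, e1⟩ := S.elc_surj hl hs a b hmemB
      refine ⟨by omega, y, ?_, hel ▸ e1.symm⟩
      by_contra hy'
      exact hno m hm x hx hxO y hy (not_lt.1 hy') (hel ▸ e1.symm)
    have hLo1 : Lo 1 := by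
      have h := lowReps_ok
      simp only [List.all_eq_true, Bool.and_eq_true] at h
      obtain ⟨h1, h2⟩ := h 0 (List.mem_range.2 (by norm_num))
      have e1 := Nat.eq_of_beq_eq_true h1
      rw [pow_zero] at e1
      rw [← e1]
      clear h1 e1
      generalize lowReps.getD 0 [] = L at h2 ⊢
      induction L with
      | nil => exact hLo0
      | cons q L ih =>
        obtain ⟨h3, h4⟩ := h2 q (List.mem_cons_self ..)
        have hq : q < 128 := by simpa [Nat.blt_eq] using h3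
        exact hLox _ _ (hOlo q hq (by rw [hlow hq, h4])) (ih fun x hx => h2 x (List.mem_cons_of_mem _ hx))
    obtain ⟨-, y, hy, e1⟩ := hLo1
    have hz1 : el 1 = z := by
      rw [hel, elc, el0]
      simp [S.sv_zero, hs.1, zb, show epsC a b 0 = false from rfl]
    rw [hz1, hmz, hg, hel, elc, show y / 128 = 0 by omega] at e1
    have := (S.el0_inj hl (by norm_num) (Nat.mod_lt _ (by norm_num)) (by norm_num) (by norm_num) e1).2.2
    norm_num at this
  -- it preserves the number of neighbours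
  have hmemB : ∀ {x}, x < 2048 → m * el x * m⁻¹ ∈ S.B := fun hx =>
    (Subgroup.mem_normalizer_iff.1 hm _).1 (hel ▸ S.elc_mem hl hs a b hx)
  have hσex : ∀ x, ∃ y, x < 2048 → y < 2048 ∧ el y = m * el x * m⁻¹ := fun x => by
    by_cases hx : x < 2048
    · obtain ⟨y, hy, e1⟩ := S.elc_surj hl hs a b (hmemB hx)
      exact ⟨y, fun _ => ⟨hy, hel ▸ e1⟩⟩
    · exact ⟨0, fun h => absurd h hx⟩
  choose σ hσ using hσex
  have hinj : ∀ {x y}, x < 2048 → y < 2048 → el x = el y → x = y := fun h1 h2 h3 =>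
    S.elc_inj hl hs a b h1 h2 (hel ▸ h3)
  have hσi : ∀ x y, x < 2048 → y < 2048 → σ x = σ y → x = y := fun x y hx hy h => by
    have := congrArg el h
    rw [(hσ x hx).2, (hσ y hy).2] at this
    exact hinj hx hy (mul_left_cancel (mul_right_cancel this))
  have h0' : el 0 = 1 := by
    have h := hmul (m := 0) (n := 0) (by norm_num) (by norm_num)
    rw [Nat.xor_self] at h
    exact left_eq_mul.1 h
  have hO0 : isO a b 0 = false := by
    rw [hlow (by norm_num)]
    decide
  have hZO : ∀ {x}, x < 2048 → (S.Z1 (el x) ↔ x ≠ 0 ∧ isO a b x = false) := fun hx => by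
    rw [hel]; exact S.elc_cls hl hs a b hx
  have hσO : ∀ x, x < 2048 → isO a b (σ x) = isO a b x := by
    intro x hx
    obtain ⟨hy, e1⟩ := hσ x hx
    have hz : S.Z1 (el (σ x)) ↔ S.Z1 (el x) := by rw [e1, S.Z1_conj]
    rw [hZO hy, hZO hx] at hz
    have hx0 : σ x = 0 ↔ x = 0 := by
      constructor
      · intro h
        rw [h, h0'] at e1
        exact hinj hx (by norm_num) ((conj_eq_one_iff.1 e1.symm).trans h0'.symm)
      · intro h
        subst h
        rw [h0', mul_one, mul_inv_cancel] at e1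
        exact hinj hy (by norm_num) (e1.trans h0'.symm)
    rcases eq_or_ne x 0 with rfl | hne
    · rw [hx0.2 rfl]
    · have hne' : σ x ≠ 0 := fun h => hne (hx0.1 h)
      simp only [ne_eq, hne, hne', not_false_eq_true, true_and] at hz
      cases h1 : isO a b x <;> cases h2 : isO a b (σ x) <;> simp_all
  have hσx : ∀ x y, x < 2048 → y < 2048 → σ (x ^^^ y) = σ x ^^^ σ y := fun x y hx hy => by
    obtain ⟨h1, e1⟩ := hσ x hx
    obtain ⟨h2, e2⟩ := hσ y hy
    obtain ⟨h3, e3⟩ := hσ _ (Nat.xor_lt_two_pow (n := 11) hx hy)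
    refine hinj h3 (Nat.xor_lt_two_pow (n := 11) h1 h2) ?_
    rw [e3, hmul hx hy, hmul h1 h2, e1, e2]; group
  obtain ⟨Lst, hL⟩ : ∃ L, L = (List.range 2048).filter (oMask a b).testBit := ⟨_, rfl⟩
  have hmask : ∀ {x}, x < 2048 → (oMask a b).testBit x = isO a b x := fun {x} hx => by
    have h := oMask_ok
    simp only [List.all_eq_true, beq_iff_eq] at h
    exact (h a (by cases a <;> simp) b (by cases b <;> simp) x (List.mem_range.2 hx)).symm
  have hmemL : ∀ x, x ∈ Lst ↔ x < 2048 ∧ isO a b x = true := fun x => by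
    rw [hL, List.mem_filter, List.mem_range]
    exact and_congr_right fun h => by rw [hmask h]
  have hlen : Lst.length ≤ 276 := by
    rw [hL]
    revert hab
    cases a <;> cases b <;> intro hab <;> decide +kernel
  have hcheck : ∀ x ∈ Lst, ((Nat.beq ((Lst.filter fun y => (oMask a b).testBit (x ^^^ y)).length) 44) ==
      Nat.blt x 128) = true := by
    have h3 : ∀ k < 3, nbPart (oMask a b) Lst k = true := by
      intro k hk
      rw [hL]
      cases a <;> cases b
      · interval_cases k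
        exacts [kOpt_00_0, kOpt_00_1, kOpt_00_2]
      · interval_cases k
        exacts [kOpt_01_0, kOpt_01_1, kOpt_01_2]
      · exact absurd ⟨rfl, rfl⟩ hab
      · interval_cases k
        exacts [kOpt_11_0, kOpt_11_1, kOpt_11_2]
    intro x hx
    obtain ⟨j, hj, rfl⟩ := List.mem_iff_getElem.1 hx
    have hj3 : j / 92 < 3 := by omega
    refine List.all_eq_true.1 (h3 _ hj3) _ ?_
    rw [List.mem_iff_getElem]
    refine ⟨j % 92, ?_, ?_⟩
    · rw [List.length_take, List.length_drop]; omega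
    · rw [List.getElem_take, List.getElem_drop]
      congr 1
      omega
  have hd2 : d < 2048 := by omega
  have hσd : σ d = e := hinj (hσ d hd2).1 he ((hσ d hd2).2.trans hme)
  have heO : isO a b e = true := by rw [← hσd, hσO d hd2, hdO]
  have c1 := hcheck d ((hmemL d).2 ⟨hd2, hdO⟩)
  have c2 := hcheck e ((hmemL e).2 ⟨he, heO⟩)
  have hcount : (Lst.filter fun y => (oMask a b).testBit (d ^^^ y)).length =
      (Lst.filter fun y => (oMask a b).testBit (e ^^^ y)).length := by
    have hnd : Lst.Nodup := hL ▸ List.nodup_range.filter _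
    obtain ⟨T, hT⟩ : ∃ T : ℕ → Finset ℕ, T = fun x =>
        (Lst.filter fun y => (oMask a b).testBit (x ^^^ y)).toFinset := ⟨_, rfl⟩
    have hTm : ∀ x y, x < 2048 → (y ∈ T x ↔ y < 2048 ∧ isO a b y = true ∧ isO a b (x ^^^ y) = true) := fun x y hx => by
      rw [hT]
      simp only [List.mem_toFinset, List.mem_filter, hmemL]
      constructor
      · rintro ⟨⟨h1, h2⟩, h3⟩
        exact ⟨h1, h2, by rwa [hmask (Nat.xor_lt_two_pow (n := 11) hx h1)] at h3⟩
      · rintro ⟨h1, h2, h3⟩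
        exact ⟨⟨h1, h2⟩, by rw [hmask (Nat.xor_lt_two_pow (n := 11) hx h1)]; exact h3⟩
    have hTc : ∀ x, (T x).card = (Lst.filter fun y => (oMask a b).testBit (x ^^^ y)).length := fun x => by
      rw [hT]; exact List.toFinset_card_of_nodup (hnd.filter _)
    have hbound : ∀ y, y ∈ T d → σ y ∈ T e := fun y hy => by
      obtain ⟨h1, h2, h3⟩ := (hTm d y hd2).1 hy
      refine (hTm e (σ y) he).2 ⟨(hσ y h1).1, by rw [hσO y h1, h2], ?_⟩
      rw [← hσd, ← hσx d y hd2 h1, hσO _ (Nat.xor_lt_two_pow (n := 11) hd2 h1), h3]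
    rw [← hTc, ← hTc]
    refine Finset.card_nbij σ hbound ?_ ?_
    · intro x hx y hy hxy
      exact hσi x y ((hTm d x hd2).1 hx).1 ((hTm d y hd2).1 hy).1 hxy
    · intro y hy
      obtain ⟨h1, h2, h3⟩ := (hTm e y he).1 hy
      have hb : m⁻¹ * el y * m ∈ S.B :=
        (Subgroup.mem_normalizer_iff''.1 hm _).1 (hel ▸ S.elc_mem hl hs a b h1)
      obtain ⟨x, hx, e1⟩ := S.elc_surj hl hs a b hb
      rw [← hel] at e1
      have hσxy : σ x = y := hinj (hσ x hx).1 h1 (by rw [(hσ x hx).2, e1]; group)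
      refine ⟨x, (hTm d x hd2).2 ⟨hx, by rw [← hσO x hx, hσxy, h2], ?_⟩, hσxy⟩
      rw [← hσO _ (Nat.xor_lt_two_pow (n := 11) hd2 hx), hσx d x hd2 hx, hσd, hσxy, h3]
  rw [hcount, show Nat.blt d 128 = true by simpa [Nat.blt_eq] using hd] at c1
  rw [show Nat.blt e 128 = false by simpa [Bool.eq_false_iff, Nat.blt_eq] using he128] at c2
  revert c1 c2
  cases Nat.beq ((Lst.filter fun y => (oMask a b).testBit (e ^^^ y)).length) 44 <;> simp

omit hl hs in
theorem specData (hmain : ∃ g : G, g * z * g⁻¹ ∈ cC z P ∧ g * z * g⁻¹ ≠ z) : Nonempty (SpecData S) := by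
  obtain ⟨l, hl, hs⟩ := S.exists_spec hmain
  obtain ⟨a, b, hk⟩ := S.exists_k hl hs
  obtain ⟨rfl, rfl⟩ := S.k_eq hl hs hk
  have helx : ∀ n, n < 2048 → elx S l n = S.elc l true false n := by
    intro n hn
    have hi : n / 128 < 16 := by omega
    have heps : epsW (n / 128) = if epsC true false (n / 128) then 1 else 0 := by
      have h := eps_epsW
      simp only [List.all_eq_true, beq_iff_eq] at h
      exact (h _ (List.mem_range.2 hi)).symm
    have hzp : ∀ e : Bool, z ^ (if e then 1 else 0) = zb z e := fun e => by cases e <;> simp [zb]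
    rw [elx, elc, el0, heps, hzp, show z ^ (n % 2) = zb z (decide (n % 2 = 1)) by
      rcases Nat.mod_two_eq_zero_or_one n with h | h <;> simp [h, zb], S.zb_mul]
    have h1 : S.sv (n / 2 % 64) * ((l (n / 128) : G) * zb z (epsC true false (n / 128))) =
        zb z (epsC true false (n / 128)) * S.sv (n / 2 % 64) * (l (n / 128) : G) := by
      rw [S.commBE (l _).2.1, ← mul_assoc, S.commBE (cE_le z (S.sv_mem_cE _))]
    rw [mul_assoc (zb z (decide (n % 2 = 1))), h1]
    group
  refine ⟨{ x := l, x_zero := hs.1, x_π := fun i hi => (hl i hi).1, x_sq := fun i hi => (hl i hi).2,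
            x_nz := ?_, x_z := ?_, el_mem := ?_, el_surj := ?_, el_inj := ?_, el_xor := ?_, cls := ?_ }⟩
  · intro i hi hi0 hc
    have h := (hs.2.2.2.2 i hi hi0).1
    rw [el0, S.sv_zero, mul_one, show zb z false = 1 from rfl, one_mul] at h
    exact h hc
  · intro i hi hi0
    have h := (hs.2.2.2.2 i hi hi0).2
    rw [el0, S.sv_zero, mul_one, show zb z true = z from rfl, D.comm_z] at h
    exact h
  · intro n hn; rw [helx n hn]; exact S.elc_mem hl hs _ _ hn
  · intro g hg
    obtain ⟨n, hn, e⟩ := S.elc_surj hl hs true false hg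
    exact ⟨n, hn, by rw [helx n hn, e]⟩
  · intro m hm n hn h
    rw [helx m hm, helx n hn] at h
    exact S.elc_inj hl hs _ _ hm hn h
  · intro m hm n hn
    rw [helx m hm, helx n hn, helx _ (Nat.xor_lt_two_pow (n := 11) hm hn)]
    exact S.elc_xor hl hs hk hm hn
  · intro n hn
    rw [helx n hn]
    refine (S.elc_cls hl hs true false hn).trans ?_
    have h := oMask_ok
    simp only [List.all_eq_true, beq_iff_eq] at h
    rw [h true (by simp) false (by simp) n (List.mem_range.2 hn), isO_isD]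
    exact Iff.rfl

end Base

/-- The numbering exists. -/
theorem specStmt : SpecStmt.{u} := fun _ _ _ _ _ _ _ S hmain => S.specData hmain

end Cfsg.Agent.Lib.J4Two56
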