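import Cfsg.Agent.Lib.J4Two56.Stmts2
import Cfsg.Agent.Lib.J4Two56.ModelFacts

/-!
# An element centralising a sextet element and a pair element normalises the elementary subgroup
-/

set_option autoImplicit false

universe u

namespace Cfsg.Agent.Lib.J4Two56

open Cfsg Cfsg.Agent.Lib.J4Type19

attribute [local instance] m22_finite

/-- Below 128 the classes of pairs have their vector on the hyperoval. -/
theorem isD_low_hy : ((List.range 128).all fun b =>
    !isD b || (isHy (b / 2 % 64) && !Nat.beq (b / 2 % 64) 0)) = true := by decide +kernel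

theorem planeList_zero : M22D.planeList.getD 0 (0, 0, []) = (0, 0, []) := by decide +kernel

variable {G : Type u} [Group G] [Finite G] {z : G} {P : Subgroup G}

theorem mk_sec (D : HData z P) (e : ↥(cE z)) : mk (sec D e) = mk e := by
  have hs : ∀ x : ↥(cE z), mk (cEAut D.p D.pH x) = D.toJMod.ω • mk x := fun x => (D.smul_p_mk x).symm
  rw [sec, mk_mul, hs, hs]
  have h := D.toJMod.ω_sum (mk e)
  rw [add_assoc, add_eq_zero_iff_eq_neg, D.toJMod.neg_eq] at h
  conv_rhs => rw [h]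
  exact add_comm _ _

theorem mk_secV (D : HData z P) (v : cV z) : mk (secV D v) = v := by
  rw [secV, mk_sec]
  exact Function.surjInv_eq mk_surjective v

theorem Plus.conjSub_zero {M : Type*} [Group M] (X : Plus M) : conjSub (X.pl 0) X.F.U0 = X.F.U0 := by
  have h0 : X.u 0 = 1 := by
    have h := X.u_xor 0 (by omega) 0 (by omega)
    rw [Nat.xor_self] at h
    exact mul_eq_left.1 h.symm
  have hp : X.pl 0 = 1 := by
    rw [X.pl_eq 0 (by omega), planeList_zero, h0]
    simp [wordVal]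
  ext x
  rw [hp, Subgroup.mem_map]
  constructor
  · rintro ⟨y, hy, rfl⟩
    simpa using hy
  · exact fun hx => ⟨x, hx, by simp⟩

theorem centQD_one (hP : PlanesStmt.{u}) (D : HData z P) (X : Plus M22t) (L : Lifts D.toJMod X.F)
    (l : Loc D X L) {g : G} (hg : g ∈ cH z) {b : ℕ} (hb : b < 2048) (hD : isD b = true)
    (hgb : g * l.T.el b = l.T.el b * g) : g ∈ Subgroup.normalizer (l.T.V : Set G) := by
  classical
  let V := l.T.V
  have hVH : V ≤ cH z := fun v hv => by
    obtain ⟨e, -, c, -, -, rfl⟩ := (l.mem_B v).1 hv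
    exact mul_mem (cE_le z e.2) c.2.1
  have hel0 : l.T.el 0 = 1 := by
    have h := l.T.el_xor 0 (by omega) 0 (by omega)
    rw [Nat.xor_self] at h
    exact mul_eq_left.1 h.symm
  have hVsq : ∀ v ∈ V, v * v = 1 := fun v hv => by
    obtain ⟨a, ha, rfl⟩ := (l.T.mem_V v).1 hv
    rw [← l.T.el_xor a ha a ha, Nat.xor_self, hel0]
  have hVc : Nat.card ↥V = 2 ^ 11 := by
    let f : Fin 2048 → ↥V := fun a => ⟨l.T.el a, (l.T.mem_V _).2 ⟨a, a.2, rfl⟩⟩
    have hf : Function.Bijective f :=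
      ⟨fun a c h => Fin.ext (l.T.el_inj a a.2 c c.2 (congrArg Subtype.val h)), fun v => by
        obtain ⟨a, ha, e⟩ := (l.T.mem_V _).1 v.2
        exact ⟨⟨a, ha⟩, Subtype.ext e⟩⟩
    rw [← Nat.card_eq_of_bijective f hf, Nat.card_fin]; norm_num
  obtain ⟨B, hBdef⟩ : ∃ B : Subgroup G, B = V.map (MulAut.conj g).toMonoidHom := ⟨_, rfl⟩
  have hmB : ∀ x, x ∈ B ↔ ∃ v ∈ V, g * v * g⁻¹ = x := fun x => by
    rw [hBdef, Subgroup.mem_map]; rfl
  have hBH : B ≤ cH z := fun x hx => by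
    obtain ⟨v, hv, rfl⟩ := (hmB x).1 hx
    exact mul_mem (mul_mem hg (hVH hv)) (inv_mem hg)
  have hBsq : ∀ x ∈ B, x * x = 1 := fun x hx => by
    obtain ⟨v, hv, rfl⟩ := (hmB x).1 hx
    rw [conj_mul, hVsq v hv]; group
  have hBc : Nat.card ↥B = 2 ^ 11 := by
    rw [hBdef, ← hVc]
    exact (Nat.card_congr (Subgroup.equivMapOfInjective V _ (MulAut.conj g).injective).toEquiv).symm
  obtain ⟨U, hU, hin, -, hE⟩ := D.key L hBH hBsq hBc
  suffices hU0 : U = X.F.U0 by
    have hle : B ≤ V := fun x hx => (l.mem_B x).2 (hU0 ▸ D.le_span L hBH hBsq hU hin hE hx)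
    have heq : B = V := Subgroup.eq_of_le_of_card_ge hle (by omega)
    rw [Subgroup.mem_normalizer_iff]
    intro x
    constructor
    · intro hx
      show g * x * g⁻¹ ∈ V
      rw [← heq]; exact (hmB _).2 ⟨x, hx, rfl⟩
    · intro hx
      have hx' : g * x * g⁻¹ ∈ B := by rw [heq]; exact hx
      obtain ⟨v, hv, e⟩ := (hmB _).1 hx'
      rwa [mul_left_cancel (mul_right_cancel e)] at hv
  have htV : l.T.el b ∈ V := (l.T.mem_V _).2 ⟨b, hb, rfl⟩
  have htB : l.T.el b ∈ B := (hmB _).2 ⟨_, htV, by rw [hgb]; group⟩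
  have hel := l.el_eq b hb
  have hzE : z ^ (b % 2) ∈ cE z := pow_mem (z_mem D.hJ) _
  by_cases hi : b / 128 = 0
  · rw [hi, l.x_zero, show epsW 0 = 0 from rfl, OneMemClass.coe_one, pow_zero, mul_one, mul_one] at hel
    have hv64 : b / 2 % 64 < 64 := Nat.mod_lt _ (by omega)
    have hchk := List.all_eq_true.1 isD_low_hy b (List.mem_range.2 (by omega))
    simp only [hD, Bool.not_true, Bool.false_or, Bool.and_eq_true, Bool.not_eq_true'] at hchk
    obtain ⟨hhy, hv0⟩ := hchk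
    have hne : b / 2 % 64 ≠ 0 := fun h0 => by rw [h0] at hv0; simp at hv0
    obtain ⟨ze, hze⟩ : ∃ ze : ↥(cE z), ze = ⟨z ^ (b % 2), hzE⟩ := ⟨_, rfl⟩
    have hmz : mk ze = 0 := (mk_eq_zero D.hJ).2 (by
      rcases Nat.mod_two_eq_zero_or_one b with h | h
      · left; rw [hze]; show z ^ (b % 2) = 1; rw [h, pow_zero]
      · right; rw [hze]; show z ^ (b % 2) = z; rw [h, pow_one])
    obtain ⟨t, ht⟩ : ∃ t : ↥(cE z), t = ze * secV D (l.f.vec (b / 2 % 64)) := ⟨_, rfl⟩
    have htG : (t : G) = l.T.el b := by rw [ht, hze, hel]; rfl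
    have hmt : mk t = l.f.vec (b / 2 % 64) := by rw [ht, mk_mul, hmz, mk_secV, zero_add]
    obtain ⟨e, he, c, -, h4, heq⟩ := D.le_span L hBH hBsq hU hin hE htB
    have hcE : (c : G) ∈ cE z := by
      have : (e : G)⁻¹ * l.T.el b ∈ cE z := mul_mem (inv_mem e.2) (htG ▸ t.2)
      rwa [heq, inv_mul_cancel_left] at this
    have hπ : D.π c = 1 := by
      apply m22_conj_injective
      rw [D.π_eq, map_one, show (⟨(c : G), c.2.1⟩ : ↥(cH z)) = ⟨(c : G), cE_le z hcE⟩ from rfl]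
      exact D.φ_cE hcE
    have hmk : mk e = mk t := by
      rw [mk_eq D.hJ, htG, heq]
      rcases D.ker_two hπ (D.ker_four hπ h4) with h | h
      · left; rw [h, mul_one]
      · right; rw [h]
    exact (hP G z P D X L l.f).1 U hU _ hv64 hne hhy (by rw [← hmt, ← hmk]; exact he)
  · have hi16 : b / 128 < 16 := by omega
    obtain ⟨e, he⟩ : ∃ e, e = z ^ (b % 2) * (secV D (l.f.vec (b / 2 % 64)) : G) * z ^ epsW (b / 128) := ⟨_, rfl⟩
    have heE : e ∈ cE z := by
      rw [he]; exact mul_mem (mul_mem hzE (Subtype.coe_prop _)) (pow_mem (z_mem D.hJ) _)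
    have htec : l.T.el b = e * (l.x (b / 128) : G) := by
      have hc : (l.x (b / 128) : G) * z ^ epsW (b / 128) = z ^ epsW (b / 128) * (l.x (b / 128) : G) :=
        ((show Commute z (l.x (b / 128) : G) from D.comm_z _).symm.pow_right _).eq
      rw [hel, hc, he, ← mul_assoc]
    obtain ⟨u, hu, hφ⟩ := hin _ htB
    rw [D.φ_inner heE _ htec, l.x_π _ hi16] at hφ
    have huU : X.u (b / 128) ∈ U := m22_conj_injective hφ ▸ hu
    obtain ⟨m, -, hm⟩ := D.toJMod.good_conj L hU (S := U)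
      (IsPGroup.of_card (n := 4) (by rw [hU.1]; norm_num)) le_rfl
    have hUm : U = conjSub m⁻¹ X.F.U0 := by
      rw [conjSub, ← hm, Subgroup.map_map]
      ext x
      rw [Subgroup.mem_map]
      exact ⟨fun hx => ⟨x, hx, by simp [mul_assoc]⟩, fun ⟨y, hy, e⟩ => by simp [mul_assoc] at e; exact e ▸ hy⟩
    obtain ⟨j, hj, hje⟩ := X.planes m⁻¹
    rw [← hUm] at hje
    by_cases hj0 : j = 0
    · rw [hje, hj0, X.conjSub_zero]
    · exact absurd (X.disjoint j hj hj0 _ hi16 (hje ▸ huU)) hi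

/-- An element centralising a sextet element and a pair element normalises the subgroup. -/
theorem centQDStmt (hP : PlanesStmt.{u}) : CentQDStmt.{u} := by
  intro G _ _ z P D X L l a b ha hb hQ hD g hga hgb
  obtain ⟨σ, hσ, hσa⟩ := trans_Q ha hQ
  obtain ⟨n, hn⟩ := l.T.ρ_surj ⟨σ, hσ⟩
  have hna : (n : G) * l.T.el a * (n : G)⁻¹ = z := by
    rw [l.T.ρ_spec n a ha, hn, hσa, l.T.el_z]
  have hnb : (n : G) * l.T.el b * (n : G)⁻¹ = l.T.el (act σ b) := by
    rw [l.T.ρ_spec n b hb, hn]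
  obtain ⟨g', hg'⟩ : ∃ g', g' = (n : G) * g * (n : G)⁻¹ := ⟨_, rfl⟩
  have hc : ∀ x, g * x = x * g → g' * ((n : G) * x * (n : G)⁻¹) = (n : G) * x * (n : G)⁻¹ * g' := fun x hx => by
    rw [hg', conj_mul, conj_mul, hx]
  have h1 : g' ∈ Subgroup.normalizer (l.T.V : Set G) := by
    refine centQD_one hP D X L l (Subgroup.mem_centralizer_singleton_iff.2 ?_) (act_lt σ b)
      (by rw [isD_act hσ hb]; exact hD) (hnb ▸ hc _ hgb)
    exact hna ▸ hc _ hga
  have h2 : (n : G)⁻¹ * g' * (n : G) ∈ Subgroup.normalizer (l.T.V : Set G) :=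
    mul_mem (mul_mem (inv_mem n.2) h1) n.2
  rwa [hg', show (n : G)⁻¹ * ((n : G) * g * (n : G)⁻¹) * (n : G) = g by group] at h2

end Cfsg.Agent.Lib.J4Two56
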