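import Cfsg.Agent.Lib.J4Two56.Model

/-!
# Counting facts about the classes of pairs
-/

set_option autoImplicit false
set_option maxRecDepth 10000

namespace Cfsg.Agent.Lib.J4Two56

/-- The classes of pairs, listed. -/
def dList : List ℕ := [
  2, 3, 4, 5, 6, 7, 8, 9, 16, 17, 24, 25, 32, 33, 42, 43, 54, 55,
  60, 61, 64, 65, 78, 79, 84, 85, 90, 91, 96, 97, 108, 109, 114, 115, 126, 127,
  128, 140, 150, 154, 161, 172, 183, 186, 193, 204, 214, 219, 225, 237, 246, 250, 256, 259,
  261, 263, 312, 314, 317, 318, 328, 330, 332, 335, 368, 371, 372, 374, 385, 392, 400, 408,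
  419, 426, 435, 443, 453, 461, 468, 477, 487, 495, 503, 510, 512, 515, 517, 519, 521, 522,
  524, 526, 529, 530, 532, 534, 537, 538, 540, 542, 641, 653, 663, 667, 679, 682, 689, 700,
  707, 718, 724, 729, 741, 745, 754, 766, 768, 777, 785, 793, 804, 812, 820, 829, 838, 847,
  854, 862, 866, 874, 883, 890, 897, 898, 900, 902, 937, 938, 941, 943, 977, 979, 980, 983,
  1017, 1019, 1021, 1022, 1024, 1027, 1029, 1031, 1057, 1058, 1060, 1062, 1089, 1090, 1092, 1094, 1121, 1122,
  1124, 1126, 1152, 1155, 1157, 1159, 1200, 1202, 1204, 1207, 1240, 1243, 1244, 1246, 1256, 1258, 1261, 1262,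
  1280, 1294, 1298, 1308, 1313, 1326, 1330, 1341, 1345, 1359, 1362, 1372, 1377, 1390, 1395, 1404, 1408, 1418,
  1428, 1438, 1442, 1448, 1463, 1469, 1476, 1487, 1488, 1499, 1510, 1517, 1523, 1528, 1536, 1545, 1553, 1561,
  1569, 1576, 1584, 1592, 1601, 1608, 1616, 1624, 1633, 1640, 1648, 1656, 1664, 1673, 1681, 1689, 1702, 1710,
  1719, 1726, 1730, 1738, 1746, 1755, 1764, 1773, 1780, 1788, 1793, 1807, 1811, 1821, 1829, 1834, 1846, 1849,
  1863, 1865, 1876, 1882, 1891, 1900, 1905, 1918, 1921, 1931, 1941, 1951, 1952, 1962, 1973, 1983, 1984, 1995,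
  2004, 2015, 2016, 2027, 2037, 2046]

theorem dList_ok : (List.range 2048).filter isD = dList := by decide +kernel

theorem dList_nodup : dList.Nodup := dList_ok ▸ List.nodup_range.filter _

theorem dList_length : dList.length = 276 := by decide +kernel

theorem mem_dList {n : ℕ} (hn : n < 2048) : n ∈ dList ↔ isD n = true := by
  rw [← dList_ok, List.mem_filter, List.mem_range]
  exact and_iff_right hn

theorem lt_of_mem_dList {n : ℕ} (h : n ∈ dList) : n < 2048 := by
  rw [← dList_ok, List.mem_filter, List.mem_range] at h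
  exact h.1

theorem isD_of_mem_dList {n : ℕ} (h : n ∈ dList) : isD n = true :=
  (mem_dList (lt_of_mem_dList h)).1 h

theorem nbr_ok : (dList.all fun d => (dList.filter fun e => isD (d ^^^ e)).length == 44) = true := by
  decide +kernel

/-- `p` at all pairs of a list, in the order of the list. -/
def pairAll (p : ℕ → ℕ → Bool) : List ℕ → Bool
  | [] => true
  | a :: t => t.all (p a) && pairAll p t

/-- No seven numbers of pairs form a group with zero. -/
def triAll : List ℕ → Bool
  | [] => true
  | d :: t => pairAll (fun e f => !(isD (e ^^^ f) && isD (d ^^^ e ^^^ f)))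
      (t.filter fun e => isD (d ^^^ e)) && triAll t

theorem triAll_ok : triAll dList = true := by decide +kernel

theorem pairAll_mem {p : ℕ → ℕ → Bool} : ∀ {l : List ℕ}, pairAll p l = true →
    ∀ a ∈ l, ∀ b ∈ l, a ≠ b → p a b = true ∨ p b a = true
  | [], _, a, ha, _, _, _ => absurd ha List.not_mem_nil
  | c :: t, h, a, ha, b, hb, hab => by
    rw [pairAll, Bool.and_eq_true, List.all_eq_true] at h
    rcases List.mem_cons.1 ha with rfl | ha'
    · rcases List.mem_cons.1 hb with rfl | hb'
      · exact absurd rfl hab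
      · exact Or.inl (h.1 b hb')
    · rcases List.mem_cons.1 hb with rfl | hb'
      · exact Or.inr (h.1 a ha')
      · exact pairAll_mem h.2 a ha' b hb' hab

/-- Three numbers of pairs with four such exclusive ors do not exist. -/
theorem no_seven {d e f : ℕ} (hd : d ∈ dList) (he : e ∈ dList) (hf : f ∈ dList)
    (hde : isD (d ^^^ e) = true) (hdf : isD (d ^^^ f) = true) (hef : isD (e ^^^ f) = true) :
    isD (d ^^^ e ^^^ f) = false := by
  have key : ∀ l : List ℕ, triAll l = true → d ∈ l → e ∈ l → f ∈ l →
      isD (d ^^^ e ^^^ f) = false := by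
    intro l
    induction l with
    | nil => intro _ h; exact absurd h List.not_mem_nil
    | cons c t ih =>
      intro h h1 h2 h3
      rw [triAll, Bool.and_eq_true] at h
      have h0 : ¬ isD 0 = true := by decide +kernel
      have hne : ∀ {x y : ℕ}, isD (x ^^^ y) = true → x ≠ y := fun hxy hxe => by
        subst hxe
        rw [Nat.xor_self] at hxy
        exact h0 hxy
      have step : ∀ x y : ℕ, x ∈ c :: t → y ∈ c :: t → isD (c ^^^ x) = true →
          isD (c ^^^ y) = true → isD (x ^^^ y) = true → isD (c ^^^ x ^^^ y) = false := by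
        intro x y hx hy hcx hcy hxy
        have hx' := (List.mem_cons.1 hx).resolve_left (hne hcx).symm
        have hy' := (List.mem_cons.1 hy).resolve_left (hne hcy).symm
        have hyx : isD (y ^^^ x) = true := by rwa [Nat.xor_comm]
        rcases pairAll_mem h.1 x (List.mem_filter.2 ⟨hx', hcx⟩) y (List.mem_filter.2 ⟨hy', hcy⟩)
          (hne hxy) with h5 | h5
        · simpa [hxy] using h5
        · rw [Nat.xor_right_comm]
          simpa [hyx] using h5
      rcases List.mem_cons.1 h1 with h1' | h1'
      · subst h1'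
        exact step e f h2 h3 hde hdf hef
      · rcases List.mem_cons.1 h2 with h2' | h2'
        · subst h2'
          rw [Nat.xor_comm d e]
          exact step d f h1 h3 (by rwa [Nat.xor_comm]) hef hdf
        · rcases List.mem_cons.1 h3 with h3' | h3'
          · subst h3'
            rw [Nat.xor_comm (d ^^^ e) f, ← Nat.xor_assoc]
            exact step d e h1 h2 (by rwa [Nat.xor_comm]) (by rwa [Nat.xor_comm]) hde
          · exact ih h.2 h1' h2' h3'
  exact key dList triAll_ok hd he hf

theorem out_pair : (dList.all fun d => dList.any fun c => decide (d ^^^ c ≠ 0) && !isD (d ^^^ c)) = true := by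
  decide +kernel

theorem out_triangle : (dList.all fun d => dList.all fun e => !isD (d ^^^ e) || dList.any fun c =>
    decide (d ^^^ c ≠ 0) && !isD (d ^^^ c) && isD (d ^^^ c ^^^ e) && isD (d ^^^ c ^^^ (d ^^^ e))) = true := by
  decide +kernel

theorem far_pair : (dList.all fun b => (List.range 32).any fun a =>
    decide (a ≠ 0) && !isD a && decide (a ^^^ b ≠ 0) && !isD (a ^^^ b)) = true := by
  decide +kernel

end Cfsg.Agent.Lib.J4Two56
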