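import Cfsg.Agent.Lib.J4Two56.Model
import Cfsg.Agent.Lib.J4Type19.M22Facts
import Cfsg.Agent.Lib.Golay.ClassFacts

/-!
# Elementary subgroups fixing points, and fixed classes of involutions
-/

set_option autoImplicit false
set_option maxRecDepth 100000

namespace Cfsg.Agent.Lib.J4Two56

open Cfsg Cfsg.Agent.Lib
open scoped Pointwise

theorem isPGroup_of_sq {M : Type*} [Group M] (h : ∀ a : M, a * a = 1) : IsPGroup 2 M :=
  fun a => ⟨1, by rw [pow_one, pow_two]; exact h a⟩

theorem m22_elem_le (A : Subgroup ↥Spor.M22) (h : ∀ x ∈ A, x * x = 1) : Nat.card A ≤ 16 := by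
  classical
  obtain ⟨F⟩ := J4Type19.exists_mFacts
  obtain ⟨g, hg⟩ := F.sylow A (isPGroup_of_sq fun a => Subtype.ext (h a a.2))
  have hle : A.map (MulAut.conj g).toMonoidHom ≤ F.P0 := by
    rintro _ ⟨s, hs, rfl⟩; exact hg s hs
  have hsq : ∀ x ∈ A.map (MulAut.conj g).toMonoidHom, x * x = 1 := by
    rintro _ ⟨s, hs, rfl⟩; rw [← map_mul, h s hs, map_one]
  have e := (F.small _ hle hsq).1
  rwa [Subgroup.card_map_of_injective (MulAut.conj g).injective] at e

/-- An elementary subgroup of `M24` fixing two points has order at most 16. -/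
theorem card_le_of_two {A : Subgroup (Equiv.Perm GolayPt)} (hA : A ≤ Cfsg.M24)
    (h2 : ∀ a ∈ A, a * a = 1) {p q : GolayPt} (hpq : p ≠ q) (hp : ∀ a ∈ A, a p = p)
    (hq : ∀ a ∈ A, a q = q) : Nat.card A ≤ 16 := by
  classical
  obtain ⟨g, hg, e⟩ := Golay.exists_map_list [p, q] [(none : GolayPt), some 0] rfl (by simp)
    (by simp [hpq]) (by simp)
  simp only [List.map_cons, List.map_nil, List.cons.injEq, and_true] at e
  obtain ⟨ep, eq⟩ := e
  have hm : ∀ a ∈ A, g * a * g⁻¹ ∈ Spor.M22 := by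
    intro a ha
    refine Subgroup.mem_inf.2 ⟨Subgroup.mem_inf.2
      ⟨mul_mem (mul_mem hg (hA ha)) (inv_mem hg), ?_⟩, ?_⟩
    · show g (a (g⁻¹ none)) = none
      rw [show g⁻¹ none = p by rw [← ep]; simp, hp a ha, ep]
    · show g (a (g⁻¹ (some 0))) = some 0
      rw [show g⁻¹ (some 0) = q by rw [← eq]; simp, hq a ha, eq]
  let f : A →* Spor.M22 :=
    ((MulAut.conj g).toMonoidHom.comp A.subtype).codRestrict Spor.M22 fun a => hm a a.2
  have hf : Function.Injective f := fun a b hab =>
    Subtype.ext ((MulAut.conj g).injective (congrArg Subtype.val hab))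
  have e := m22_elem_le f.range (by
    rintro _ ⟨a, rfl⟩
    rw [← map_mul, show a * a = 1 from Subtype.ext (h2 a a.2), map_one])
  rwa [Nat.card_congr (MonoidHom.ofInjective hf).toEquiv.symm] at e

/-- An elementary subgroup of `M24` fixing three points has order at most 16. -/
theorem card_le_of_three {A : Subgroup (Equiv.Perm GolayPt)} (hA : A ≤ Cfsg.M24)
    (h2 : ∀ a ∈ A, a * a = 1) {p q r : GolayPt} (hpq : p ≠ q) (_hpr : p ≠ r) (_hqr : q ≠ r)
    (hp : ∀ a ∈ A, a p = p) (hq : ∀ a ∈ A, a q = q) (_hr : ∀ a ∈ A, a r = r) :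
    Nat.card A ≤ 16 := card_le_of_two hA h2 hpq hp hq

/-- An elementary subgroup of `M24` fixing a pair has order at most 32. -/
theorem card_le_of_pair {A : Subgroup (Equiv.Perm GolayPt)} (hA : A ≤ Cfsg.M24)
    (h2 : ∀ a ∈ A, a * a = 1) {p q : GolayPt} (hpq : p ≠ q)
    (hst : ∀ a ∈ A, a • ({p, q} : Finset GolayPt) = {p, q}) : Nat.card A ≤ 32 := by
  classical
  set B : Subgroup (Equiv.Perm GolayPt) := A ⊓ MulAction.stabilizer (Equiv.Perm GolayPt) p with hB
  have hcase : ∀ a ∈ A, (a p = p ∧ a q = q) ∨ (a p = q ∧ a q = p) := by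
    intro a ha
    have e := hst a ha
    have h1 : a p ∈ ({p, q} : Finset GolayPt) := by
      rw [← e]; exact Finset.mem_image_of_mem _ (by simp)
    have h1' : a q ∈ ({p, q} : Finset GolayPt) := by
      rw [← e]; exact Finset.mem_image_of_mem _ (by simp)
    simp only [Finset.mem_insert, Finset.mem_singleton] at h1 h1'
    rcases h1 with h1 | h1 <;> rcases h1' with h1' | h1'
    · exact absurd (a.injective (h1.trans h1'.symm)) hpq
    · exact Or.inl ⟨h1, h1'⟩
    · exact Or.inr ⟨h1, h1'⟩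
    · exact absurd (a.injective (h1.trans h1'.symm)) hpq
  have hB16 : Nat.card B ≤ 16 := card_le_of_two (inf_le_left.trans hA) (fun a ha => h2 a ha.1) hpq
    (fun a ha => ha.2) fun a ha => by
      rcases hcase a ha.1 with h | h
      · exact h.2
      · exact absurd (h.1.symm.trans ha.2) (Ne.symm hpq)
  by_cases hall : ∀ a ∈ A, a p = p
  · have hAB : A ≤ B := le_inf le_rfl hall
    exact (Subgroup.card_le_of_le hAB).trans (hB16.trans (by norm_num))
  push Not at hall
  obtain ⟨c, hc, hcp⟩ := hall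
  have hcs := (hcase c hc).resolve_left fun h => hcp h.1
  have key : ∀ a : A, ∃ i : Bool × B, (a : Equiv.Perm GolayPt) = (if i.1 then c else 1) * i.2 := by
    intro a
    rcases hcase a a.2 with h | h
    · exact ⟨(false, ⟨a, a.2, h.1⟩), by simp⟩
    · refine ⟨(true, ⟨c⁻¹ * a, Subgroup.mul_mem _ (Subgroup.inv_mem _ hc) a.2, ?_⟩), by simp⟩
      show c⁻¹ ((a : Equiv.Perm GolayPt) p) = p
      rw [h.1, ← hcs.1]; simp
  choose F hF using key
  calc Nat.card A ≤ Nat.card (Bool × B) :=
        Nat.card_le_card_of_injective F fun a b e => Subtype.ext (by rw [hF a, hF b, e])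
    _ ≤ 32 := by rw [Nat.card_prod, Nat.card_eq_fintype_card, Fintype.card_bool]; omega

theorem rep_moves : ∀ r ∈ [Golay.ClassData.rep2f8, Golay.ClassData.rep2f0],
    16 ≤ ((List.range 24).filter fun i => decide (Golay.applyNum r i ≠ i)).length := by
  decide +kernel

theorem rep_valid : ∀ r ∈ [Golay.ClassData.rep2f8, Golay.ClassData.rep2f0],
    Golay.inM24 r = true := by
  decide +kernel

/-- An involution of `M24` moves at least 16 points. -/
theorem moves_sixteen {σ : Equiv.Perm GolayPt} (hσ : σ ∈ Cfsg.M24) (h : orderOf σ = 2) :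
    16 ≤ σ.support.card := by
  classical
  obtain ⟨r, hr, k, -, rfl⟩ := Golay.Classes.classify_two hσ h
  rw [Equiv.Perm.card_support_conj]
  have hv := (Golay.inM24.valid (rep_valid r hr))
  refine le_trans (rep_moves r hr) ?_
  have hsub : ((List.range 24).filter fun i => decide (Golay.applyNum r i ≠ i)).toFinset ⊆
      (Golay.toPerm r).support.image fun p => (Golay.idx p).val := by
    intro i hi
    simp only [List.mem_toFinset, List.mem_filter, List.mem_range, decide_eq_true_eq] at hi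
    refine Finset.mem_image.2 ⟨Golay.pt ⟨i, hi.1⟩, Equiv.Perm.mem_support.2 fun e => hi.2 ?_,
      by rw [Golay.idx_pt]⟩
    have := Golay.idx_toPerm hv (Golay.pt ⟨i, hi.1⟩)
    rw [e, Golay.idx_pt] at this
    exact this.symm
  have h1 := (Finset.card_le_card hsub).trans Finset.card_image_le
  rwa [List.toFinset_card_of_nodup (List.nodup_range.filter _)] at h1

/-- Two commuting involutions of `M24`, the second agreeing with the first where it moves. -/
theorem eq_of_agree {σ τ : Equiv.Perm GolayPt} (hσ : σ ∈ Cfsg.M24) (hτ : τ ∈ Cfsg.M24)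
    (hσ2 : σ * σ = 1) (hτ2 : orderOf τ = 2) (hc : Commute σ τ) (h : ∀ x, τ x ≠ x → σ x = τ x) :
    σ = τ := by
  classical
  by_contra hne
  have hττ : τ * τ = 1 := by rw [← pow_two, ← hτ2]; exact pow_orderOf_eq_one τ
  have h2 : orderOf (σ * τ) = 2 := by
    refine orderOf_eq_prime ?_ fun e => hne ((eq_inv_of_mul_eq_one_left e).trans
      (inv_eq_of_mul_eq_one_right hττ))
    rw [pow_two, mul_assoc, ← mul_assoc τ, ← hc.eq, mul_assoc σ τ τ, hττ, mul_one, hσ2]
  have hd : Disjoint τ.support (σ * τ).support := by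
    rw [Finset.disjoint_left]
    intro x hx hx'
    rw [Equiv.Perm.mem_support] at hx hx'
    apply hx'
    show σ (τ x) = x
    rw [← h x hx]
    exact Equiv.Perm.ext_iff.1 hσ2 x
  have hsum := Finset.card_le_univ (τ.support ∪ (σ * τ).support)
  rw [Finset.card_union_of_disjoint hd] at hsum
  have := moves_sixteen hτ hτ2
  have := moves_sixteen (mul_mem hσ hτ) h2
  have h24 : Fintype.card GolayPt = 24 := by decide
  omega

/-- An involution of `M24` fixes no point or at least three. -/
theorem exists_other_fixed {σ : Equiv.Perm GolayPt} (hσ : σ ∈ Cfsg.M24) (h : orderOf σ = 2)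
    {x : GolayPt} (hx : σ x = x) (z : GolayPt) : ∃ y, y ≠ x ∧ y ≠ z ∧ σ y = y := by
  classical
  obtain ⟨r, hr, k, -, hk⟩ := Golay.Classes.classify_two hσ h
  have hcount : Golay.Classes.fixCount σ = 8 ∨ Golay.Classes.fixCount σ = 0 := by
    rw [← hk, Golay.Classes.fixCount_conj, Golay.Classes.fixCount_toPerm
      (Golay.inM24.valid (List.all_eq_true.1 Golay.Classes.reps_valid r (by
        simp only [List.mem_cons, List.not_mem_nil, or_false] at hr ⊢; tauto)))]
    simp only [List.mem_cons, List.not_mem_nil, or_false] at hr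
    rcases hr with rfl | rfl
    · exact Or.inl Golay.Classes.fixNum_reps.1
    · exact Or.inr Golay.Classes.fixNum_reps.2.1
  rw [Golay.Classes.fixCount] at hcount
  by_contra hno
  push Not at hno
  have hsub : (Finset.univ.filter fun p : GolayPt => σ p = p) ⊆ {x, z} := by
    intro p hp
    simp only [Finset.mem_filter, Finset.mem_univ, true_and] at hp
    by_contra hmem
    simp only [Finset.mem_insert, Finset.mem_singleton, not_or] at hmem
    exact hno p hmem.1 hmem.2 hp
  have h2 := (Finset.card_le_card hsub).trans Finset.card_le_two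
  have hpos : 0 < (Finset.univ.filter fun p : GolayPt => σ p = p).card :=
    Finset.card_pos.2 ⟨x, by simp [hx]⟩
  omega

section WithModelFacts

variable (act_pair : ∀ {σ : Equiv.Perm GolayPt}, σ ∈ Cfsg.M24 → ∀ p q : GolayPt,
  act σ (cd p ^^^ cd q) = cd (σ p) ^^^ cd (σ q))
variable (pair_eq : ∀ {p q r s : GolayPt}, p ≠ q → r ≠ s → cd p ^^^ cd q = cd r ^^^ cd s →
  (p = r ∧ q = s) ∨ (p = s ∧ q = r))
variable (pair_lt : ∀ p q : GolayPt, cd p ^^^ cd q < 2048)

include act_pair pair_eq pair_lt in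
/-- Commuting involutions, the fixed classes of the first fixed by the second, are equal. -/
theorem fix_inj_aux {σ τ : Equiv.Perm GolayPt} (hσ : σ ∈ Cfsg.M24) (hτ : τ ∈ Cfsg.M24)
    (hσ2 : orderOf σ = 2) (hτ2 : orderOf τ = 2) (hc : Commute σ τ)
    (h : ∀ n < 2048, act σ n = n → act τ n = n) : σ = τ := by
  classical
  have inv2 : ∀ x, σ (σ x) = x := fun x => by
    have := Equiv.Perm.ext_iff.1 (hσ2 ▸ pow_orderOf_eq_one σ : σ ^ 2 = 1) x
    simpa [pow_two] using this
  have hsplit : ∀ p q : GolayPt, p ≠ q → act σ (cd p ^^^ cd q) = cd p ^^^ cd q →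
      (τ p = p ∧ τ q = q) ∨ (τ p = q ∧ τ q = p) := by
    intro p q hpq hfix
    have e := h _ (pair_lt p q) hfix
    rw [act_pair hτ] at e
    exact pair_eq (fun e' => hpq (τ.injective e')) hpq e
  refine eq_of_agree hσ hτ (by rw [← pow_two, ← hσ2]; exact pow_orderOf_eq_one σ) hτ2 hc
    fun x hx => ?_
  by_cases hσx : σ x = x
  · exfalso
    obtain ⟨y, hyx, hyt, hy⟩ := exists_other_fixed hσ hσ2 hσx (τ x)
    rcases hsplit x y (Ne.symm hyx) (by rw [act_pair hσ, hσx, hy]) with e | e
    · exact hx e.1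
    · exact hyt e.1.symm
  · rcases hsplit x (σ x) (Ne.symm hσx) (by rw [act_pair hσ, inv2, Nat.xor_comm]) with e | e
    · exact absurd e.1 hx
    · exact e.1.symm

variable (act_lt : ∀ {σ : Equiv.Perm GolayPt}, σ ∈ Cfsg.M24 → ∀ {n : ℕ}, n < 2048 → act σ n < 2048)
variable (act_xor : ∀ {σ : Equiv.Perm GolayPt}, σ ∈ Cfsg.M24 → ∀ {a b : ℕ}, a < 2048 → b < 2048 →
  act σ (a ^^^ b) = act σ a ^^^ act σ b)
variable (act_invol : ∀ {σ : Equiv.Perm GolayPt}, σ ∈ Cfsg.M24 → σ * σ = 1 → ∀ {n : ℕ}, n < 2048 →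
  act σ (act σ n) = n)

include act_lt act_xor act_invol in
/-- An involution of `M24` fixes at least 64 classes. -/
theorem fix_card_aux {σ : Equiv.Perm GolayPt} (hσ : σ ∈ Cfsg.M24) (h2 : σ * σ = 1) :
    64 ≤ ((Finset.range 2048).filter fun n => act σ n = n).card := by
  classical
  obtain ⟨K, hK⟩ : ∃ K, K = (Finset.range 2048).filter fun n => act σ n = n := ⟨_, rfl⟩
  rw [← hK]
  have hf : ∀ n < 2048, n ^^^ act σ n < 2048 := fun n hn => Nat.xor_lt_two_pow (n := 11) hn (act_lt hσ hn)
  have hfK : ∀ n < 2048, n ^^^ act σ n ∈ K := by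
    intro n hn
    rw [hK, Finset.mem_filter, Finset.mem_range]
    refine ⟨hf n hn, ?_⟩
    rw [act_xor hσ hn (act_lt hσ hn), act_invol hσ h2 hn, Nat.xor_comm]
  have hfib : ∀ y ∈ K, ((Finset.range 2048).filter fun n => n ^^^ act σ n = y).card ≤ K.card := by
    intro y _
    rcases Finset.eq_empty_or_nonempty ((Finset.range 2048).filter fun n => n ^^^ act σ n = y) with
      he | ⟨n₀, hn₀⟩
    · rw [he]; simp
    rw [Finset.mem_filter, Finset.mem_range] at hn₀
    refine Finset.card_le_card_of_injOn (fun n => n ^^^ n₀) (fun n hn => ?_) ?_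
    · simp only [Finset.mem_coe, Finset.mem_filter, Finset.mem_range] at hn
      rw [hK, Finset.mem_coe, Finset.mem_filter, Finset.mem_range]
      refine ⟨Nat.xor_lt_two_pow (n := 11) hn.1 hn₀.1, ?_⟩
      show act σ (n ^^^ n₀) = n ^^^ n₀
      rw [act_xor hσ hn.1 hn₀.1]
      have e1 : act σ n = n ^^^ y := by rw [← hn.2, ← Nat.xor_assoc, Nat.xor_self, Nat.zero_xor]
      have e2 : act σ n₀ = n₀ ^^^ y := by rw [← hn₀.2, ← Nat.xor_assoc, Nat.xor_self, Nat.zero_xor]
      rw [e1, e2, Nat.xor_assoc, Nat.xor_comm y, Nat.xor_assoc n₀, Nat.xor_self, Nat.xor_zero]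
    · intro a _ b _ e
      have := congrArg (fun t => t ^^^ n₀) e
      simpa [Nat.xor_assoc] using this
  have hsum : 2048 ≤ K.card * K.card := by
    have h := Finset.card_eq_sum_card_fiberwise (s := Finset.range 2048) (t := K)
      (f := fun n => n ^^^ act σ n) (fun n hn => hfK n (Finset.mem_range.1 hn))
    rw [Finset.card_range] at h
    rw [h]
    simpa using Finset.sum_le_card_nsmul K _ K.card hfib
  -- the fixed numbers form a subgroup of a group of order `2 ^ 11`
  have hzero : act σ 0 = 0 := by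
    have h := act_xor hσ (a := 0) (b := 0) (by norm_num) (by norm_num)
    rw [Nat.xor_self] at h
    simpa using h
  let S : AddSubgroup (Fin 11 → ZMod 2) :=
    { carrier := {v | ∃ n ∈ K, v = fun i => if n.testBit i.val then 1 else 0}
      zero_mem' := ⟨0, by rw [hK]; simp [hzero], by funext i; simp⟩
      add_mem' := by
        rintro _ _ ⟨a, ha, rfl⟩ ⟨b, hb, rfl⟩
        rw [hK, Finset.mem_filter, Finset.mem_range] at ha hb
        refine ⟨a ^^^ b, ?_, ?_⟩
        · rw [hK, Finset.mem_filter, Finset.mem_range]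
          exact ⟨Nat.xor_lt_two_pow (n := 11) ha.1 hb.1, by rw [act_xor hσ ha.1 hb.1, ha.2, hb.2]⟩
        · funext i
          simp only [Pi.add_apply, Nat.testBit_xor]
          cases a.testBit i.val <;> cases b.testBit i.val <;> simp
          rfl
      neg_mem' := by
        rintro _ ⟨a, ha, rfl⟩
        exact ⟨a, ha, by funext i; simp only [Pi.neg_apply, CharTwo.neg_eq]⟩ }
  have hcard : Nat.card ↥S = K.card := by
    rw [← Nat.card_eq_finsetCard K]
    refine (Nat.card_eq_of_bijective (fun n : {n // n ∈ K} => (⟨_, n.1, n.2, rfl⟩ : ↥S)) ⟨?_, ?_⟩).symm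
    · rintro ⟨a, ha⟩ ⟨b, hb⟩ e
      rw [hK, Finset.mem_filter, Finset.mem_range] at ha hb
      refine Subtype.ext (Nat.eq_of_testBit_eq fun i => ?_)
      by_cases hi : i < 11
      · have e' := congrFun (congrArg Subtype.val e) ⟨i, hi⟩
        simp only at e'
        revert e'
        cases a.testBit i <;> cases b.testBit i <;> simp
      · have hle : (2 : ℕ) ^ 11 ≤ 2 ^ i := Nat.pow_le_pow_right (show 0 < 2 by norm_num) (by omega)
        rw [Nat.testBit_eq_false_of_lt (lt_of_lt_of_le ha.1 hle), Nat.testBit_eq_false_of_lt (lt_of_lt_of_le hb.1 hle)]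
    · rintro ⟨v, a, ha, rfl⟩
      exact ⟨⟨a, ha⟩, rfl⟩
  have hd := S.card_addSubgroup_dvd_card
  rw [hcard, show Nat.card (Fin 11 → ZMod 2) = 2 ^ 11 by simp] at hd
  obtain ⟨e, he, he'⟩ := (Nat.dvd_prime_pow Nat.prime_two).1 hd
  rw [he'] at hsum ⊢
  by_contra hlt
  push Not at hlt
  have h6 : e ≤ 5 := by
    by_contra h6
    have := Nat.pow_le_pow_right (show 0 < 2 by norm_num) (show 6 ≤ e by omega)
    omega
  have := Nat.pow_le_pow_right (show 0 < 2 by norm_num) h6
  nlinarith

end WithModelFacts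

end Cfsg.Agent.Lib.J4Two56
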