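import Cfsg.Agent.Lib.J4Two56.Stmts
import Cfsg.Agent.Lib.J4Two56.ModelFacts
import Cfsg.Agent.Lib.J4Two56.RankCore
import Cfsg.Agent.Lib.J4Two56.DuadNum

/-!
# The centraliser of a pair element normalises the subgroup
-/

set_option autoImplicit false

universe u

namespace Cfsg.Agent.Lib.J4Two56

open Cfsg Cfsg.Agent.Lib
open scoped Pointwise

namespace Dihedral

variable {G : Type u} [Group G]

/-- The dihedral identity. -/
theorem pow_mul_invol {x y : G} (hx : x * x = 1) (hy : y * y = 1) :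
    ∀ k : ℕ, (x * y) ^ k * x * ((x * y) ^ k)⁻¹ = (x * y) ^ (2 * k) * x
  | 0 => by simp
  | k + 1 => by
    have e : x * (x * y)⁻¹ = x * y * x := by
      rw [mul_inv_rev, inv_eq_of_mul_eq_one_left hy, inv_eq_of_mul_eq_one_left hx, mul_assoc]
    calc (x * y) ^ (k + 1) * x * ((x * y) ^ (k + 1))⁻¹
        = (x * y) ^ k * (x * y) * (x * (x * y)⁻¹) * ((x * y) ^ k)⁻¹ := by
          rw [pow_succ, mul_inv_rev]; simp only [mul_assoc]
      _ = (x * y) ^ k * (x * y) * (x * y) * x * ((x * y) ^ k)⁻¹ := by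
          rw [e]; simp only [mul_assoc]
      _ = (x * y) * (x * y) * ((x * y) ^ k * x * ((x * y) ^ k)⁻¹) := by
          have h1 : Commute ((x * y) ^ k) ((x * y) * (x * y)) :=
            ((Commute.refl _).pow_left k).mul_right ((Commute.refl _).pow_left k)
          rw [mul_assoc ((x * y) ^ k) (x * y) (x * y), h1.eq]
          simp only [mul_assoc]
      _ = (x * y) ^ (2 * (k + 1)) * x := by
          rw [pow_mul_invol hx hy k, show 2 * (k + 1) = 1 + 1 + 2 * k by ring, pow_add, pow_add,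
            pow_one]
          simp only [mul_assoc]

/-- In a dihedral group of order `4 m` the product of an involution with the central one is a conjugate
of one of the two generators. -/
theorem exists_conj_eq {x y : G} (hx : x * x = 1) (hy : y * y = 1) (m : ℕ) :
    ∃ j : ℕ, (x * y) ^ j * x * ((x * y) ^ j)⁻¹ = (x * y) ^ m * x ∨
      (x * y) ^ j * y * ((x * y) ^ j)⁻¹ = (x * y) ^ m * x := by
  obtain ⟨j, rfl | rfl⟩ := Nat.even_or_odd' m
  · exact ⟨j, Or.inl (pow_mul_invol hx hy j)⟩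
  · refine ⟨j + 1, Or.inr ?_⟩
    have e : (x * y) * y * (x * y)⁻¹ = (x * y) * x := by
      rw [mul_assoc x y y, hy, mul_one, mul_inv_rev, inv_eq_of_mul_eq_one_left hy,
        inv_eq_of_mul_eq_one_left hx, mul_assoc x y x]
    calc (x * y) ^ (j + 1) * y * ((x * y) ^ (j + 1))⁻¹
        = (x * y) ^ j * ((x * y) * y * (x * y)⁻¹) * ((x * y) ^ j)⁻¹ := by
          rw [pow_succ, mul_inv_rev]; simp only [mul_assoc]
      _ = (x * y) * ((x * y) ^ j * x * ((x * y) ^ j)⁻¹) := by
          rw [e, ← mul_assoc ((x * y) ^ j) (x * y) x, ((Commute.refl (x * y)).pow_left j).eq]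
          simp only [mul_assoc]
      _ = (x * y) ^ (2 * j + 1) * x := by
          rw [pow_mul_invol hx hy j, ← mul_assoc, ← pow_succ']

end Dihedral

/-! ## Sets of numbers closed under exclusive or -/

theorem isQ_or_isD {n : ℕ} (h : n ≠ 0) : IsQ n ∨ isD n = true := by
  cases hD : isD n
  · exact Or.inl ⟨h, hD⟩
  · exact Or.inr rfl

theorem not_isQ_of_isD {n : ℕ} (h : isD n = true) : ¬ IsQ n := fun hq => by
  rw [hq.2] at h
  exact Bool.false_ne_true h

theorem isD_ne_zero {n : ℕ} (h : isD n = true) : n ≠ 0 := fun e => by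
  rw [e, isD_zero] at h
  exact Bool.false_ne_true h

theorem mem_dList_of_isD {n : ℕ} (h : isD n = true) : n ∈ dList := (mem_dList (isD_lt h)).2 h

/-- A group of numbers with no sextet class lies in a group of order four. -/
theorem small_group {b : ℕ} (hb : isD b = true) (S : ℕ → Prop)
    (hS : ∀ i j, S i → S j → S (i ^^^ j)) (hbS : S b) (hQ : ∀ i, S i → ¬ IsQ i) :
    (∀ i, S i → i = 0 ∨ i = b) ∨ ∃ d, S d ∧ isD d = true ∧ d ≠ b ∧ isD (b ^^^ d) = true ∧
      ∀ i, S i → i = 0 ∨ i = b ∨ i = d ∨ i = b ^^^ d := by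
  by_cases h : ∀ i, S i → i = 0 ∨ i = b
  · exact Or.inl h
  push Not at h
  obtain ⟨d, hd, hd0, hdb⟩ := h
  have hdD : isD d = true := (isQ_or_isD hd0).resolve_left (hQ d hd)
  have hne : ∀ {u v : ℕ}, u ≠ v → u ^^^ v ≠ 0 := fun huv e => huv (Nat.xor_eq_zero_iff.1 e)
  have hbd : isD (b ^^^ d) = true :=
    (isQ_or_isD (hne (Ne.symm hdb))).resolve_left (hQ _ (hS b d hbS hd))
  refine Or.inr ⟨d, hd, hdD, hdb, hbd, fun e he => ?_⟩
  by_contra hno
  push Not at hno
  obtain ⟨he0, heb, hed, hebd⟩ := hno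
  have hbe : isD (b ^^^ e) = true :=
    (isQ_or_isD (hne (Ne.symm heb))).resolve_left (hQ _ (hS b e hbS he))
  have hde : isD (d ^^^ e) = true :=
    (isQ_or_isD (hne (Ne.symm hed))).resolve_left (hQ _ (hS d e hd he))
  have h3 : isD (b ^^^ d ^^^ e) = true :=
    (isQ_or_isD (hne (Ne.symm hebd))).resolve_left (hQ _ (hS _ e (hS b d hbS hd) he))
  have heD : isD e = true := (isQ_or_isD he0).resolve_left (hQ e he)
  rw [no_seven (mem_dList_of_isD hb) (mem_dList_of_isD hdD) (mem_dList_of_isD heD) hbd hbe hde] at h3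
  exact Bool.false_ne_true h3

/-- At least five sextet classes in a group of at least 64 numbers. -/
theorem five_sextets {B : Finset ℕ} (hB : ∀ i ∈ B, ∀ j ∈ B, i ^^^ j ∈ B) (hcard : 64 ≤ B.card) :
    ∃ s : Finset ℕ, 5 ≤ s.card ∧ ∀ i ∈ s, i ∈ B ∧ IsQ i := by
  classical
  obtain ⟨D, hD⟩ : ∃ D, D = B.filter fun i => isD i = true := ⟨_, rfl⟩
  by_cases hs : D.card ≤ 58
  · refine ⟨B \ insert 0 D, ?_, fun i hi => ?_⟩
    · have h1 := Finset.le_card_sdiff (insert 0 D) B
      have h2 := Finset.card_insert_le 0 D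
      omega
    · rw [Finset.mem_sdiff, Finset.mem_insert, hD, Finset.mem_filter] at hi
      obtain ⟨hi, hn⟩ := hi
      push Not at hn
      exact ⟨hi, hn.1, by simpa using hn.2 hi⟩
  obtain ⟨d, hd⟩ : ∃ d, d ∈ D := Finset.card_pos.1 (by omega)
  have hd' := hd
  rw [hD, Finset.mem_filter] at hd'
  have hdl : d ∈ dList := mem_dList_of_isD hd'.2
  obtain ⟨nb, hnb⟩ : ∃ nb, nb = (dList.filter fun e => isD (d ^^^ e)).toFinset := ⟨_, rfl⟩
  have hnbc : nb.card ≤ 44 := by
    rw [hnb]
    refine (List.toFinset_card_le _).trans ?_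
    have := List.all_eq_true.1 nbr_ok d hdl
    rw [beq_iff_eq] at this
    omega
  refine ⟨((D \ insert d nb).image fun e => d ^^^ e), ?_, fun i hi => ?_⟩
  · rw [Finset.card_image_of_injective _ (fun u v e => Nat.xor_right_injective e)]
    have h1 := Finset.le_card_sdiff (insert d nb) D
    have h2 := Finset.card_insert_le d nb
    omega
  · obtain ⟨e, he, rfl⟩ := Finset.mem_image.1 hi
    rw [Finset.mem_sdiff, Finset.mem_insert, hnb, List.mem_toFinset, List.mem_filter] at he
    obtain ⟨he, hn⟩ := he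
    push Not at hn
    rw [hD, Finset.mem_filter] at he
    refine ⟨hB d hd'.1 e he.1, fun h0 => hn.1 (Nat.xor_eq_zero_iff.1 h0).symm, ?_⟩
    simpa using hn.2 (mem_dList_of_isD he.2)

namespace Todd

variable {G : Type u} [Group G] {z : G} (T : Todd G z)

theorem el_zero' : T.el 0 = 1 := by
  have h := T.el_xor 0 (by norm_num) 0 (by norm_num)
  rw [Nat.xor_self] at h
  exact left_eq_mul.1 h

theorem el_sq' {a : ℕ} (ha : a < 2048) : T.el a * T.el a = 1 := by
  rw [← T.el_xor a ha a ha, Nat.xor_self, T.el_zero']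

theorem el_mem' {a : ℕ} (ha : a < 2048) : T.el a ∈ T.V := (T.mem_V _).2 ⟨a, ha, rfl⟩

theorem el_comm' {a c : ℕ} (ha : a < 2048) (hc : c < 2048) : Commute (T.el a) (T.el c) := by
  rw [Commute, SemiconjBy, ← T.el_xor a ha c hc, ← T.el_xor c hc a ha, Nat.xor_comm]

theorem mem_norm_of_mem_V {x : G} (h : x ∈ T.V) : x ∈ Subgroup.normalizer (T.V : Set G) :=
  Subgroup.le_normalizer h

/-- The permutation induced by an element of the normaliser. -/
def perm (T : Todd G z) : ↥(Subgroup.normalizer (T.V : Set G)) →* Equiv.Perm GolayPt :=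
  (Cfsg.M24).subtype.comp T.ρ

theorem perm_mem (n : ↥(Subgroup.normalizer (T.V : Set G))) : T.perm n ∈ Cfsg.M24 := (T.ρ n).2

theorem perm_spec (n : ↥(Subgroup.normalizer (T.V : Set G))) {a : ℕ} (ha : a < 2048) :
    (n : G) * T.el a * (n : G)⁻¹ = T.el (act (T.perm n) a) :=
  T.ρ_spec n a ha

theorem perm_fix_iff (n : ↥(Subgroup.normalizer (T.V : Set G))) {a : ℕ} (ha : a < 2048) :
    act (T.perm n) a = a ↔ Commute (n : G) (T.el a) := by
  constructor
  · intro h
    have e := T.perm_spec n ha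
    rw [h] at e
    exact mul_inv_eq_iff_eq_mul.1 e
  · intro h
    have e := T.perm_spec n ha
    rw [h.eq, mul_inv_cancel_right] at e
    exact (T.el_inj a ha _ (act_lt _ _) e).symm

theorem perm_eq_one_iff (n : ↥(Subgroup.normalizer (T.V : Set G))) :
    T.perm n = 1 ↔ (n : G) ∈ T.V := by
  constructor
  · intro h
    refine T.cent (Subgroup.mem_centralizer_iff.2 fun v hv => ?_)
    obtain ⟨a, ha, rfl⟩ := (T.mem_V v).1 hv
    exact ((T.perm_fix_iff n ha).1 (by rw [h, act_one ha])).eq.symm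
  · intro h
    refine act_inj (T.perm_mem n) (one_mem _) fun a ha => ?_
    obtain ⟨c, hc, e⟩ := (T.mem_V _).1 h
    rw [act_one ha, T.perm_fix_iff n ha, ← e]
    exact T.el_comm' hc ha

theorem conj_el_isQ {g : G} {a c : ℕ} (ha : a < 2048) (hc : c < 2048)
    (h : g * T.el a * g⁻¹ = T.el c) (hq : IsQ a) : IsQ c :=
  (T.cls c hc).1 (((T.cls a ha).2 hq).trans (isConj_iff.2 ⟨g, h⟩))

variable {b : ℕ}

/-- No sextet element is common to the subgroup and another conjugate. -/
theorem norm_of_common (hH : T.CentQD) (hb : b < 2048) (hD : isD b = true) {g : G}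
    (hg : Commute g (T.el b)) {a : ℕ} (ha : a < 2048) (hq : IsQ a)
    (h : g⁻¹ * T.el a * g ∈ T.V) : g ∈ Subgroup.normalizer (T.V : Set G) := by
  refine T.uniq g fun v hv => ?_
  obtain ⟨c, hc, rfl⟩ := (T.mem_V v).1 hv
  obtain ⟨c', hc', e⟩ := (T.mem_V _).1 h
  have ea : g * T.el c' * g⁻¹ = T.el a := by rw [e]; group
  have eb : g * T.el b * g⁻¹ = T.el b := by rw [hg.eq, mul_inv_cancel_right]
  refine hH a b ha hb hq hD _ ?_ ?_
  · have := (Commute.conj_iff g).2 (T.el_comm' hc hc')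
    rw [ea] at this
    exact this.eq
  · have := (Commute.conj_iff g).2 (T.el_comm' hc hb)
    rw [eb] at this
    exact this.eq

/-- The numbers of the common part with a conjugate. -/
def Common (T : Todd G z) (g : G) (i : ℕ) : Prop := i < 2048 ∧ g⁻¹ * T.el i * g ∈ T.V

theorem common_xor {g : G} {i j : ℕ} (hi : T.Common g i) (hj : T.Common g j) :
    T.Common g (i ^^^ j) := by
  refine ⟨xor_lt hi.1 hj.1, ?_⟩
  rw [T.el_xor i hi.1 j hj.1, show g⁻¹ * (T.el i * T.el j) * g =
    (g⁻¹ * T.el i * g) * (g⁻¹ * T.el j * g) by group]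
  exact mul_mem hi.2 hj.2

theorem common_b (hb : b < 2048) {g : G} (hg : Commute g (T.el b)) : T.Common g b :=
  ⟨hb, by rw [hg.inv_left.eq, inv_mul_cancel_right]; exact T.el_mem' hb⟩

theorem common_small (hH : T.CentQD) (hb : b < 2048) (hD : isD b = true) {g : G}
    (hg : Commute g (T.el b)) (hgN : g ∉ Subgroup.normalizer (T.V : Set G)) :
    (∀ i, T.Common g i → i = 0 ∨ i = b) ∨ ∃ d, T.Common g d ∧ isD d = true ∧ d ≠ b ∧
      isD (b ^^^ d) = true ∧ ∀ i, T.Common g i → i = 0 ∨ i = b ∨ i = d ∨ i = b ^^^ d :=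
  small_group hD (T.Common g) (fun _ _ => T.common_xor) (T.common_b hb hg)
    fun _ h hq => hgN (T.norm_of_common hH hb hD hg h.1 hq h.2)

/-- The elements of the subgroup normalising another conjugate: at most 64. -/
theorem card_normalising (hH : T.CentQD) (hb : b < 2048) (hD : isD b = true) {g : G}
    (hg : Commute g (T.el b)) (hgN : g ∉ Subgroup.normalizer (T.V : Set G)) (A : Finset ℕ)
    (hA : ∀ a ∈ A, a < 2048 ∧ g⁻¹ * T.el a * g ∈ Subgroup.normalizer (T.V : Set G)) :
    A.card ≤ 64 := by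
  classical
  -- the induced permutations
  obtain ⟨R, hR⟩ : ∃ R : Subgroup (Equiv.Perm GolayPt), R = Subgroup.map T.perm
      ((T.V.map (MulAut.conj g⁻¹).toMonoidHom).subgroupOf (Subgroup.normalizer (T.V : Set G))) :=
    ⟨_, rfl⟩
  have hmem : ∀ σ ∈ R, ∃ n : ↥(Subgroup.normalizer (T.V : Set G)), ∃ a, a < 2048 ∧
      (n : G) = g⁻¹ * T.el a * g ∧ T.perm n = σ := by
    intro σ hσ
    rw [hR, Subgroup.mem_map] at hσ
    obtain ⟨n, hn, rfl⟩ := hσ
    rw [Subgroup.mem_subgroupOf, Subgroup.mem_map] at hn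
    obtain ⟨v, hv, e⟩ := hn
    obtain ⟨a, ha, rfl⟩ := (T.mem_V v).1 hv
    exact ⟨n, a, ha, by rw [← e]; simp [MulAut.conj_apply], rfl⟩
  have hR24 : R ≤ Cfsg.M24 := fun σ hσ => by
    obtain ⟨n, -, -, -, rfl⟩ := hmem σ hσ
    exact T.perm_mem n
  have hR2 : ∀ σ ∈ R, σ * σ = 1 := fun σ hσ => by
    obtain ⟨n, a, ha, e, rfl⟩ := hmem σ hσ
    rw [← map_mul, show n * n = 1 from Subtype.ext (by
      show (n : G) * (n : G) = 1
      rw [e, show g⁻¹ * T.el a * g * (g⁻¹ * T.el a * g) = g⁻¹ * (T.el a * T.el a) * g by group,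
        T.el_sq' ha]
      group), map_one]
  have hfix : ∀ i j, T.Common g i → j < 2048 → g⁻¹ * T.el i * g = T.el j →
      ∀ σ ∈ R, act σ j = j := by
    intro i j hi hj e σ hσ
    obtain ⟨n, a, ha, en, rfl⟩ := hmem σ hσ
    rw [T.perm_fix_iff n hj, en, ← e]
    simpa using (Commute.conj_iff g⁻¹).2 (T.el_comm' ha hi.1)
  have hbC := T.common_b hb hg
  have hbfix : ∀ σ ∈ R, act σ b = b :=
    hfix b b hbC hb (by rw [hg.inv_left.eq, inv_mul_cancel_right])
  -- the fibres
  let f : ↥A → ↥(Subgroup.normalizer (T.V : Set G)) := fun a => ⟨_, (hA a a.2).2⟩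
  have hfR : ∀ a : ↥A, T.perm (f a) ∈ R := fun a => by
    rw [hR]
    refine Subgroup.mem_map_of_mem _ (Subgroup.mem_subgroupOf.2 (Subgroup.mem_map.2
      ⟨T.el a, T.el_mem' (hA a a.2).1, ?_⟩))
    simp [f, MulAut.conj_apply]
  have hcount : ∀ s : Finset ℕ, (∀ i, T.Common g i → i ∈ s) → A.card ≤ Nat.card ↥R * s.card := by
    intro s hs
    have h := Finset.card_le_mul_card_image (f := fun a : ↥A => T.perm (f a)) (s := Finset.univ)
      s.card (fun σ _ => ?_)
    · rw [Finset.card_univ, Fintype.card_coe] at h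
      refine h.trans (le_trans (le_of_eq (mul_comm _ _)) (Nat.mul_le_mul ?_ le_rfl))
      rw [Nat.card_eq_fintype_card]
      have hsub : Finset.univ.image (fun a : ↥A => T.perm (f a)) ⊆
          (Finset.univ : Finset ↥R).map ⟨Subtype.val, Subtype.val_injective⟩ := by
        intro σ hσ
        obtain ⟨a, -, rfl⟩ := Finset.mem_image.1 hσ
        exact Finset.mem_map.2 ⟨⟨_, hfR a⟩, Finset.mem_univ _, rfl⟩
      have h' := Finset.card_le_card hsub
      rwa [Finset.card_map, Finset.card_univ] at h'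
    · rcases Finset.eq_empty_or_nonempty
        (Finset.univ.filter fun a : ↥A => T.perm (f a) = σ) with he | ⟨a0, ha0⟩
      · rw [he]; simp
      refine Finset.card_le_card_of_injOn (fun a => (a : ℕ) ^^^ (a0 : ℕ)) (fun a ha => ?_) ?_
      · simp only [Finset.coe_filter, Finset.mem_univ, true_and, Set.mem_ofPred_eq] at ha
        simp only [Finset.mem_filter, Finset.mem_univ, true_and] at ha0
        refine Finset.mem_coe.2 (hs _ ⟨xor_lt (hA a a.2).1 (hA a0 a0.2).1, ?_⟩)
        have h1 : T.perm (f a * f a0) = 1 := by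
          rw [map_mul, ha, ← ha0]
          exact hR2 _ (hfR a0)
        have h2 := (T.perm_eq_one_iff _).1 h1
        rw [T.el_xor a (hA a a.2).1 a0 (hA a0 a0.2).1, show g⁻¹ * (T.el a * T.el a0) * g =
          (g⁻¹ * T.el a * g) * (g⁻¹ * T.el a0 * g) by group]
        exact h2
      · intro a _ c _ e
        exact Subtype.ext (Nat.xor_left_injective e)
  obtain ⟨p, q, hpq, rfl⟩ := isD_iff.1 hD
  rcases T.common_small hH hb hD hg hgN with h | ⟨d, hd, hdD, hdb, hbd, h⟩
  · refine (hcount {0, cd p ^^^ cd q} (by simpa using h)).trans (le_trans (Nat.mul_le_mul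
      (card_le_of_pair hR24 hR2 hpq fun σ hσ => (act_pair_eq_iff (hR24 hσ) hpq).1 (hbfix σ hσ))
      Finset.card_le_two) ?_)
    norm_num
  · obtain ⟨j, hj, ej⟩ := (T.mem_V _).1 hd.2
    have ebj : (g⁻¹) * T.el ((cd p ^^^ cd q) ^^^ d) * g⁻¹⁻¹ = T.el ((cd p ^^^ cd q) ^^^ j) := by
      rw [inv_inv, T.el_xor _ hb _ hd.1, T.el_xor _ hb _ hj, ej,
        show g⁻¹ * (T.el (cd p ^^^ cd q) * T.el d) * g =
          g⁻¹ * T.el (cd p ^^^ cd q) * g * (g⁻¹ * T.el d * g) by group,
        hg.inv_left.eq, inv_mul_cancel_right]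
    have notQ : ∀ {i k : ℕ}, i < 2048 → k < 2048 → g⁻¹ * T.el i * g⁻¹⁻¹ = T.el k →
        isD i = true → isD k = true := by
      intro i k hi hk e hiD
      have hk0 : k ≠ 0 := by
        rintro rfl
        rw [T.el_zero', conj_eq_one_iff] at e
        exact isD_ne_zero hiD (T.el_inj i hi 0 (by norm_num) (e.trans T.el_zero'.symm))
      refine (isQ_or_isD hk0).resolve_left fun hq => not_isQ_of_isD hiD ?_
      exact T.conj_el_isQ (g := g) hk hi (by rw [← e]; group) hq
    have hjD : isD j = true := notQ hd.1 hj (by rw [inv_inv]; exact ej.symm) hdD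
    have hbjD := notQ (xor_lt hb hd.1) (xor_lt hb hj) ebj hbd
    obtain ⟨r, s, hrs, rfl⟩ := isD_iff.1 hjD
    have hjb : cd r ^^^ cd s ≠ cd p ^^^ cd q := fun e => by
      rw [e, Nat.xor_self, isD_zero] at hbjD
      exact Bool.false_ne_true hbjD
    have hst1 : ∀ σ ∈ R, σ • ({p, q} : Finset GolayPt) = {p, q} := fun σ hσ =>
      (act_pair_eq_iff (hR24 hσ) hpq).1 (hbfix σ hσ)
    have hst2 : ∀ σ ∈ R, σ • ({r, s} : Finset GolayPt) = {r, s} := fun σ hσ =>
      (act_pair_eq_iff (hR24 hσ) hrs).1 (hfix d _ hd hj ej.symm σ hσ)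
    have him : ∀ σ ∈ R, (σ p = p ∧ σ q = q) ∨ (σ p = q ∧ σ q = p) := by
      intro σ hσ
      have e := hst1 σ hσ
      have h1 : σ p ∈ ({p, q} : Finset GolayPt) := by
        rw [← e]; exact Finset.mem_image_of_mem _ (by simp)
      have h1' : σ q ∈ ({p, q} : Finset GolayPt) := by
        rw [← e]; exact Finset.mem_image_of_mem _ (by simp)
      simp only [Finset.mem_insert, Finset.mem_singleton] at h1 h1'
      rcases h1 with h1 | h1 <;> rcases h1' with h1' | h1'
      · exact absurd (σ.injective (h1.trans h1'.symm)) hpq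
      · exact Or.inl ⟨h1, h1'⟩
      · exact Or.inr ⟨h1, h1'⟩
      · exact absurd (σ.injective (h1.trans h1'.symm)) hpq
    have hpqfix : ∀ σ ∈ R, σ p = p ∧ σ q = q := by
      intro σ hσ
      refine (him σ hσ).resolve_right fun hsw => ?_
      have e := hst2 σ hσ
      have hr : σ r ∈ ({r, s} : Finset GolayPt) := by
        rw [← e]; exact Finset.mem_image_of_mem _ (by simp)
      have hs : σ s ∈ ({r, s} : Finset GolayPt) := by
        rw [← e]; exact Finset.mem_image_of_mem _ (by simp)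
      simp only [Finset.mem_insert, Finset.mem_singleton] at hr hs
      rcases pair_meet hpq hrs hbjD with h1 | h1 | h1 | h1
      · subst h1; rw [hsw.1] at hr
        rcases hr with h2 | h2
        · exact hpq h2.symm
        · exact hjb (by rw [h2])
      · subst h1; rw [hsw.1] at hs
        rcases hs with h2 | h2
        · exact hjb (by rw [h2]; exact Nat.xor_comm _ _)
        · exact hpq h2.symm
      · subst h1; rw [hsw.2] at hr
        rcases hr with h2 | h2
        · exact hpq h2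
        · exact hjb (by rw [← h2]; exact Nat.xor_comm _ _)
      · subst h1; rw [hsw.2] at hs
        rcases hs with h2 | h2
        · exact hjb (by rw [← h2])
        · exact hpq h2
    refine (hcount {0, cd p ^^^ cd q, d, (cd p ^^^ cd q) ^^^ d} (by simpa using h)).trans
      (le_trans (Nat.mul_le_mul (card_le_of_two hR24 hR2 hpq (fun σ hσ => (hpqfix σ hσ).1)
        fun σ hσ => (hpqfix σ hσ).2) Finset.card_le_four) ?_)
    norm_num

/-- The numbers fixed by an element of square one in the image: at least 64. -/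
theorem fix_card_perm (n : ↥(Subgroup.normalizer (T.V : Set G))) (h : (n : G) * n = 1) :
    64 ≤ ((Finset.range 2048).filter fun a => act (T.perm n) a = a).card :=
  fix_card_aux (fun _ _ _ => act_lt _ _) (fun _ _ _ _ _ => act_xor _ _ _)
    (fun hσ h2 _ hn => by rw [← act_mul hσ, h2, act_one hn]) (T.perm_mem n)
    (by rw [← map_mul, show n * n = 1 from Subtype.ext h, map_one])

/-- No sextet element of the subgroup normalises another conjugate. -/
theorem no_sextet_normalises (hH : T.CentQD) (hb : b < 2048) (hD : isD b = true) {g : G}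
    (hg : Commute g (T.el b)) (hgN : g ∉ Subgroup.normalizer (T.V : Set G)) {a : ℕ} (ha : a < 2048)
    (hq : IsQ a) : g⁻¹ * T.el a * g ∉ Subgroup.normalizer (T.V : Set G) := by
  classical
  intro hn
  have hgi : Commute g⁻¹ (T.el b) := hg.inv_left
  have hgiN : g⁻¹ ∉ Subgroup.normalizer (T.V : Set G) := fun h => hgN (by simpa using inv_mem h)
  have eb : g * T.el b * g⁻¹ = T.el b := by rw [hg.eq, mul_inv_cancel_right]
  have eb' : g⁻¹ * T.el b * g = T.el b := by rw [hgi.eq, inv_mul_cancel_right]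
  obtain ⟨h, hh⟩ : ∃ h : ↥(Subgroup.normalizer (T.V : Set G)), (h : G) = g⁻¹ * T.el a * g :=
    ⟨⟨_, hn⟩, rfl⟩
  have hh2 : (h : G) * h = 1 := by
    rw [hh, show g⁻¹ * T.el a * g * (g⁻¹ * T.el a * g) = g⁻¹ * (T.el a * T.el a) * g by group,
      T.el_sq' ha]
    group
  obtain ⟨B, hB⟩ : ∃ B, B = (Finset.range 2048).filter fun v => act (T.perm h) v = v := ⟨_, rfl⟩
  have hBlt : ∀ v ∈ B, v < 2048 := fun v hv => by
    rw [hB, Finset.mem_filter, Finset.mem_range] at hv; exact hv.1
  -- the fixed part normalises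
  have hBN : ∀ v ∈ B, g * T.el v * g⁻¹ ∈ Subgroup.normalizer (T.V : Set G) := by
    intro v hv
    have hv' := hBlt v hv
    rw [hB, Finset.mem_filter] at hv
    refine hH a b ha hb hq hD _ ?_ ?_
    · have := (Commute.conj_iff g).2 ((T.perm_fix_iff h hv').1 hv.2).symm
      rw [hh, show g * (g⁻¹ * T.el a * g) * g⁻¹ = T.el a by group] at this
      exact this.eq
    · have := (Commute.conj_iff g).2 (T.el_comm' hv' hb)
      rw [eb] at this
      exact this.eq
  obtain ⟨s, hs5, hs⟩ := five_sextets (fun i hi j hj => by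
      rw [hB, Finset.mem_filter, Finset.mem_range] at hi hj ⊢
      exact ⟨xor_lt hi.1 hj.1, by rw [act_xor, hi.2, hj.2]⟩)
    (hB ▸ T.fix_card_perm h hh2)
  obtain ⟨v, hv⟩ : ∃ v, v ∈ s := Finset.card_pos.1 (by omega)
  obtain ⟨C, hC, hCc⟩ : ∃ C : Finset ℕ, (∀ i, T.Common g⁻¹ i → i ∈ C) ∧ C.card ≤ 4 := by
    rcases T.common_small hH hb hD hgi hgiN with h' | ⟨d, -, -, -, -, h'⟩
    · exact ⟨{0, b}, by simpa using h', Finset.card_le_two.trans (by norm_num)⟩
    · exact ⟨{0, b, d, b ^^^ d}, by simpa using h', Finset.card_le_four⟩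
  obtain ⟨v', hv', hvv⟩ : ∃ v' ∈ s, ¬ T.Common g⁻¹ (v ^^^ v') := by
    by_contra hall
    push Not at hall
    have hle : s.card ≤ C.card := Finset.card_le_card_of_injOn (fun i => v ^^^ i)
      (fun i hi => hC _ (hall i hi)) fun i _ j _ e => Nat.xor_right_injective e
    omega
  -- the two induced involutions
  have mk : ∀ u ∈ s, ∃ n : ↥(Subgroup.normalizer (T.V : Set G)), (n : G) = g * T.el u * g⁻¹ ∧
      orderOf (T.perm n) = 2 ∧ ∀ i < 2048, act (T.perm n) i = i →
        g⁻¹ * T.el i * g ∈ Subgroup.normalizer (T.V : Set G) := by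
    intro u hu
    obtain ⟨huB, huQ⟩ := hs u hu
    have hu' := hBlt u huB
    refine ⟨⟨_, hBN u huB⟩, rfl, orderOf_eq_prime ?_ ?_, fun i hi hfix => ?_⟩
    · rw [pow_two, ← map_mul, ← map_one T.perm]
      congr 1
      refine Subtype.ext ?_
      show g * T.el u * g⁻¹ * (g * T.el u * g⁻¹) = 1
      rw [show g * T.el u * g⁻¹ * (g * T.el u * g⁻¹) = g * (T.el u * T.el u) * g⁻¹ by group,
        T.el_sq' hu']
      group
    · intro h1
      exact hgiN (T.norm_of_common hH hb hD hgi hu' huQ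
        (by rw [inv_inv]; exact (T.perm_eq_one_iff _).1 h1))
    · refine hH u b hu' hb huQ hD _ ?_ ?_
      · have := (Commute.conj_iff g⁻¹).2 ((T.perm_fix_iff _ hi).1 hfix).symm
        simp only [inv_inv] at this
        rw [show g⁻¹ * (g * T.el u * g⁻¹) * g = T.el u by group] at this
        exact this.eq
      · have := (Commute.conj_iff g⁻¹).2 (T.el_comm' hi hb)
        simp only [inv_inv] at this
        rw [eb'] at this
        exact this.eq
  obtain ⟨n, hne, hn2, hnA⟩ := mk v hv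
  obtain ⟨n', hne', hn2', hnA'⟩ := mk v' hv'
  have hv'' := hBlt v (hs v hv).1
  have hv''' := hBlt v' (hs v' hv').1
  obtain ⟨A, hA⟩ : ∃ A, A = (Finset.range 2048).filter fun i =>
      g⁻¹ * T.el i * g ∈ Subgroup.normalizer (T.V : Set G) := ⟨_, rfl⟩
  have hA64 : A.card ≤ 64 := T.card_normalising hH hb hD hg hgN A fun i hi => by
    rw [hA, Finset.mem_filter, Finset.mem_range] at hi; exact hi
  have hsub : ∀ m : ↥(Subgroup.normalizer (T.V : Set G)), (m : G) * m = 1 →
      (∀ i < 2048, act (T.perm m) i = i → g⁻¹ * T.el i * g ∈ Subgroup.normalizer (T.V : Set G)) →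
      (Finset.range 2048).filter (fun i => act (T.perm m) i = i) = A := by
    intro m hm hmA
    refine Finset.eq_of_subset_of_card_le (fun i hi => ?_) (hA64.trans (T.fix_card_perm m hm))
    rw [Finset.mem_filter, Finset.mem_range] at hi
    rw [hA, Finset.mem_filter, Finset.mem_range]
    exact ⟨hi.1, hmA i hi.1 hi.2⟩
  have sq : ∀ {u : ℕ}, u < 2048 → g * T.el u * g⁻¹ * (g * T.el u * g⁻¹) = 1 := fun {u} hu => by
    rw [show g * T.el u * g⁻¹ * (g * T.el u * g⁻¹) = g * (T.el u * T.el u) * g⁻¹ by group,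
      T.el_sq' hu]
    group
  have hfix := (hsub n (by rw [hne]; exact sq hv'') hnA).trans
    (hsub n' (by rw [hne']; exact sq hv''') hnA').symm
  have hcomm : Commute (T.perm n) (T.perm n') := by
    show T.perm n * T.perm n' = T.perm n' * T.perm n
    rw [← map_mul, ← map_mul]
    congr 1
    refine Subtype.ext ?_
    show (n : G) * n' = (n' : G) * n
    rw [hne, hne']
    exact ((Commute.conj_iff g).2 (T.el_comm' hv'' hv''')).eq
  have heq : T.perm n = T.perm n' := fix_inj_aux (fun hσ => act_pair hσ)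
    (fun {p q r s} hpq hrs e => by
      have h1 : p ∈ ({r, s} : Finset GolayPt) := pair_inj hpq hrs e ▸ Finset.mem_insert_self p _
      have h2 : q ∈ ({r, s} : Finset GolayPt) := pair_inj hpq hrs e ▸ by simp
      simp only [Finset.mem_insert, Finset.mem_singleton] at h1 h2
      rcases h1 with rfl | rfl <;> rcases h2 with rfl | rfl
      · exact absurd rfl hpq
      · exact Or.inl ⟨rfl, rfl⟩
      · exact Or.inr ⟨rfl, rfl⟩
      · exact absurd rfl hpq)
    (fun p q => xor_lt (cd_lt p) (cd_lt q)) (T.perm_mem n) (T.perm_mem n') hn2 hn2' hcomm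
    fun i hi h' => by
      have hm : i ∈ (Finset.range 2048).filter fun j => act (T.perm n) j = j := by simp [hi, h']
      rw [hfix, Finset.mem_filter] at hm
      exact hm.2
  apply hvv
  refine ⟨xor_lt hv'' hv''', ?_⟩
  have h1 : T.perm (n * n') = 1 := by
    rw [map_mul, ← heq, ← pow_two, ← hn2]
    exact pow_orderOf_eq_one _
  have h2 := (T.perm_eq_one_iff _).1 h1
  rw [inv_inv, T.el_xor v hv'' v' hv''', show g * (T.el v * T.el v') * g⁻¹ =
    (g * T.el v * g⁻¹) * (g * T.el v' * g⁻¹) by group, ← hne, ← hne']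
  exact h2

/-- The central involution of two sextet elements lies in the subgroup. -/
theorem central_mem (hH : T.CentQD) (hb : b < 2048) (hD : isD b = true) {g : G}
    (hg : Commute g (T.el b)) {a a' : ℕ} (ha : a < 2048) (hq : IsQ a) (ha' : a' < 2048)
    (hq' : IsQ a') {m : ℕ} (hm : (T.el a * (g * T.el a' * g⁻¹)) ^ (2 * m) = 1) :
    (T.el a * (g * T.el a' * g⁻¹)) ^ m ∈ T.V ∧
      IsConj z ((T.el a * (g * T.el a' * g⁻¹)) ^ m * T.el a) := by
  have hx2 := T.el_sq' ha
  obtain ⟨y, hy⟩ : ∃ y, y = g * T.el a' * g⁻¹ := ⟨_, rfl⟩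
  rw [← hy] at hm ⊢
  have hy2 : y * y = 1 := by
    rw [hy, show g * T.el a' * g⁻¹ * (g * T.el a' * g⁻¹) = g * (T.el a' * T.el a') * g⁻¹ by group,
      T.el_sq' ha']
    group
  have hyb : Commute y (T.el b) := by
    rw [hy]; exact (hg.mul_left (T.el_comm' ha' hb)).mul_left hg.inv_left
  have hwb : ∀ j, Commute ((T.el a * y) ^ j) (T.el b) := fun j =>
    ((T.el_comm' ha hb).mul_left hyb).pow_left j
  obtain ⟨k, e, hkb, he, heq, hke⟩ : ∃ k e, Commute k (T.el b) ∧ e < 2048 ∧ IsQ e ∧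
      k * T.el e * k⁻¹ = (T.el a * y) ^ m * T.el a := by
    obtain ⟨j, hj | hj⟩ := Dihedral.exists_conj_eq hx2 hy2 m
    · exact ⟨_, a, hwb j, ha, hq, hj⟩
    · refine ⟨(T.el a * y) ^ j * g, a', (hwb j).mul_left hg, ha', hq', ?_⟩
      rw [← hj, hy]; group
  refine ⟨?_, ((T.cls e he).2 heq).trans (isConj_iff.2 ⟨k, hke⟩)⟩
  -- the conjugate commutes with the first element
  have hc : Commute (k * T.el e * k⁻¹) (T.el a) := by
    rw [hke]
    refine Commute.mul_left ?_ (Commute.refl _)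
    have h1 := Dihedral.pow_mul_invol hx2 hy2 m
    rw [hm, one_mul] at h1
    exact mul_inv_eq_iff_eq_mul.1 h1
  have hkN : k ∈ Subgroup.normalizer (T.V : Set G) := by
    by_contra hk
    refine T.no_sextet_normalises hH hb hD hkb hk ha hq ?_
    refine hH e b he hb heq hD _ ?_ ?_
    · have := (Commute.conj_iff k⁻¹).2 hc.symm
      simp only [inv_inv] at this
      rw [show k⁻¹ * (k * T.el e * k⁻¹) * k = T.el e by group] at this
      exact this.eq
    · have := (Commute.conj_iff k⁻¹).2 (T.el_comm' ha hb)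
      simp only [inv_inv] at this
      rw [show k⁻¹ * T.el b * k = T.el b by rw [hkb.inv_left.eq, inv_mul_cancel_right]] at this
      exact this.eq
  have h1 : (T.el a * y) ^ m * T.el a ∈ T.V := by
    rw [← hke, T.perm_spec ⟨k, hkN⟩ he]
    exact T.el_mem' (act_lt _ _)
  have h2 := mul_mem h1 (T.el_mem' ha)
  rwa [mul_assoc, hx2, mul_one] at h2

/-- The centraliser of a pair element normalises the subgroup. -/
theorem cent_le [Finite G] (hH : T.CentQD) : T.CentD := by
  intro b hb hD g hg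
  have hgb : Commute g (T.el b) := (Subgroup.mem_centralizer_iff.1 hg _ rfl).symm
  by_contra hgN
  have hgi : Commute g⁻¹ (T.el b) := hgb.inv_left
  have hbl := mem_dList_of_isD hD
  -- the first sextet
  obtain ⟨a, ha, hq, hout⟩ : ∃ a, a < 2048 ∧ IsQ a ∧
      ∀ i, T.Common g i → i ≠ 0 → isD (a ^^^ i) = true := by
    rcases T.common_small hH hb hD hgb hgN with h | ⟨d, -, hd, -, hbd, h⟩
    · obtain ⟨c, hc, hc'⟩ := List.any_eq_true.1 (List.all_eq_true.1 out_pair b hbl)
      simp only [Bool.and_eq_true, decide_eq_true_eq, Bool.not_eq_true'] at hc'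
      refine ⟨b ^^^ c, xor_lt hb (lt_of_mem_dList hc), hc', fun i hi hi0 => ?_⟩
      obtain rfl := (h i hi).resolve_left hi0
      rw [Nat.xor_comm i c, Nat.xor_assoc, Nat.xor_self, Nat.xor_zero]
      exact isD_of_mem_dList hc
    · have h2 := List.all_eq_true.1 (List.all_eq_true.1 out_triangle b hbl) d (mem_dList_of_isD hd)
      rw [hbd, Bool.not_true, Bool.false_or] at h2
      obtain ⟨c, hc, hc'⟩ := List.any_eq_true.1 h2
      simp only [Bool.and_eq_true, decide_eq_true_eq, Bool.not_eq_true'] at hc'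
      refine ⟨b ^^^ c, xor_lt hb (lt_of_mem_dList hc), hc'.1.1, fun i hi hi0 => ?_⟩
      rcases (h i hi).resolve_left hi0 with rfl | rfl | rfl
      · rw [Nat.xor_comm i c, Nat.xor_assoc, Nat.xor_self, Nat.xor_zero]
        exact isD_of_mem_dList hc
      · exact hc'.1.2
      · exact hc'.2
  -- the second sextet
  obtain ⟨a', ha', hq', hq''⟩ : ∃ a', a' < 2048 ∧ IsQ a' ∧ IsQ (a' ^^^ b) := by
    obtain ⟨a', ha', h⟩ := List.any_eq_true.1 (List.all_eq_true.1 far_pair b hbl)
    simp only [Bool.and_eq_true, decide_eq_true_eq, Bool.not_eq_true'] at h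
    exact ⟨a', lt_trans (List.mem_range.1 ha') (by norm_num), h.1.1, h.1.2, h.2⟩
  obtain ⟨y, hy⟩ : ∃ y, y = g * T.el a' * g⁻¹ := ⟨_, rfl⟩
  have hy2 : y * y = 1 := by
    rw [hy, show g * T.el a' * g⁻¹ * (g * T.el a' * g⁻¹) = g * (T.el a' * T.el a') * g⁻¹ by group,
      T.el_sq' ha']
    group
  have hx2 := T.el_sq' ha
  have hyb : Commute y (T.el b) := by
    rw [hy]; exact (hgb.mul_left (T.el_comm' ha' hb)).mul_left hgi
  obtain ⟨w, hw⟩ : ∃ w, w = T.el a * y := ⟨_, rfl⟩
  have hpos : 0 < orderOf w := orderOf_pos w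
  obtain ⟨m, hm | hm⟩ := Nat.even_or_odd' (orderOf w)
  · -- even order: the central involution
    have hwm : w ^ (2 * m) = 1 := hm ▸ pow_orderOf_eq_one w
    have hne : w ^ m ≠ 1 := pow_ne_one_of_lt_orderOf (by omega) (by omega)
    obtain ⟨h1, h2⟩ := T.central_mem hH hb hD hgb ha hq ha' hq' (m := m) (by rw [← hy, ← hw]; exact hwm)
    rw [← hy, ← hw] at h1 h2
    have e3 : T.el a' * (g⁻¹ * T.el a * g⁻¹⁻¹) = g⁻¹ * w⁻¹ * g⁻¹⁻¹ := by
      rw [hw, mul_inv_rev, inv_eq_of_mul_eq_one_left hy2, inv_eq_of_mul_eq_one_left hx2, hy]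
      group
    obtain ⟨h3, -⟩ := T.central_mem hH hb hD hgi ha' hq' ha hq (m := m) (by
      rw [e3, conj_pow, inv_pow, hwm]; group)
    rw [e3, conj_pow, inv_pow, inv_inv] at h3
    have hinv : (w ^ m)⁻¹ = w ^ m := inv_eq_of_mul_eq_one_left (by rw [← pow_add, ← two_mul, hwm])
    rw [hinv] at h3
    obtain ⟨i, hi, ei⟩ := (T.mem_V _).1 h1
    have hi0 : i ≠ 0 := fun e => hne (by rw [← ei, e, T.el_zero'])
    have hCi : T.Common g i := ⟨hi, by rw [ei]; exact h3⟩
    rw [← ei, ← T.el_xor i hi a ha] at h2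
    exact not_isQ_of_isD (by rw [Nat.xor_comm]; exact hout i hCi hi0)
      ((T.cls _ (xor_lt hi ha)).1 h2)
  · -- odd order: the two are conjugate
    obtain ⟨k, hk⟩ : ∃ k, k = g⁻¹ * w ^ m := ⟨_, rfl⟩
    have hwm : w ^ m * T.el a * (w ^ m)⁻¹ = y := by
      rw [hw, Dihedral.pow_mul_invol hx2 hy2 m]
      have h1 : (T.el a * y) ^ (2 * m) * (T.el a * y) = 1 := by
        rw [← pow_succ, ← hm, hw]; exact pow_orderOf_eq_one _
      rw [eq_inv_of_mul_eq_one_left h1, mul_inv_rev, inv_eq_of_mul_eq_one_left hy2,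
        inv_eq_of_mul_eq_one_left hx2, mul_assoc, hx2, mul_one]
    have hkb : Commute k (T.el b) := by
      rw [hk, hw]
      exact hgi.mul_left (((T.el_comm' ha hb).mul_left hyb).pow_left m)
    have hka : k * T.el a * k⁻¹ = T.el a' := by
      rw [hk, show g⁻¹ * w ^ m * T.el a * (g⁻¹ * w ^ m)⁻¹ =
        g⁻¹ * (w ^ m * T.el a * (w ^ m)⁻¹) * g by group, hwm, hy]
      group
    have hkN : k ∈ Subgroup.normalizer (T.V : Set G) := T.norm_of_common hH hb hD hkb ha' hq'
      (by rw [← hka, show k⁻¹ * (k * T.el a * k⁻¹) * k = T.el a by group]; exact T.el_mem' ha)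
    have eb : act (T.perm ⟨k, hkN⟩) b = b := (T.perm_fix_iff ⟨k, hkN⟩ hb).2 hkb
    have ea : act (T.perm ⟨k, hkN⟩) a = a' :=
      T.el_inj _ (act_lt _ _) _ ha' ((T.perm_spec ⟨k, hkN⟩ ha).symm.trans hka)
    have hab : isD (a ^^^ b) = true := hout b (T.common_b hb hgb) (isD_ne_zero hD)
    rw [← isD_act (T.perm_mem ⟨k, hkN⟩) (xor_lt ha hb), act_xor, ea, eb, hq''.2] at hab
    exact Bool.false_ne_true hab

end Todd

end Cfsg.Agent.Lib.J4Two56
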