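import Cfsg.Agent.Lib.J4Two56.Stmts2

/-!
# The coordinates on the fixed space of the first plane exist

Three lifts act monomially or by an explicit matrix in an eigenbasis; the sixteen images of the
translations are lines, and the only assignment of lines compatible with the three lifts is the table.
-/

set_option autoImplicit false
set_option maxRecDepth 100000
set_option linter.unusedSectionVars false

universe u

namespace Cfsg.Agent.Lib.J4Two56

open Cfsg Cfsg.Agent.Lib.J4Type19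

namespace FrameData

/-- Exact maps of the chosen lifts on codes. -/
def mA (v : ℕ) : ℕ := v % 4 ||| f4mul 2 (v / 4 % 4) <<< 2 ||| f4mul 3 (v / 16 % 4) <<< 4

/-- Exact maps of the chosen lifts on codes. -/
def mB (v : ℕ) : ℕ := v / 16 % 4 ||| (v % 4) <<< 2 ||| (v / 4 % 4) <<< 4

/-- Exact maps of the chosen lifts on codes. -/
def mY (v : ℕ) : ℕ := sc (v % 4) 21 ^^^ sc (v / 4 % 4) (mA (mA 21)) ^^^ sc (v / 16 % 4) (mA 21)

/-- The map of a lift. -/
def gMap (k v : ℕ) : ℕ := if k = 0 then mA v else if k = 1 then mB v else mY v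

/-- The map of a word. -/
def gW (w : List ℕ) (v : ℕ) : ℕ := w.foldr gMap v

/-- The lines. -/
def lines21 : List ℕ :=
  [0xffff, 0xf000f000f000f, 0xf0f0000f00000f, 0xf0000f0f000000f, 0x1111111111111111, 0x1248218448128421,
    0x1482412882142841, 0x1824814224184281, 0x2184481212488421, 0x2222888844441111, 0x2418182481424281,
    0x2841284128412841, 0x4128821414822841, 0x4281428142814281, 0x4444222288881111, 0x4812124821848421,
    0x8142241818244281, 0x8214148241282841, 0x8421842184218421, 0x8888444422221111, 0xf0000f0000f0000f]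

/-- The words leading from the two representatives. -/
def pathList : List (ℕ × ℕ × List ℕ) :=
  [(1, 1, []), (1, 2, [2, 0]), (1, 3, [1, 1, 0]), (1, 6, [2, 2]), (1, 7, [1, 0]), (1, 9, [1]), (1, 10, [2]),
    (1, 13, [1, 1]), (1, 15, [0]), (4, 4, []), (4, 5, [0, 2]), (4, 8, [1, 1]), (4, 11, [2, 1]), (4, 12, [1]),
    (4, 14, [2])]

/-- The words fixing a representative. -/
def stabW (r : ℕ) : List (List ℕ) := if r = 1 then [[0, 2]] else [[0], [1, 2, 2]]

/-- The sixteen members of a span. -/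
def spanL (x y : ℕ) : List ℕ :=
  [0, x, sc 2 x, sc 3 x].flatMap fun p => [0, y, sc 2 y, sc 3 y].map fun q => p ^^^ q

/-- The mask of a list. -/
def maskL (l : List ℕ) : ℕ := l.foldr (fun e r => 2 ^ e ||| r) 0

theorem testBit_maskL (l : List ℕ) (v : ℕ) : (maskL l).testBit v = true ↔ v ∈ l := by
  induction l with
  | nil => simp [maskL]
  | cons e l ih =>
    show (2 ^ e ||| maskL l).testBit v = true ↔ _
    rw [Nat.testBit_lor, Bool.or_eq_true, ih, Nat.testBit_two_pow, decide_eq_true_iff, List.mem_cons]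
    exact or_congr eq_comm Iff.rfl

theorem sc_lt_all : ((List.range 64).all fun v =>
    Nat.blt (sc 2 v) 64 && Nat.beq (pnt (sc 2 v)) (pnt v) && Nat.beq (sc 3 v) (v ^^^ sc 2 v) &&
    Nat.beq (sc 2 v % 4) (f4mul 2 (v % 4)) && Nat.beq (sc 2 v / 4 % 4) (f4mul 2 (v / 4 % 4)) &&
    Nat.beq (sc 2 v / 16 % 4) (f4mul 2 (v / 16 % 4)) &&
    Nat.blt (mA v) 64 && Nat.blt (mB v) 64 && Nat.blt (mY v) 64) = true := by decide +kernel

theorem digits_xor : ((List.range 64).all fun v => (List.range 64).all fun w =>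
    Nat.beq ((v ^^^ w) % 4) (v % 4 ^^^ w % 4) && Nat.beq ((v ^^^ w) / 4 % 4) (v / 4 % 4 ^^^ w / 4 % 4) &&
    Nat.beq ((v ^^^ w) / 16 % 4) (v / 16 % 4 ^^^ w / 16 % 4)) = true := by decide +kernel

theorem pmap_ok : ((List.range 3).all fun k => (List.range 64).all fun v =>
    Nat.beq (pnt (gMap k v)) (pmap k v)) = true := by decide +kernel

theorem span_ok : ((List.range 64).all fun x => !Nat.beq (pnt x) x || Nat.beq x 0 ||
    (List.range 64).all fun y => !Nat.beq (pnt y) y || Nat.beq y 0 || Nat.beq x y ||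
      (decide (spanL x y).Nodup && lines21.contains (maskL (spanL x y)))) = true := by decide +kernel

theorem pnt_ok : ((List.range 64).all fun x => Nat.beq x 0 || (!Nat.beq (pnt x) 0 &&
    Nat.beq (pnt (pnt x)) (pnt x) && Nat.blt (pnt x) 64 &&
    (List.range 64).all fun y => [0, x, sc 2 x, sc 3 x].contains y || !Nat.beq (pnt y) (pnt x))) = true := by
  decide +kernel

theorem stab_ok : ([1, 4].all fun r => lines21.all fun m =>
    Nat.beq m (M22D.lineMasks.getD r 0) ||
      !((stabW r).all fun w => (List.range 64).all fun v => !m.testBit v || m.testBit (gW w v))) = true := by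
  decide +kernel

theorem path_ok : (pathList.all fun e => lines21.all fun m =>
    Nat.beq m (M22D.lineMasks.getD e.2.1 0) ||
      !((List.range 64).all fun v => !(M22D.lineMasks.getD e.1 0).testBit v || m.testBit (gW e.2.2 v))) = true := by
  decide +kernel

theorem index_ok : ((List.range 4).all fun k => (List.range 16).all fun i =>
    Nat.blt (M22D.uP k i) 16 && (Nat.beq i 0 || !Nat.beq (M22D.uP k i) 0)) = true := by decide +kernel

theorem words_ok : (([1, 4].all fun r => (stabW r).all fun w =>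
      Nat.beq (w.foldr M22D.uP r) r && w.all fun k => Nat.blt k 3) &&
    pathList.all fun e => [1, 4].contains e.1 && Nat.beq (e.2.2.foldr M22D.uP e.1) e.2.1 &&
      e.2.2.all fun k => Nat.blt k 3) = true := by decide +kernel

theorem path_cover : ((List.range 16).all fun i => Nat.beq i 0 || pathList.any fun e => Nat.beq e.2.1 i) = true := by
  decide +kernel

theorem fourth_ok : ((List.range 64).all fun v => Nat.beq v 0 || (List.range 64).all fun v' =>
    Nat.beq v' 0 || Nat.beq (pnt v') (pmap 3 v) ||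
      !((List.range 16).all fun i => Nat.beq i 0 || !inLine i v || inLine (M22D.uP 3 i) v')) = true := by
  decide +kernel

end FrameData

open FrameData

section General

variable {C V M : Type*} [Group C] [AddCommGroup V] [DistribMulAction C V] [Group M] [Finite M]
  (J : JMod C V M) (X : Plus M) (L : Lifts J X.F)

/-- Scalars. -/
def scal (s : ℕ) (x : V) : V :=
  if s = 0 then 0 else if s = 1 then x else if s = 2 then J.ω ^ L.e • x else J.ω ^ L.e • J.ω ^ L.e • x

/-- The second eigenvector map. -/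
def bb : C := L.y * L.a * L.y⁻¹

/-- The vector of a code. -/
def cvec (e₀ : V) (v : ℕ) : V :=
  scal J X L (v % 4) e₀ + scal J X L (v / 4 % 4) (bb J X L • e₀) +
    scal J X L (v / 16 % 4) (bb J X L • bb J X L • e₀)

/-- What is known of the first eigenvector. -/
structure Start (e₀ : V) : Prop where
  mem : e₀ ∈ J.fix X.F.U0
  eig : e₀ ∈ J.eig L.a 0
  ne : e₀ ≠ 0

theorem exists_start : ∃ e₀, Start J X L e₀ := by
  have hS := J.fix_U0 L
  have h := J.card_eq_cube L (J.fix X.F.U0) (fun v hv => J.ω_mem_fix hv)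
    (fun v hv => J.fix_invariant (fun x hx => by rw [L.πa]; exact X.F.na x hx) hv)
    (fun v hv => J.fix_invariant (fun x hx => by rw [map_mul, map_mul, map_inv, L.πa, L.πy]; exact X.F.nb x hx) hv)
  rw [hS.1] at h
  have h4 : Nat.card ↥(J.fix X.F.U0 ⊓ J.eig L.a 0) = 4 :=
    Nat.pow_left_injective (show (3 : ℕ) ≠ 0 by norm_num) (by simpa using h.symm)
  have hne := J.ne_bot_of_card (S := J.fix X.F.U0 ⊓ J.eig L.a 0) (n := 2) (by norm_num) (by rw [h4]; norm_num)
  rw [Ne, AddSubgroup.eq_bot_iff_forall] at hne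
  push_neg at hne
  obtain ⟨v, hv, hv0⟩ := hne
  exact ⟨v, hv.1, hv.2, hv0⟩

theorem w_sum (x : V) : x + J.ω ^ L.e • x + J.ω ^ L.e • J.ω ^ L.e • x = 0 := by
  have h := J.ω_sum x
  rw [J.ωpow_add]
  have he := L.e_ne
  rcases (by omega : L.e % 3 = 1 ∨ L.e % 3 = 2) with e | e
  · rw [J.ωpow_congr (n := L.e) (m := 1) e, J.ωpow_congr (n := L.e + L.e) (m := 2) (by omega), pow_one, pow_two,
      mul_smul]
    exact h
  · rw [J.ωpow_congr (n := L.e) (m := 2) e, J.ωpow_congr (n := L.e + L.e) (m := 1) (by omega), pow_one, pow_two,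
      mul_smul, add_right_comm]
    exact h

theorem w_cube (x : V) : J.ω ^ L.e • J.ω ^ L.e • J.ω ^ L.e • x = x := by
  rw [J.ωpow_add, J.ωpow_add, J.ωpow_congr (m := 0) (by omega), pow_zero, one_smul]

theorem scal_zero_arg (s : ℕ) : scal J X L s (0 : V) = 0 := by
  unfold scal; split_ifs <;> simp

theorem scal_smul (g : C) (s : ℕ) (x : V) : g • scal J X L s x = scal J X L s (g • x) := by
  unfold scal
  split_ifs
  · exact smul_zero g
  · rfl
  · rw [J.ωpow_comm]
  · rw [← J.ωpow_comm L.e g, ← J.ωpow_comm L.e g]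

theorem scal_add (s : ℕ) (x y : V) : scal J X L s (x + y) = scal J X L s x + scal J X L s y := by
  unfold scal
  split_ifs <;> simp [smul_add]

theorem scal_w {s : ℕ} (hs : s < 4) (x : V) :
    J.ω ^ L.e • scal J X L s x = scal J X L (f4mul 2 s) x := by
  interval_cases s <;> simp [scal, f4mul, w_cube J X L]

theorem scal_xor {s t : ℕ} (hs : s < 4) (ht : t < 4) (x : V) :
    scal J X L (s ^^^ t) x = scal J X L s x + scal J X L t x := by
  have h := w_sum J X L x
  have h2 : J.ω ^ L.e • J.ω ^ L.e • x = x + J.ω ^ L.e • x :=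
    calc J.ω ^ L.e • J.ω ^ L.e • x = -(x + J.ω ^ L.e • x) := (neg_eq_of_add_eq_zero_right h).symm
      _ = _ := J.neg_eq _
  interval_cases s <;> interval_cases t <;> simp [scal, h2, J.two] <;>
    (try simp only [← add_assoc, J.two, zero_add]) <;> (try rw [add_comm x, add_assoc, J.two, add_zero]) <;>
    (try rw [add_comm]) <;> (try rw [add_left_comm, J.two, add_zero]) <;>
    (try rw [← add_assoc, J.two, zero_add])

theorem scal_scal {s : ℕ} (hs : s < 4) {t : ℕ} (ht : t < 4) (x : V) :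
    scal J X L s (scal J X L t x) = scal J X L (f4mul s t) x := by
  interval_cases s <;> interval_cases t <;> simp [scal, f4mul, w_cube J X L]

theorem scal_ne {s : ℕ} (hs : s < 4) {x : V} (h : scal J X L s x = 0) : s = 0 ∨ x = 0 := by
  interval_cases s
  · exact Or.inl rfl
  · exact Or.inr (by simpa [scal] using h)
  · exact Or.inr ((smul_eq_zero_iff_eq _).1 (by simpa [scal] using h))
  · exact Or.inr ((smul_eq_zero_iff_eq _).1 ((smul_eq_zero_iff_eq _).1 (by simpa [scal] using h)))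

variable {e₀ : V} (hst : Start J X L e₀)
include hst

omit hst in
theorem scal_eig {k : ℕ} {x : V} (hx : x ∈ J.eig L.a k) (s : ℕ) : scal J X L s x ∈ J.eig L.a k := by
  show L.a • _ = J.ω ^ k • _
  rw [scal_smul, scal_smul, show L.a • x = _ from hx]

omit hst in
theorem scal_fix {x : V} (hx : x ∈ J.fix X.F.U0) (s : ℕ) : scal J X L s x ∈ J.fix X.F.U0 := by
  intro c h1 h4
  rw [scal_smul, hx c h1 h4]

omit hst in
theorem n_norm {k : ℕ} (hk : k < 4) : ∀ x ∈ X.F.U0, X.n k * x * (X.n k)⁻¹ ∈ X.F.U0 := by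
  intro x hx
  obtain ⟨i, hi, rfl⟩ := X.u_surj x hx
  rw [X.nu k hk i hi]
  have h := List.all_eq_true.1 (List.all_eq_true.1 index_ok k (List.mem_range.2 hk)) i (List.mem_range.2 hi)
  simp only [Bool.and_eq_true, Nat.blt_eq] at h
  exact X.u_mem _ h.1

omit hst [Finite M] in
theorem π_bb : J.π (bb J X L) = X.n 1 := by
  rw [bb, map_mul, map_mul, map_inv, L.πa, L.πy, X.n1]

omit hst in
theorem bb_fix {x : V} (hx : x ∈ J.fix X.F.U0) : bb J X L • x ∈ J.fix X.F.U0 :=
  J.fix_invariant (fun u hu => by rw [π_bb]; exact n_norm X (by norm_num) u hu) hx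

theorem a_e : L.a • e₀ = e₀ := by
  have := hst.eig
  simpa [JMod.eig] using this

omit hst in
theorem a_bb (x : V) : L.a • bb J X L • x = J.ω ^ L.e • bb J X L • L.a • x := by
  rw [← mul_smul, bb, L.comm, mul_smul, mul_smul (L.y * L.a * L.y⁻¹) L.a]

theorem a_e1 : L.a • bb J X L • e₀ = J.ω ^ L.e • bb J X L • e₀ := by
  rw [a_bb, a_e J X L hst]

theorem a_e2 : L.a • bb J X L • bb J X L • e₀ = J.ω ^ L.e • J.ω ^ L.e • bb J X L • bb J X L • e₀ := by
  rw [a_bb, a_e1 J X L hst, ← J.ωpow_comm L.e (bb J X L)]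

omit hst in
theorem bb_cube (x : V) : bb J X L • bb J X L • bb J X L • x = x := by
  rw [← mul_smul, ← mul_smul, show bb J X L * bb J X L * bb J X L = bb J X L ^ 3 by simp [pow_succ, mul_assoc],
    bb, conj_pow, L.a3, mul_one, mul_inv_cancel, one_smul]

theorem cvec_mem (v : ℕ) : cvec J X L e₀ v ∈ J.fix X.F.U0 :=
  add_mem (add_mem (scal_fix J X L hst.mem _) (scal_fix J X L (bb_fix J X L hst.mem) _))
    (scal_fix J X L (bb_fix J X L (bb_fix J X L hst.mem)) _)

theorem cvec_xor {v w : ℕ} (hv : v < 64) (hw : w < 64) :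
    cvec J X L e₀ (v ^^^ w) = cvec J X L e₀ v + cvec J X L e₀ w := by
  have h := List.all_eq_true.1 (List.all_eq_true.1 digits_xor v (List.mem_range.2 hv)) w (List.mem_range.2 hw)
  simp only [Bool.and_eq_true] at h
  obtain ⟨⟨h0, h1⟩, h2⟩ := h
  unfold cvec
  rw [Nat.eq_of_beq_eq_true h0, Nat.eq_of_beq_eq_true h1, Nat.eq_of_beq_eq_true h2,
    scal_xor J X L (by omega) (by omega), scal_xor J X L (by omega) (by omega), scal_xor J X L (by omega) (by omega)]
  abel

omit hst in
theorem all64 {v : ℕ} (hv : v < 64) : sc 2 v < 64 ∧ pnt (sc 2 v) = pnt v ∧ sc 3 v = v ^^^ sc 2 v ∧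
    sc 2 v % 4 = f4mul 2 (v % 4) ∧ sc 2 v / 4 % 4 = f4mul 2 (v / 4 % 4) ∧
    sc 2 v / 16 % 4 = f4mul 2 (v / 16 % 4) ∧ mA v < 64 ∧ mB v < 64 ∧ mY v < 64 := by
  have h := List.all_eq_true.1 sc_lt_all v (List.mem_range.2 hv)
  simp only [Bool.and_eq_true, Nat.blt_eq] at h
  obtain ⟨⟨⟨⟨⟨⟨⟨⟨h1, h2⟩, h3⟩, h4⟩, h5⟩, h6⟩, h7⟩, h8⟩, h9⟩ := h
  exact ⟨h1, Nat.eq_of_beq_eq_true h2, Nat.eq_of_beq_eq_true h3, Nat.eq_of_beq_eq_true h4,
    Nat.eq_of_beq_eq_true h5, Nat.eq_of_beq_eq_true h6, h7, h8, h9⟩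

theorem cvec_w {v : ℕ} (hv : v < 64) : J.ω ^ L.e • cvec J X L e₀ v = cvec J X L e₀ (sc 2 v) := by
  obtain ⟨-, -, -, h0, h1, h2, -⟩ := all64 hv
  unfold cvec
  rw [h0, h1, h2, smul_add, smul_add, scal_w J X L (by omega), scal_w J X L (by omega), scal_w J X L (by omega)]

theorem cvec_eq_zero {v : ℕ} (hv : v < 64) (h : cvec J X L e₀ v = 0) : v = 0 := by
  have e0 : scal J X L (v % 4) e₀ ∈ J.eig L.a 0 := scal_eig J X L hst.eig _
  have e1 : scal J X L (v / 4 % 4) (bb J X L • e₀) ∈ J.eig L.a L.e := scal_eig J X L (a_e1 J X L hst) _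
  have e2 : scal J X L (v / 16 % 4) (bb J X L • bb J X L • e₀) ∈ J.eig L.a (L.e + L.e) :=
    scal_eig J X L (show _ = _ by rw [a_e2 J X L hst, J.ωpow_add]) _
  have he := L.e_ne
  have key : ∀ k, J.proj L.a k (cvec J X L e₀ v) = 0 := fun k => by rw [h]; simp [JMod.proj]
  have k0 := key 0; have k1 := key L.e; have k2 := key (L.e + L.e)
  simp only [cvec, J.proj_add, J.proj_eig e0, J.proj_eig e1, J.proj_eig e2] at k0 k1 k2
  rw [if_pos trivial, if_neg (by omega), if_neg (by omega), add_zero, add_zero] at k0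
  rw [if_neg (by omega), if_pos trivial, if_neg (by omega), zero_add, add_zero] at k1
  rw [if_neg (by omega), if_neg (by omega), if_pos trivial, zero_add, zero_add] at k2
  have hb : ∀ x : V, bb J X L • x = 0 → x = 0 := fun x hx => (smul_eq_zero_iff_eq _).1 hx
  have d0 : v % 4 = 0 := (scal_ne J X L (by omega) k0).resolve_right hst.ne
  have d1 : v / 4 % 4 = 0 := (scal_ne J X L (by omega) k1).resolve_right fun e => hst.ne (hb _ e)
  have d2 : v / 16 % 4 = 0 := (scal_ne J X L (by omega) k2).resolve_right fun e => hst.ne (hb _ (hb _ e))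
  omega

theorem cvec_inj {v w : ℕ} (hv : v < 64) (hw : w < 64) (h : cvec J X L e₀ v = cvec J X L e₀ w) : v = w := by
  have := cvec_eq_zero J X L hst (Nat.xor_lt_two_pow (n := 6) hv hw)
    (by rw [cvec_xor J X L hst hv hw, h, J.two])
  exact Nat.eq_of_testBit_eq fun i => by
    have := congrArg (·.testBit i) this
    simpa using this

theorem cvec_surj {x : V} (hx : x ∈ J.fix X.F.U0) : ∃ v, v < 64 ∧ cvec J X L e₀ v = x := by
  have := J.finiteV
  let f : Fin 64 → ↥(J.fix X.F.U0) := fun v => ⟨cvec J X L e₀ v, cvec_mem J X L hst v⟩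
  have hf : Function.Bijective f := (Nat.bijective_iff_injective_and_card _).2
    ⟨fun v w h => Fin.ext (cvec_inj J X L hst v.2 w.2 (congrArg Subtype.val h)),
      by rw [(J.fix_U0 L).1, Nat.card_fin]; norm_num⟩
  obtain ⟨v, hv⟩ := hf.2 ⟨x, hx⟩
  exact ⟨v, v.2, congrArg Subtype.val hv⟩

omit hst in
theorem sc_zero {v : ℕ} (hv : v < 64) : sc 0 v = 0 := by
  have h := (by decide +kernel : ((List.range 64).all fun v => Nat.beq (sc 0 v) 0) = true)
  exact Nat.eq_of_beq_eq_true (List.all_eq_true.1 h v (List.mem_range.2 hv))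

omit hst in
theorem scal_lt {s v : ℕ} (hs : s < 4) (hv : v < 64) : sc s v < 64 := by
  have h := all64 hv
  interval_cases s
  · rw [sc_zero hv]; norm_num
  · have e : sc 1 v = v := by
      have := (by decide +kernel : ((List.range 64).all fun v => Nat.beq (sc 1 v) v) = true)
      exact Nat.eq_of_beq_eq_true (List.all_eq_true.1 this v (List.mem_range.2 hv))
    rwa [e]
  · exact h.1
  · rw [h.2.2.1]; exact Nat.xor_lt_two_pow (n := 6) hv h.1

theorem cvec_sc {s v : ℕ} (hs : s < 4) (hv : v < 64) :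
    cvec J X L e₀ (sc s v) = scal J X L s (cvec J X L e₀ v) := by
  have h := all64 hv
  interval_cases s
  · have e : sc 0 v = 0 := sc_zero hv
    rw [e]; simp [cvec, scal]
  · have e : sc 1 v = v := by
      have := (by decide +kernel : ((List.range 64).all fun v => Nat.beq (sc 1 v) v) = true)
      exact Nat.eq_of_beq_eq_true (List.all_eq_true.1 this v (List.mem_range.2 hv))
    rw [e]; simp [scal]
  · rw [← cvec_w J X L hst hv]; simp [scal]
  · rw [h.2.2.1, cvec_xor J X L hst hv h.1, ← cvec_w J X L hst hv]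
    have h2 := w_sum J X L (cvec J X L e₀ v)
    simp only [scal]
    norm_num
    rw [← J.neg_eq (J.ω ^ L.e • J.ω ^ L.e • cvec J X L e₀ v)]
    exact eq_neg_of_add_eq_zero_left h2

theorem a_cvec {v : ℕ} (hv : v < 64) : L.a • cvec J X L e₀ v = cvec J X L e₀ (mA v) := by
  have hd : ((List.range 64).all fun v => Nat.beq (mA v % 4) (v % 4) &&
      Nat.beq (mA v / 4 % 4) (f4mul 2 (v / 4 % 4)) && Nat.beq (mA v / 16 % 4) (f4mul 2 (f4mul 2 (v / 16 % 4)))) = true := by
    decide +kernel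
  have h := List.all_eq_true.1 hd v (List.mem_range.2 hv)
  simp only [Bool.and_eq_true] at h
  obtain ⟨⟨h0, h1⟩, h2⟩ := h
  unfold cvec
  have hlt : ∀ t, t < 4 → f4mul 2 t < 4 := by intro t ht; interval_cases t <;> decide
  rw [Nat.eq_of_beq_eq_true h0, Nat.eq_of_beq_eq_true h1, Nat.eq_of_beq_eq_true h2, smul_add, smul_add,
    scal_smul, scal_smul, scal_smul, a_e J X L hst, a_e1 J X L hst, a_e2 J X L hst,
    ← scal_w J X L (by omega), ← scal_w J X L (hlt _ (by omega)), ← scal_w J X L (by omega)]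
  simp only [scal_smul]

theorem b_cvec {v : ℕ} (hv : v < 64) : bb J X L • cvec J X L e₀ v = cvec J X L e₀ (mB v) := by
  have hd : ((List.range 64).all fun v => Nat.beq (mB v % 4) (v / 16 % 4) &&
      Nat.beq (mB v / 4 % 4) (v % 4) && Nat.beq (mB v / 16 % 4) (v / 4 % 4)) = true := by decide +kernel
  have h := List.all_eq_true.1 hd v (List.mem_range.2 hv)
  simp only [Bool.and_eq_true] at h
  obtain ⟨⟨h0, h1⟩, h2⟩ := h
  unfold cvec
  rw [Nat.eq_of_beq_eq_true h0, Nat.eq_of_beq_eq_true h1, Nat.eq_of_beq_eq_true h2, smul_add, smul_add,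
    scal_smul, scal_smul, scal_smul, bb_cube J X L]
  abel

/-- The lift of the third generator sending the first vector to the sum of the three. -/
theorem exists_y : ∃ g : C, J.π g = X.n 2 ∧ ∀ v, v < 64 → g • cvec J X L e₀ v = cvec J X L e₀ (mY v) := by
  have hYb : ∀ x : V, L.y • L.a • x = bb J X L • L.y • x := fun x => by
    rw [← mul_smul, ← mul_smul, bb, inv_mul_cancel_right]
  have hYb' : ∀ x : V, L.y • bb J X L • x = L.a⁻¹ • L.y • x := fun x => by
    have e : L.y * bb J X L = L.a⁻¹ * L.y := by rw [bb, ← L.inv]; group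
    rw [← mul_smul, ← mul_smul, e]
  have hfix : L.y • e₀ ∈ J.fix X.F.U0 :=
    J.fix_invariant (fun u hu => by rw [L.πy, ← X.n2]; exact n_norm X (by norm_num) u hu) hst.mem
  obtain ⟨u, hu, hue⟩ := cvec_surj J X L hst hfix
  have hB : mB u = u := by
    refine cvec_inj J X L hst (all64 hu).2.2.2.2.2.2.2.1 hu ?_
    rw [← b_cvec J X L hst hu, hue, ← hYb, a_e J X L hst]
  have hu0 : u ≠ 0 := by
    rintro rfl
    apply hst.ne
    have : L.y • e₀ = 0 := by rw [← hue]; simp [cvec, scal]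
    exact (smul_eq_zero_iff_eq _).1 this
  have hd : ((List.range 64).all fun u => Nat.beq u 0 || !Nat.beq (mB u) u ||
      [1, 2, 3].any fun s => Nat.beq (sc s u) 21) = true := by decide +kernel
  have h := List.all_eq_true.1 hd u (List.mem_range.2 hu)
  rw [hB] at h
  have hs : ∃ s, s < 4 ∧ s ≠ 0 ∧ sc s u = 21 := by
    simp only [Bool.or_eq_true, List.any_eq_true, Bool.not_eq_true'] at h
    rcases h with (h | h) | ⟨s, hs, h⟩
    · exact absurd (Nat.eq_of_beq_eq_true h) hu0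
    · simp at h
    · simp only [List.mem_cons, List.not_mem_nil, or_false] at hs
      exact ⟨s, by omega, by omega, Nat.eq_of_beq_eq_true h⟩
  obtain ⟨s, hs, hs0, hsu⟩ := hs
  obtain ⟨n, hn⟩ : ∃ n : ℕ, ∀ x : V, scal J X L s x = (J.ω ^ L.e) ^ n • x := by
    interval_cases s
    · exact absurd rfl hs0
    · exact ⟨0, fun x => by simp [scal]⟩
    · exact ⟨1, fun x => by simp [scal]⟩
    · exact ⟨2, fun x => by simp [scal, pow_two, mul_smul]⟩
  obtain ⟨g, hg⟩ : ∃ g, g = (J.ω ^ L.e) ^ n * L.y := ⟨_, rfl⟩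
  have hgs : ∀ x : V, g • x = scal J X L s (L.y • x) := fun x => by rw [hg, mul_smul, hn]
  have hπ : J.π g = X.n 2 := by
    rw [hg, map_mul, map_pow, map_pow, J.πω, one_pow, one_pow, one_mul, L.πy, X.n2]
  have g0 : g • e₀ = cvec J X L e₀ 21 := by rw [hgs, ← hue, ← cvec_sc J X L hst hs hu, hsu]
  have hainv : ∀ x : V, L.a⁻¹ • x = L.a • L.a • x := fun x => by
    rw [← mul_smul]
    congr 1
    exact inv_eq_of_mul_eq_one_right (by rw [← L.a3]; simp [pow_succ, mul_assoc])
  have g1 : g • bb J X L • e₀ = cvec J X L e₀ (mA (mA 21)) := by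
    rw [hgs, hYb', ← scal_smul, ← hgs, g0, hainv, a_cvec J X L hst (by norm_num),
      a_cvec J X L hst (all64 (by norm_num)).2.2.2.2.2.2.1]
  have g2 : g • bb J X L • bb J X L • e₀ = cvec J X L e₀ (mA 21) := by
    rw [hgs, hYb', ← scal_smul, ← hgs, g1, hainv,
      a_cvec J X L hst (by decide +kernel), a_cvec J X L hst (by decide +kernel),
      show mA (mA (mA (mA 21))) = mA 21 by decide +kernel]
  refine ⟨g, hπ, fun v hv => ?_⟩
  have l1 : mA 21 < 64 := by decide +kernel
  have l2 : mA (mA 21) < 64 := by decide +kernel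
  conv_lhs => unfold cvec
  rw [smul_add, smul_add, scal_smul, scal_smul, scal_smul, g0, g1, g2, mY,
    cvec_xor J X L hst (Nat.xor_lt_two_pow (n := 6) (scal_lt (by omega) (by norm_num)) (scal_lt (by omega) l2))
      (scal_lt (by omega) l1),
    cvec_xor J X L hst (scal_lt (by omega) (by norm_num)) (scal_lt (by omega) l2),
    cvec_sc J X L hst (by omega) (by norm_num), cvec_sc J X L hst (by omega) l2,
    cvec_sc J X L hst (by omega) l1]

/-- The three lifts with exact maps. -/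
theorem exists_gl : ∃ g : ℕ → C, ∀ k, k < 3 → J.π (g k) = X.n k ∧
    ∀ v, v < 64 → g k • cvec J X L e₀ v = cvec J X L e₀ (gMap k v) ∧ gMap k v < 64 := by
  obtain ⟨y, hy, hy'⟩ := exists_y J X L hst
  refine ⟨fun k => if k = 0 then L.a else if k = 1 then bb J X L else y, fun k hk => ?_⟩
  interval_cases k
  · exact ⟨by simp [L.πa, X.n0], fun v hv => ⟨by simpa [gMap] using a_cvec J X L hst hv,
      by simpa [gMap] using (all64 hv).2.2.2.2.2.2.1⟩⟩
  · exact ⟨by simp [π_bb J X L], fun v hv => ⟨by simpa [gMap] using b_cvec J X L hst hv,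
      by simpa [gMap] using (all64 hv).2.2.2.2.2.2.2.1⟩⟩
  · exact ⟨by simp [hy], fun v hv => ⟨by simpa [gMap] using hy' v hv,
      by simpa [gMap] using (all64 hv).2.2.2.2.2.2.2.2⟩⟩

omit hst in
theorem u_zero : X.u 0 = 1 := by
  have h := X.u_xor 0 (by norm_num) 0 (by norm_num)
  rw [Nat.xor_self] at h
  exact mul_eq_left.1 h.symm

omit hst in
theorem u_facts {i : ℕ} (hi : i < 16) (h0 : i ≠ 0) : X.u i * X.u i = 1 ∧ X.u i ≠ 1 :=
  ⟨X.F.sq0 _ (X.u_mem i hi), fun h => h0 (X.u_inj i hi 0 (by norm_num) (h.trans (u_zero X).symm))⟩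

omit hst in
theorem uP_facts {k i : ℕ} (hk : k < 4) (hi : i < 16) :
    M22D.uP k i < 16 ∧ (i ≠ 0 → M22D.uP k i ≠ 0) := by
  have h := List.all_eq_true.1 (List.all_eq_true.1 index_ok k (List.mem_range.2 hk)) i (List.mem_range.2 hi)
  simp only [Bool.and_eq_true, Nat.blt_eq, Bool.or_eq_true, Bool.not_eq_true'] at h
  refine ⟨h.1, fun h0 e => ?_⟩
  rcases h.2 with h' | h'
  · exact h0 (Nat.eq_of_beq_eq_true h')
  · rw [e] at h'; simp at h'

omit hst in
include L in
theorem rng_le {i : ℕ} (hi : i < 16) (h0 : i ≠ 0) {c : C} (hc : J.π c = X.u i) (h4 : c ^ 4 = 1) :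
    JMod.rng (V := V) c ≤ J.fix X.F.U0 ∧ Nat.card ↥(JMod.rng (V := V) c) = 16 := by
  obtain ⟨h2, h1⟩ := u_facts X hi h0
  obtain ⟨e, -, hcard⟩ := J.perp_fixElt L (c := c) (by rw [hc]; exact h2) (by rw [hc]; exact h1) h4
  refine ⟨?_, hcard.trans (by norm_num)⟩
  rw [e, ← J.perp_self ((J.fix_U0 L).1) (J.fix_U0 L).2]
  exact J.perp_anti (J.fix_le_fixElt (by rw [hc]; exact X.u_mem i hi) h4)

omit hst in
theorem mem_rng {c : C} {x : V} : x ∈ JMod.rng (V := V) c ↔ ∃ w : V, c • w + w = x := Iff.rfl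

omit hst in
theorem rng_move {k i : ℕ} (hk : k < 4) (hi : i < 16) {g c c' : C} (hg : J.π g = X.n k)
    (hc : J.π c = X.u i) (h4 : c ^ 4 = 1) (hc' : J.π c' = X.u (M22D.uP k i)) (h4' : c' ^ 4 = 1) {x : V}
    (hx : x ∈ JMod.rng (V := V) c) : g • x ∈ JMod.rng (V := V) c' := by
  obtain ⟨w, rfl⟩ := mem_rng.1 hx
  refine mem_rng.2 ⟨g • w, ?_⟩
  rw [J.lift_smul_eq (c := c') (c' := g * c * g⁻¹) (by simp [hc', hg, hc, X.nu k hk i hi]) h4' (J.conj_four h4),
    mul_smul, mul_smul, inv_smul_smul, smul_add]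

theorem exists_mask {i : ℕ} (hi : i < 16) (h0 : i ≠ 0) {c : C} (hc : J.π c = X.u i) (h4 : c ^ 4 = 1) :
    ∃ m ∈ lines21, ∀ v, v < 64 → (m.testBit v = true ↔ cvec J X L e₀ v ∈ JMod.rng (V := V) c) := by
  classical
  have := J.finiteV
  obtain ⟨hle, hcard⟩ := rng_le J X L hi h0 hc h4
  obtain ⟨W, hW⟩ : ∃ W, W = (Finset.range 64).filter fun v => cvec J X L e₀ v ∈ JMod.rng (V := V) c := ⟨_, rfl⟩
  have memW : ∀ v, v ∈ W ↔ v < 64 ∧ cvec J X L e₀ v ∈ JMod.rng (V := V) c := fun v => by simp [hW]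
  have cW : W.card = 16 := by
    let f : ↥W → ↥(JMod.rng (V := V) c) := fun v => ⟨cvec J X L e₀ v, ((memW v).1 v.2).2⟩
    have hf : Function.Bijective f := by
      constructor
      · intro v w h
        exact Subtype.ext (cvec_inj J X L hst ((memW v).1 v.2).1 ((memW w).1 w.2).1 (congrArg Subtype.val h))
      · rintro ⟨x, hx⟩
        obtain ⟨v, hv, rfl⟩ := cvec_surj J X L hst (hle hx)
        exact ⟨⟨v, (memW v).2 ⟨hv, hx⟩⟩, rfl⟩
    rw [← hcard, ← Nat.card_congr (Equiv.ofBijective f hf), Nat.card_eq_finsetCard]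
  have hsc : ∀ s, s < 4 → ∀ v ∈ W, sc s v ∈ W := by
    intro s hs v hv
    obtain ⟨hv, hx⟩ := (memW v).1 hv
    refine (memW _).2 ⟨scal_lt hs hv, ?_⟩
    obtain ⟨w, hw⟩ := mem_rng.1 hx
    exact mem_rng.2 ⟨scal J X L s w, by rw [cvec_sc J X L hst hs hv, scal_smul, ← scal_add, hw]⟩
  have hxor : ∀ v ∈ W, ∀ w ∈ W, v ^^^ w ∈ W := by
    intro v hv w hw
    obtain ⟨hv, hx⟩ := (memW v).1 hv
    obtain ⟨hw, hy⟩ := (memW w).1 hw
    exact (memW _).2 ⟨Nat.xor_lt_two_pow (n := 6) hv hw, by rw [cvec_xor J X L hst hv hw]; exact add_mem hx hy⟩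
  obtain ⟨x, hxW, hx0⟩ : ∃ x ∈ W, x ≠ 0 := Finset.exists_mem_ne (by omega) 0
  have hx64 := ((memW x).1 hxW).1
  obtain ⟨y, hyW, hy⟩ : ∃ y ∈ W, y ∉ ([0, x, sc 2 x, sc 3 x] : List ℕ).toFinset := by
    refine Finset.exists_mem_notMem_of_card_lt_card ?_
    have := List.toFinset_card_le ([0, x, sc 2 x, sc 3 x] : List ℕ)
    simp only [List.length_cons, List.length_nil] at this
    omega
  rw [List.mem_toFinset] at hy
  have hy64 := ((memW y).1 hyW).1
  have hy0 : y ≠ 0 := fun e => hy (by simp [e])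
  have hp : ∀ v, v < 64 → v ≠ 0 → pnt v ≠ 0 ∧ pnt (pnt v) = pnt v ∧ pnt v < 64 ∧
      ∀ w, w < 64 → w ∉ ([0, v, sc 2 v, sc 3 v] : List ℕ) → pnt w ≠ pnt v := by
    intro v hv hv0
    have h := List.all_eq_true.1 pnt_ok v (List.mem_range.2 hv)
    simp only [Bool.or_eq_true, Bool.and_eq_true, Bool.not_eq_true', Nat.blt_eq, List.all_eq_true,
      List.contains_iff_mem] at h
    rcases h with h | ⟨⟨⟨h1, h2⟩, h3⟩, h4⟩
    · exact absurd (Nat.eq_of_beq_eq_true h) hv0
    refine ⟨fun e => by rw [e] at h1; simp at h1, Nat.eq_of_beq_eq_true h2, h3, fun w hw hwn e => ?_⟩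
    rcases h4 w (List.mem_range.2 hw) with h5 | h5
    · exact hwn h5
    · rw [e] at h5; simp at h5
  obtain ⟨px0, pxp, px64, pxy⟩ := hp x hx64 hx0
  obtain ⟨py0, pyp, py64, -⟩ := hp y hy64 hy0
  have hpnt : ∀ v ∈ W, pnt v ∈ W := by
    intro v hv
    unfold pnt
    rcases min_choice v (min (sc 2 v) (sc 3 v)) with e | e
    · rw [e]; exact hv
    · rw [e]
      rcases min_choice (sc 2 v) (sc 3 v) with e' | e' <;> rw [e'] <;> exact hsc _ (by norm_num) v hv
  have h := List.all_eq_true.1 span_ok (pnt x) (List.mem_range.2 px64)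
  simp only [Bool.or_eq_true, List.all_eq_true, Bool.and_eq_true, decide_eq_true_iff, List.contains_iff_mem,
    Bool.not_eq_true'] at h
  rcases h with (h | h) | h
  · rw [pxp] at h; simp at h
  · exact absurd (Nat.eq_of_beq_eq_true h) px0
  rcases h (pnt y) (List.mem_range.2 py64) with ((h | h) | h) | ⟨hnd, hmem⟩
  · rw [pyp] at h; simp at h
  · exact absurd (Nat.eq_of_beq_eq_true h) py0
  · exact absurd (Nat.eq_of_beq_eq_true h).symm (pxy y hy64 hy)
  have hm4 : ∀ q ∈ W, ∀ p ∈ ([0, q, sc 2 q, sc 3 q] : List ℕ), p ∈ W := by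
    intro q hq p hp'
    simp only [List.mem_cons, List.not_mem_nil, or_false] at hp'
    rcases hp' with rfl | rfl | rfl | rfl
    · have := hsc 0 (by norm_num) q hq
      rwa [sc_zero ((memW q).1 hq).1] at this
    · exact hq
    · exact hsc 2 (by norm_num) q hq
    · exact hsc 3 (by norm_num) q hq
  have hsub : (spanL (pnt x) (pnt y)).toFinset ⊆ W := by
    intro v hv
    rw [List.mem_toFinset, spanL, List.mem_flatMap] at hv
    obtain ⟨p, hp', hv⟩ := hv
    obtain ⟨q, hq, rfl⟩ := List.mem_map.1 hv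
    exact hxor p (hm4 _ (hpnt x hxW) p hp') q (hm4 _ (hpnt y hyW) q hq)
  have heq : (spanL (pnt x) (pnt y)).toFinset = W := Finset.eq_of_subset_of_card_le hsub (by
    rw [cW, List.toFinset_card_of_nodup hnd]
    simp [spanL])
  refine ⟨_, hmem, fun v hv => ?_⟩
  rw [testBit_maskL, ← List.mem_toFinset, heq, memW]
  exact ⟨fun h => h.2, fun h => ⟨hv, h⟩⟩

/-- The image of a translation is the listed line. -/
theorem line_eq {i : ℕ} (hi : i < 16) (h0 : i ≠ 0) {c : C} (hc : J.π c = X.u i) (h4 : c ^ 4 = 1)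
    {v : ℕ} (hv : v < 64) : cvec J X L e₀ v ∈ JMod.rng (V := V) c ↔ inLine i v = true := by
  classical
  obtain ⟨g, hg⟩ := exists_gl J X L hst
  have hex : ∀ i, ∃ c : C, i < 16 → J.π c = X.u i ∧ c ^ 4 = 1 := fun i => by
    by_cases hi : i < 16
    · obtain ⟨c, hc⟩ := J.exists_two_lift (X.F.sq0 _ (X.u_mem i hi))
      exact ⟨c, fun _ => hc⟩
    · exact ⟨1, fun h => absurd h hi⟩
  choose cs hcs using hex
  obtain ⟨Q, hQ⟩ : ∃ Q : ℕ → ℕ → Prop, ∀ i v, Q i v ↔ cvec J X L e₀ v ∈ JMod.rng (V := V) (cs i) :=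
    ⟨_, fun _ _ => Iff.rfl⟩
  have step : ∀ k, k < 3 → ∀ j, j < 16 → ∀ w, w < 64 → Q j w → Q (M22D.uP k j) (gMap k w) := by
    intro k hk j hj w hw hQw
    rw [hQ] at hQw ⊢
    rw [← ((hg k hk).2 w hw).1]
    obtain ⟨hj', -⟩ := uP_facts (show k < 4 by omega) hj
    exact rng_move J X (by omega) hj (hg k hk).1 (hcs j hj).1 (hcs j hj).2 (hcs _ hj').1 (hcs _ hj').2 hQw
  have walk : ∀ l : List ℕ, (l.all fun k => Nat.blt k 3) = true → ∀ j, j < 16 → ∀ w, w < 64 → Q j w →
      Q (l.foldr M22D.uP j) (gW l w) ∧ l.foldr M22D.uP j < 16 ∧ gW l w < 64 := by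
    intro l
    induction l with
    | nil => exact fun _ j hj w hw h => ⟨h, hj, hw⟩
    | cons k l ih =>
      intro hl j hj w hw h
      simp only [List.all_cons, Bool.and_eq_true, Nat.blt_eq] at hl
      obtain ⟨h1, h2, h3⟩ := ih hl.2 j hj w hw h
      exact ⟨step k hl.1 _ h2 _ h3 h1, (uP_facts (show k < 4 by omega) h2).1, ((hg k hl.1).2 _ h3).2⟩
  obtain ⟨hw1, hw2⟩ := Bool.and_eq_true_iff.1 words_ok
  have base : ∀ r, (r = 1 ∨ r = 4) → ∀ w, w < 64 → (Q r w ↔ inLine r w = true) := by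
    intro r hr
    have hr' : r ∈ [1, 4] := by simpa using hr
    have hr16 : r < 16 := by omega
    obtain ⟨m, hm, hmb⟩ := exists_mask J X L hst hr16 (by omega) (hcs r hr16).1 (hcs r hr16).2
    have h := List.all_eq_true.1 (List.all_eq_true.1 stab_ok r hr') m hm
    simp only [Bool.or_eq_true, Bool.not_eq_true'] at h
    rcases h with h | h
    · intro w hw
      rw [hQ, ← hmb w hw, Nat.eq_of_beq_eq_true h]
      rfl
    · exfalso
      refine absurd ?_ (Bool.eq_false_iff.1 h)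
      refine List.all_eq_true.2 fun l hl => List.all_eq_true.2 fun w hw => ?_
      rw [List.mem_range] at hw
      have hl' := List.all_eq_true.1 (List.all_eq_true.1 hw1 r hr') l hl
      rw [Bool.and_eq_true] at hl'
      rcases Bool.eq_false_or_eq_true (m.testBit w) with hmw | hmw
      · obtain ⟨q, -, hlt⟩ := walk l hl'.2 r hr16 w hw ((hQ r w).2 ((hmb w hw).1 hmw))
        rw [Nat.eq_of_beq_eq_true hl'.1, hQ, ← hmb _ hlt] at q
        simp [hmw, q]
      · simp [hmw]
  have hp := List.all_eq_true.1 path_cover i (List.mem_range.2 hi)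
  simp only [Bool.or_eq_true, List.any_eq_true] at hp
  rcases hp with hp | ⟨e, he, hei⟩
  · exact absurd (Nat.eq_of_beq_eq_true hp) h0
  have hei := Nat.eq_of_beq_eq_true hei
  have hew := List.all_eq_true.1 hw2 e he
  simp only [Bool.and_eq_true, List.contains_iff_mem] at hew
  obtain ⟨⟨he1, he2⟩, he3⟩ := hew
  have he1' : e.1 = 1 ∨ e.1 = 4 := by simpa using he1
  obtain ⟨m, hm, hmb⟩ := exists_mask J X L hst hi h0 hc h4
  have hcx : ∀ x : V, x ∈ JMod.rng (V := V) c ↔ x ∈ JMod.rng (V := V) (cs i) := fun x => by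
    simp only [mem_rng, J.lift_smul_eq (c := c) (c' := cs i) (hc.trans (hcs i hi).1.symm) h4 (hcs i hi).2]
  have h := List.all_eq_true.1 (List.all_eq_true.1 path_ok e he) m hm
  simp only [Bool.or_eq_true, Bool.not_eq_true'] at h
  rcases h with h | h
  · rw [← hmb v hv, Nat.eq_of_beq_eq_true h, hei]
    rfl
  · exfalso
    refine absurd ?_ (Bool.eq_false_iff.1 h)
    refine List.all_eq_true.2 fun w hw => ?_
    rw [List.mem_range] at hw
    rcases Bool.eq_false_or_eq_true ((M22D.lineMasks.getD e.1 0).testBit w) with hmw | hmw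
    · obtain ⟨q, -, hlt⟩ := walk e.2.2 he3 e.1 (by omega) w hw ((base e.1 he1' w hw).2 hmw)
      rw [Nat.eq_of_beq_eq_true he2, hei, hQ, ← hcx, ← hmb _ hlt] at q
      simp [q]
    · show (!((M22D.lineMasks.getD e.1 0).testBit w) || m.testBit (gW e.2.2 w)) = true
      rw [hmw]; rfl

theorem act_point : ∀ k, k < 4 → ∀ c : C, J.π c = X.n k → ∀ v, v < 64 →
    ∃ v', v' < 64 ∧ c • cvec J X L e₀ v = cvec J X L e₀ v' ∧ pnt v' = pmap k v := by
  classical
  intro k hk c hc v hv
  have hfix : c • cvec J X L e₀ v ∈ J.fix X.F.U0 :=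
    J.fix_invariant (fun u hu => by rw [hc]; exact n_norm X hk u hu) (cvec_mem J X L hst v)
  rcases (by omega : k < 3 ∨ k = 3) with hk3 | rfl
  · obtain ⟨g, hg⟩ := exists_gl J X L hst
    obtain ⟨hgπ, hg'⟩ := hg k hk3
    obtain ⟨hgv, hlt⟩ := hg' v hv
    obtain ⟨j, hj⟩ := J.ker_act ((g k)⁻¹ * c) (by rw [map_mul, map_inv, hgπ, hc, inv_mul_cancel])
    have key : ∀ n, ∃ v', v' < 64 ∧ (J.ω ^ L.e) ^ n • cvec J X L e₀ (gMap k v) = cvec J X L e₀ v' ∧
        pnt v' = pnt (gMap k v) := by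
      intro n
      induction n with
      | zero => exact ⟨_, hlt, by simp, rfl⟩
      | succ n ih =>
        obtain ⟨v', h1, h2, h3⟩ := ih
        refine ⟨sc 2 v', (all64 h1).1, ?_, (all64 h1).2.1.trans h3⟩
        rw [pow_succ', mul_smul, h2, cvec_w J X L hst h1]
    obtain ⟨v', h1, h2, h3⟩ := key (L.e * j)
    refine ⟨v', h1, ?_, ?_⟩
    · rw [← h2, show c = g k * ((g k)⁻¹ * c) by group, mul_smul, hj, ← J.ωpow_comm, hgv, ← pow_mul]
      refine J.ωpow_congr ?_ _
      have he := L.e_ne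
      rw [← mul_assoc, Nat.mul_mod (L.e * L.e) j, Nat.mul_mod L.e L.e]
      rcases (by omega : L.e % 3 = 1 ∨ L.e % 3 = 2) with e | e <;> simp [e]
    · rw [h3]
      exact Nat.eq_of_beq_eq_true (List.all_eq_true.1
        (List.all_eq_true.1 pmap_ok k (List.mem_range.2 hk3)) v (List.mem_range.2 hv))
  · obtain ⟨v', hv', hv'e⟩ := cvec_surj J X L hst hfix
    refine ⟨v', hv', hv'e.symm, ?_⟩
    rcases eq_or_ne v 0 with rfl | hv0
    · have : v' = 0 := cvec_eq_zero J X L hst hv' (by rw [hv'e]; simp [cvec, scal])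
      subst this
      decide +kernel
    have hv'0 : v' ≠ 0 := by
      rintro rfl
      apply hv0
      have : c • cvec J X L e₀ v = 0 := by rw [← hv'e]; simp [cvec, scal]
      exact cvec_eq_zero J X L hst hv ((smul_eq_zero_iff_eq _).1 this)
    have h := List.all_eq_true.1 fourth_ok v (List.mem_range.2 hv)
    simp only [Bool.or_eq_true, List.all_eq_true] at h
    rcases h with h | h
    · exact absurd (Nat.eq_of_beq_eq_true h) hv0
    rcases h v' (List.mem_range.2 hv') with (h | h) | h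
    · exact absurd (Nat.eq_of_beq_eq_true h) hv'0
    · exact Nat.eq_of_beq_eq_true h
    exfalso
    rw [Bool.not_eq_true'] at h
    refine absurd ?_ (Bool.eq_false_iff.1 h)
    refine List.all_eq_true.2 fun i hi => ?_
    rw [List.mem_range] at hi
    rcases eq_or_ne i 0 with rfl | hi0
    · simp
    rcases Bool.eq_false_or_eq_true (inLine i v) with hl | hl
    · obtain ⟨hi', hi'0⟩ := uP_facts (show (3 : ℕ) < 4 by norm_num) hi
      obtain ⟨c₁, hc₁, h4₁⟩ := J.exists_two_lift (X.F.sq0 _ (X.u_mem i hi))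
      obtain ⟨c₂, hc₂, h4₂⟩ := J.exists_two_lift (X.F.sq0 _ (X.u_mem _ hi'))
      have hm := rng_move J X (show (3 : ℕ) < 4 by norm_num) hi hc hc₁ h4₁ hc₂ h4₂
        ((line_eq J X L hst hi hi0 hc₁ h4₁ hv).2 hl)
      rw [← hv'e, line_eq J X L hst hi' (hi'0 hi0) hc₂ h4₂ hv'] at hm
      simp [hm]
    · simp [hl]

end General

attribute [local instance] m22_finite

/-- The coordinates exist. -/
theorem exists_frame56 : FrameStmt.{u} := by
  intro G _ _ z P D X L
  obtain ⟨e₀, hst⟩ := exists_start D.toJMod X L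
  exact ⟨{
    vec := cvec D.toJMod X L e₀
    vec_mem := fun v _ => cvec_mem D.toJMod X L hst v
    vec_surj := fun x hx => cvec_surj D.toJMod X L hst hx
    vec_inj := fun v hv w hw h => cvec_inj D.toJMod X L hst hv hw h
    vec_xor := fun v hv w hw => cvec_xor D.toJMod X L hst hv hw
    vec_w := fun v hv => cvec_w D.toJMod X L hst hv
    act_gen := fun k hk c hc v hv => act_point D.toJMod X L hst k hk c hc v hv
    line := fun i hi h0 c hc h4 x => by
      rw [← mem_rng]
      constructor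
      · intro hx
        obtain ⟨v, hv, rfl⟩ := cvec_surj D.toJMod X L hst ((rng_le D.toJMod X L hi h0 hc h4).1 hx)
        exact ⟨v, hv, (line_eq D.toJMod X L hst hi h0 hc h4 hv).1 hx, rfl⟩
      · rintro ⟨v, hv, hl, rfl⟩
        exact (line_eq D.toJMod X L hst hi h0 hc h4 hv).2 hl }⟩

end Cfsg.Agent.Lib.J4Two56
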