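import Cfsg.Agent.Lib.J4Two56.M22Plus

/-!
# The facts on M22 of `M22Plus`, proved on the certified model
-/

set_option autoImplicit false
set_option maxRecDepth 100000

namespace Cfsg.Agent.Lib.J4Two56

open Cfsg.Agent.Lib.Compute Cfsg.Agent.Lib.Compute.Mathieu
open Cfsg.Agent.Lib.J4Type19 (MFacts MG mc c1 normOK exists_mFacts_u0 enc_mul norm_of ne_of_not_beq)
open Cfsg.Agent.Lib.Fusion (memCode memCode_iff)

namespace M22D

/-- Words for the 360 permutations of the complement. -/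
def cWords : List (List ℕ) :=
  parents.tail.foldl (fun acc p => acc ++ [p.1 :: acc.getD p.2 []]) [[]]

theorem cWords_ok : (Nat.beq cWords.length 360 && (cWords.all fun w => w.all fun k => Nat.blt k 4) &&
    decide (aPerms = cWords.map fun w => (List.range 16).map (uW w))) = true := by decide +kernel

theorem plane0_ok : (Nat.beq (plC 0).1 c1 && Nat.beq (uC 0) c1) = true := by decide +kernel

end M22D

open M22D

attribute [local irreducible] mc

namespace PlusAux

local notation "en" => m22Enc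

theorem enc_one' : en 1 = c1 := m22Enc_one

theorem lift_all {l : List (ℕ × ℕ)} {p : ℕ × ℕ} (h : l.all (pairCheck 8 24 m22Chain) = true) (hp : p ∈ l) :
    ∃ g : MG, en g = p.1 ∧ en g⁻¹ = p.2 :=
  m22_lift (List.all_eq_true.1 h p hp)

theorem gen_eq_top {n₁ n₂ c : MG} (hn1 : en n₁ = J4Type19.Data.gn1.1) (hn2 : en n₂ = J4Type19.Data.gn2.1)
    (hc : en c = J4Type19.Data.elc.1) : Subgroup.closure ({n₁, n₂, c} : Set MG) = ⊤ := by
  set K : Subgroup MG := Subgroup.closure {n₁, n₂, c} with hK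
  have hval : ∀ l : List ℕ, ∃ k ∈ K, en k = J4Type19.wval l := by
    intro l
    induction l with
    | nil => exact ⟨1, one_mem _, enc_one'⟩
    | cons j l ih =>
      obtain ⟨k, hk, hke⟩ := ih
      show ∃ k ∈ K, en k = mc _ (J4Type19.wval l)
      rcases j with _ | _ | _ | j
      · exact ⟨n₁ * k, mul_mem (Subgroup.subset_closure (by simp)) hk, by rw [enc_mul, hn1, hke]; rfl⟩
      · exact ⟨n₂ * k, mul_mem (Subgroup.subset_closure (by simp)) hk, by rw [enc_mul, hn2, hke]; rfl⟩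
      · exact ⟨c * k, mul_mem (Subgroup.subset_closure (by simp)) hk, by rw [enc_mul, hc, hke]; rfl⟩
      · exact ⟨1 * k, mul_mem (one_mem _) hk, by rw [enc_mul, enc_one', hke]; simp⟩
  refine Subgroup.map_injective (Subgroup.subtype_injective _) (le_antisymm (Subgroup.map_mono le_top) ?_)
  rw [← MonoidHom.range_eq_map, Subgroup.range_subtype]
  refine (Subgroup.closure_le _).2 ?_
  rintro g ⟨p, hp, hg⟩
  have hmem : p.1 ∈ J4Type19.Data.words.map J4Type19.wval := J4Type19.words_ok ▸ List.mem_map_of_mem hp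
  obtain ⟨l, -, hl⟩ := List.mem_map.1 hmem
  obtain ⟨k, hk, hke⟩ := hval l
  exact ⟨k, hk, ptCoding.inj ((hke.trans hl).trans hg.symm)⟩

/-- The permutation inducing the outer automorphism. -/
noncomputable def dPerm : Equiv.Perm Cfsg.GolayPt :=
  permOfCode 8 ptEquiv delta delta (Bool.and_eq_true_iff.1 delta_check).1

theorem enc_dPerm : ptCoding.enc dPerm = delta :=
  encP_permOfCode ptEquiv (Bool.and_eq_true_iff.1 delta_check).1
    (Nat.eq_of_beq_eq_true (Bool.and_eq_true_iff.1 delta_check).2)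

theorem enc_dPerm_inv : ptCoding.enc dPerm⁻¹ = delta :=
  encP_permOfCode_inv ptEquiv (Bool.and_eq_true_iff.1 delta_check).1
    (Nat.eq_of_beq_eq_true (Bool.and_eq_true_iff.1 delta_check).2)

theorem pt_mul (g h : Equiv.Perm Cfsg.GolayPt) :
    ptCoding.enc (g * h) = mc (ptCoding.enc g) (ptCoding.enc h) := by
  unfold mc
  rw [← permOps_mul]
  exact (ptCoding.mul_enc g h).symm

theorem enc_dconj (x : Equiv.Perm Cfsg.GolayPt) :
    ptCoding.enc (dPerm * x * dPerm⁻¹) = mc (mc delta (ptCoding.enc x)) delta := by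
  rw [pt_mul, pt_mul, enc_dPerm, enc_dPerm_inv]

theorem dconj_mem {x : Equiv.Perm Cfsg.GolayPt} (hx : x ∈ m22Group) : dPerm * x * dPerm⁻¹ ∈ m22Group := by
  have hle : m22Group ≤ m22Group.comap (MulAut.conj dPerm).toMonoidHom := by
    unfold m22Group genGroup
    refine (Subgroup.closure_le _).2 ?_
    rintro g ⟨p, hp, hg⟩
    obtain ⟨k, hk, -⟩ := lift_all delta_gens (List.mem_map_of_mem hp)
    have he : ptCoding.enc (dPerm * g * dPerm⁻¹) = ptCoding.enc (k : Equiv.Perm Cfsg.GolayPt) :=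
      (enc_dconj g).trans ((congrArg (fun t => mc (mc delta t) delta) hg).trans hk.symm)
    have hmem : dPerm * g * dPerm⁻¹ ∈ m22Group := by rw [ptCoding.inj he]; exact k.2
    exact Subgroup.mem_comap.2 hmem
  have h := hle hx
  rw [Subgroup.mem_comap] at h
  exact h

theorem exists_delta : ∃ a : MulAut MG, ∀ x : MG, en (a x) = mc (mc delta (en x)) delta := by
  let h : MG →* MG :=
    { toFun := fun x => ⟨dPerm * x.1 * dPerm⁻¹, dconj_mem x.2⟩
      map_one' := Subtype.ext (show dPerm * 1 * dPerm⁻¹ = 1 by group)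
      map_mul' := fun x y => Subtype.ext (show dPerm * (x.1 * y.1) * dPerm⁻¹ =
        dPerm * x.1 * dPerm⁻¹ * (dPerm * y.1 * dPerm⁻¹) by group) }
  have hinj : Function.Injective h := fun x y hxy =>
    Subtype.ext (mul_left_cancel (mul_right_cancel (congrArg Subtype.val hxy)))
  exact ⟨MulEquiv.ofBijective h (Finite.injective_iff_bijective.1 hinj), fun x => enc_dconj x.1⟩

theorem delta_twice (hdd : Nat.beq (mc delta delta) c1 = true) (x : MG) :
    mc (mc delta (mc (mc delta (en x)) delta)) delta = en x := by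
  have hsq : dPerm * dPerm = 1 := ptCoding.inj (by
    rw [pt_mul, enc_dPerm]
    exact (Nat.eq_of_beq_eq_true hdd).trans ptCoding.one_enc.symm)
  have hx : dPerm * (dPerm * (x : Equiv.Perm Cfsg.GolayPt) * dPerm⁻¹) * dPerm⁻¹ = x := by
    rw [inv_eq_of_mul_eq_one_right hsq, ← mul_assoc, ← mul_assoc, hsq, one_mul, mul_assoc, hsq, mul_one]
  unfold m22Enc
  rw [← enc_dconj, ← enc_dconj, hx]

theorem exists_plus_gen : Nonempty (Plus MG) := by
  classical
  obtain ⟨F0, hU0⟩ := exists_mFacts_u0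
  have hlit : ∀ p ∈ uLits ++ genLits ++ [M22D.t1, M22D.t60], ∃ g : MG, en g = p.1 ∧ en g⁻¹ = p.2 :=
    fun p hp => lift_all lits_ok hp
  -- the sixteen elements
  have hulen : uLits.length = 16 := rfl
  have huex : ∀ i, ∃ g : MG, i < 16 → en g = uC i ∧ en g⁻¹ = (uLits.getD i (0, 0)).2 := by
    intro i
    by_cases hi : i < 16
    · obtain ⟨g, h1, h2⟩ := hlit (uLits.getD i (0, 0)) (by
        rw [← List.getElem_eq_getD (h := hulen ▸ hi)]
        exact List.mem_append_left _ (List.mem_append_left _ (List.getElem_mem _)))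
      exact ⟨g, fun _ => ⟨h1, h2⟩⟩
    · exact ⟨1, fun h => absurd h hi⟩
  choose u hu using huex
  have hglen : genLits.length = 4 := rfl
  have hnex : ∀ k, ∃ g : MG, k < 4 → en g = (gL k).1 ∧ en g⁻¹ = (gL k).2 := by
    intro k
    by_cases hk : k < 4
    · obtain ⟨g, h1, h2⟩ := hlit (gL k) (by
        rw [gL, ← List.getElem_eq_getD (h := hglen ▸ hk)]
        exact List.mem_append_left _ (List.mem_append_right _ (List.getElem_mem _)))
      exact ⟨g, fun _ => ⟨h1, h2⟩⟩
    · exact ⟨1, fun h => absurd h hk⟩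
  choose n hn using hnex
  obtain ⟨t₁, ht1, ht1'⟩ := hlit M22D.t1 (List.mem_append_right _ (by simp))
  obtain ⟨t₆₀, ht60, ht60'⟩ := hlit M22D.t60 (List.mem_append_right _ (by simp))
  -- the set U0
  have hset := u_set_ok
  simp only [Bool.and_eq_true, List.all_eq_true, memCode_iff, decide_eq_true_eq] at hset
  obtain ⟨⟨hsub, hsup⟩, hnd⟩ := hset
  have hfst : ∀ i, i < 16 → uC i ∈ uLits.map Prod.fst := by
    intro i hi
    rw [← u_codes_eq]
    exact List.mem_map_of_mem (List.mem_range.2 hi)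
  have hu_mem : ∀ i, i < 16 → u i ∈ F0.U0 := fun i hi =>
    (hU0 _).2 (by rw [(hu i hi).1]; exact hsub _ (hfst i hi))
  have hu_surj : ∀ x ∈ F0.U0, ∃ i, i < 16 ∧ u i = x := by
    intro x hx
    have h := hsup _ ((hU0 x).1 hx)
    rw [← u_codes_eq] at h
    obtain ⟨i, hi, he⟩ := List.mem_map.1 h
    exact ⟨i, List.mem_range.1 hi, m22Enc_inj ((hu i (List.mem_range.1 hi)).1.trans he)⟩
  have hu_inj : ∀ i, i < 16 → ∀ j, j < 16 → u i = u j → i = j := by
    intro i hi j hj he
    have hc : uC i = uC j := by rw [← (hu i hi).1, ← (hu j hj).1, he]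
    rw [← u_codes_eq] at hnd
    exact List.inj_on_of_nodup_map hnd (List.mem_range.2 hi) (List.mem_range.2 hj) hc
  have hxor : ∀ i, i < 16 → ∀ j, j < 16 → u (i ^^^ j) = u i * u j := by
    intro i hi j hj
    have h := u_xor_ok
    simp only [List.all_eq_true, List.mem_range] at h
    apply m22Enc_inj
    rw [enc_mul, (hu i hi).1, (hu j hj).1, (hu _ (Nat.xor_lt_two_pow (n := 4) hi hj)).1]
    exact Nat.eq_of_beq_eq_true (h i hi j hj)
  -- the generators
  have hay := ay_ok
  simp only [Bool.and_eq_true] at hay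
  obtain ⟨⟨⟨⟨⟨⟨⟨⟨ha3, ha1⟩, hy4⟩, hyab⟩, hab⟩, hb1⟩, hba⟩, hba'⟩, hyb⟩ := hay
  have e0 := hn 0 (by norm_num)
  have e1 := hn 1 (by norm_num)
  have e2 := hn 2 (by norm_num)
  have hb : n 2 * n 0 * (n 2)⁻¹ = n 1 := m22Enc_inj (by
    rw [enc_mul, enc_mul, e2.1, e2.2, e0.1, e1.1]
    exact Nat.eq_of_beq_eq_true hyab)
  have hna := norm_ab
  rw [Bool.and_eq_true] at hna
  let F : MFacts MG := { F0 with
    a := n 0
    y := n 2
    a3 := by
      apply m22Enc_inj
      rw [pow_succ, pow_two, mul_assoc, enc_mul, enc_mul, e0.1, enc_one']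
      exact Nat.eq_of_beq_eq_true ha3
    a1 := ne_of_not_beq (by rw [e0.1, enc_one']; exact ha1)
    y4 := by
      apply m22Enc_inj
      rw [show n 2 ^ 4 = n 2 * n 2 * (n 2 * n 2) by simp [pow_succ, mul_assoc], enc_mul, enc_mul, e2.1, enc_one']
      exact Nat.eq_of_beq_eq_true hy4
    ab := by
      rw [hb]
      apply m22Enc_inj
      show en (n 0 * n 1) = en (n 1 * n 0)
      rw [enc_mul, enc_mul, e0.1, e1.1]
      exact Nat.eq_of_beq_eq_true hab
    b1 := by rw [hb]; exact ne_of_not_beq (by rw [e1.1, enc_one']; exact hb1)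
    ba := by rw [hb]; exact ne_of_not_beq (by rw [e1.1, e0.1]; exact hba)
    ba' := by rw [hb]; exact ne_of_not_beq (by rw [e1.1, e0.2]; exact hba')
    yb := by
      rw [hb]
      apply m22Enc_inj
      rw [enc_mul, enc_mul, e2.1, e2.2, e1.1, e0.2]
      exact Nat.eq_of_beq_eq_true hyb
    na := fun x hx => (hU0 _).2 (norm_of e0.1 e0.2 hna.1 ((hU0 _).1 hx))
    nb := by
      intro x hx
      rw [hb]
      exact (hU0 _).2 (norm_of e1.1 e1.2 hna.2 ((hU0 _).1 hx)) }
  have hFU : F.U0 = F0.U0 := rfl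
  have hnu_ok : ∀ k, k < 4 → ∀ i, i < 16 → n k * u i * (n k)⁻¹ = u (uP k i) ∧ uP k i < 16 := by
    intro k hk i hi
    have h := nu_ok
    simp only [List.all_eq_true, List.mem_range, Bool.and_eq_true] at h
    obtain ⟨h1, h2⟩ := h k hk i hi
    have hlt : uP k i < 16 := Nat.le_of_ble_eq_true h2
    refine ⟨m22Enc_inj ?_, hlt⟩
    rw [enc_mul, enc_mul, (hn k hk).1, (hn k hk).2, (hu i hi).1, (hu _ hlt).1]
    exact Nat.eq_of_beq_eq_true h1
  have hwu : ∀ w : List ℕ, (∀ k ∈ w, k < 4) → ∀ i, i < 16 →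
      wordVal n w * u i * (wordVal n w)⁻¹ = u (uW w i) ∧ uW w i < 16 := by
    intro w
    induction w with
    | nil => intro _ i hi; exact ⟨by simp [wordVal, uW], by simpa [uW] using hi⟩
    | cons k w ih =>
      intro hw i hi
      obtain ⟨h1, h2⟩ := ih (fun x hx => hw x (List.mem_cons_of_mem _ hx)) i hi
      obtain ⟨g1, g2⟩ := hnu_ok k (hw k List.mem_cons_self) _ h2
      refine ⟨?_, g2⟩
      show n k * wordVal n w * u i * (n k * wordVal n w)⁻¹ = u (uP k (uW w i))
      rw [← g1, ← h1]; group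
  have hwC : ∀ w : List ℕ, (∀ k ∈ w, k < 4) →
      en (wordVal n w) = (wC w).1 ∧ en (wordVal n w)⁻¹ = (wC w).2 := by
    intro w
    induction w with
    | nil => intro _; exact ⟨enc_one', by simp only [wordVal, List.foldr_nil, inv_one]; exact enc_one'⟩
    | cons k w ih =>
      intro hw
      obtain ⟨h1, h2⟩ := ih fun x hx => hw x (List.mem_cons_of_mem _ hx)
      obtain ⟨g1, g2⟩ := hn k (hw k List.mem_cons_self)
      constructor
      · show en (n k * wordVal n w) = _
        rw [enc_mul, g1, h1]; rfl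
      · show en (n k * wordVal n w)⁻¹ = _
        rw [mul_inv_rev, enc_mul, g2, h2]; rfl
  have huwC : ∀ i, i < 16 → ∀ w : List ℕ, (∀ k ∈ w, k < 4) →
      en (u i * wordVal n w) = (uwC i w).1 ∧ en (u i * wordVal n w)⁻¹ = (uwC i w).2 := by
    intro i hi w hw
    obtain ⟨h1, h2⟩ := hwC w hw
    refine ⟨by rw [enc_mul, (hu i hi).1, h1]; rfl, ?_⟩
    rw [mul_inv_rev, enc_mul, h2, inv_eq_of_mul_eq_one_right (F0.sq0 _ (hu_mem i hi)), (hu i hi).1]
    rfl
  have hnormU : ∀ g : MG, (∀ v ∈ F0.U0, g * v * g⁻¹ ∈ F0.U0) →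
      g ∈ Subgroup.normalizer (F0.U0 : Set MG) := by
    intro g hg
    have hmap : F0.U0.map (MulAut.conj g).toMonoidHom = F0.U0 := by
      refine Subgroup.eq_of_le_of_card_ge ?_ (by
        rw [Subgroup.card_map_of_injective (MulAut.conj g).injective])
      rintro _ ⟨v, hv, rfl⟩
      exact hg v hv
    exact Subgroup.mem_normalizer_iff_map_conj_eq.2 hmap
  -- conjugates of the plane
  have hconjU : ∀ (g : MG) (p : ℕ × ℕ), en g = p.1 → en g⁻¹ = p.2 →
      ∀ x, x ∈ conjSub g F0.U0 ↔ en x ∈ conjU p := by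
    intro g p h1 h2 x
    have hval : ∀ i, i < 16 → en (g * u i * g⁻¹) = mc (mc p.1 (uC i)) p.2 := by
      intro i hi
      rw [enc_mul, enc_mul, h1, h2, (hu i hi).1]
    constructor
    · rintro ⟨v, hv, rfl⟩
      obtain ⟨i, hi, rfl⟩ := hu_surj v hv
      exact List.mem_map.2 ⟨i, List.mem_range.2 hi, (hval i hi).symm⟩
    · intro hx
      obtain ⟨i, hi, he⟩ := List.mem_map.1 hx
      have hi' := List.mem_range.1 hi
      exact ⟨u i, hu_mem i hi', m22Enc_inj ((hval i hi').trans he)⟩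
  have hnormOK : ∀ (g t : MG) (p q : ℕ × ℕ), en g = p.1 → en g⁻¹ = p.2 → en t = q.1 → en t⁻¹ = q.2 →
      normOK p (conjU q) = true → ∀ v ∈ conjSub t F0.U0, g * v * g⁻¹ ∈ conjSub t F0.U0 :=
    fun g t p q g1 g2 t1' t2' hok v hv =>
      (hconjU t q t1' t2' _).2 (norm_of g1 g2 hok ((hconjU t q t1' t2' v).1 hv))
  -- plane conjugators
  obtain ⟨hPlen, hPall⟩ := Bool.and_eq_true_iff.1 planeList_ok
  have hPlen' : planeList.length = 77 := Nat.eq_of_beq_eq_true hPlen
  have hPe : ∀ j, j < 77 → (planeList.getD j (0, 0, [])).1 < 3 ∧ (planeList.getD j (0, 0, [])).2.1 < 16 ∧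
      ∀ k ∈ (planeList.getD j (0, 0, [])).2.2, k < 4 := by
    intro j hj
    have hm : planeList.getD j (0, 0, []) ∈ planeList := by
      rw [← List.getElem_eq_getD (h := hPlen' ▸ hj)]; exact List.getElem_mem _
    have h := List.all_eq_true.1 hPall _ hm
    simp only [Bool.and_eq_true, List.all_eq_true] at h
    exact ⟨Nat.le_of_ble_eq_true h.1.1, Nat.le_of_ble_eq_true h.1.2, fun k hk => Nat.le_of_ble_eq_true (h.2 k hk)⟩
  let pl : ℕ → MG := fun j => u (planeList.getD j (0, 0, [])).2.1 *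
    wordVal n (planeList.getD j (0, 0, [])).2.2 * [1, t₁, t₆₀].getD (planeList.getD j (0, 0, [])).1 1
  have hplC : ∀ j, j < 77 → en (pl j) = (plC j).1 ∧ en (pl j)⁻¹ = (plC j).2 := by
    intro j hj
    obtain ⟨hb3, hi, hw⟩ := hPe j hj
    obtain ⟨h1, h2⟩ := huwC _ hi _ hw
    have hbase : ∀ t, t < 3 → en ([1, t₁, t₆₀].getD t (1 : MG)) = (baseC t).1 ∧
        en ([1, t₁, t₆₀].getD t (1 : MG))⁻¹ = (baseC t).2 := by
      intro t ht
      rcases t with _ | _ | _ | t
      · exact ⟨enc_one', by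
          show en (1 : MG)⁻¹ = c1
          rw [inv_one]; exact enc_one'⟩
      · exact ⟨ht1, ht1'⟩
      · exact ⟨ht60, ht60'⟩
      · omega
    obtain ⟨b1', b2'⟩ := hbase _ hb3
    constructor
    · show en (u _ * wordVal n _ * _) = _
      rw [enc_mul, h1, b1']; rfl
    · show en (u _ * wordVal n _ * _)⁻¹ = _
      rw [mul_inv_rev, enc_mul, h2, b2']; rfl
  have hpl0 : pl 0 = 1 := m22Enc_inj (by
    rw [(hplC 0 (by norm_num)).1, enc_one']
    exact Nat.eq_of_beq_eq_true (Bool.and_eq_true_iff.1 plane0_ok).1)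
  have hcard16 : ∀ x : MG, Nat.card ↥(conjSub x F0.U0) = 16 := fun x =>
    (Subgroup.card_map_of_injective (MulAut.conj x).injective).trans F0.card0
  -- transitivity
  obtain ⟨n₁, hg1, hg1'⟩ := J4Type19.lift_lit (p := J4Type19.Data.gn1) (by simp [J4Type19.litList])
  obtain ⟨n₂, hg2, hg2'⟩ := J4Type19.lift_lit (p := J4Type19.Data.gn2) (by simp [J4Type19.litList])
  obtain ⟨c, hgc, hgc'⟩ := J4Type19.lift_lit (p := J4Type19.Data.elc) (by simp [J4Type19.litList])
  have hmove : ∀ g ∈ ({n₁, n₂, c} : Set MG), ∀ j, j < 77 →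
      ∃ k, k < 77 ∧ conjSub (g * pl j) F0.U0 = conjSub (pl k) F0.U0 := by
    intro g hg j hj
    obtain ⟨t, ht, h1, h2⟩ : ∃ t, t < 3 ∧ en g = (gen3.getD t (0, 0)).1 ∧ en g⁻¹ = (gen3.getD t (0, 0)).2 := by
      rcases hg with rfl | rfl | rfl
      · exact ⟨0, by norm_num, hg1, hg1'⟩
      · exact ⟨1, by norm_num, hg2, hg2'⟩
      · exact ⟨2, by norm_num, hgc, hgc'⟩
    have h := planeMoves_ok
    simp only [List.all_eq_true, List.mem_range, Bool.and_eq_true, memCode_iff] at h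
    obtain ⟨hk, hsub'⟩ := h t ht j hj
    have hk' := Nat.le_of_ble_eq_true hk
    refine ⟨_, hk', ?_⟩
    obtain ⟨p1, p2⟩ := hplC j hj
    obtain ⟨q1, q2⟩ := hplC _ hk'
    have hgp : en (g * pl j) = mc (gen3.getD t (0, 0)).1 (plC j).1 := by rw [enc_mul, h1, p1]
    have hgp' : en (g * pl j)⁻¹ = mc (plC j).2 (gen3.getD t (0, 0)).2 := by rw [mul_inv_rev, enc_mul, h2, p2]
    refine Subgroup.eq_of_le_of_card_ge (fun x hx => ?_) ?_
    · exact (hconjU _ (plC _) q1 q2 x).2 (hsub' _ ((hconjU (g * pl j) (_, _) hgp hgp' x).1 hx))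
    · exact le_of_eq ((hcard16 _).trans (hcard16 _).symm)
  have hcc : ∀ a b : MG, conjSub (a * b) F0.U0 = conjSub a (conjSub b F0.U0) := by
    intro a b
    rw [conjSub, conjSub, conjSub, Subgroup.map_map]
    congr 1
  have hplanes : ∀ x : MG, ∃ j, j < 77 ∧ conjSub x F0.U0 = conjSub (pl j) F0.U0 := by
    let M : Submonoid MG :=
      { carrier := {g | ∀ j, j < 77 → ∃ k, k < 77 ∧ conjSub (g * pl j) F0.U0 = conjSub (pl k) F0.U0}
        one_mem' := fun j hj => ⟨j, hj, by rw [one_mul]⟩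
        mul_mem' := fun {g h} hg hh j hj => by
          obtain ⟨k, hk, he⟩ := hh j hj
          obtain ⟨l, hl, he'⟩ := hg k hk
          refine ⟨l, hl, ?_⟩
          rw [mul_assoc, hcc g (h * pl j), he, ← hcc, he'] }
    intro x
    have hx : x ∈ (Subgroup.closure ({n₁, n₂, c} : Set MG)).toSubmonoid := by
      rw [gen_eq_top hg1 hg2 hgc]; trivial
    rw [Subgroup.closure_toSubmonoid_of_finite] at hx
    obtain ⟨k, hk, he⟩ := (Submonoid.closure_le.2 (fun g hg => hmove g hg) : _ ≤ M) hx 0 (by norm_num)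
    exact ⟨k, hk, by rwa [hpl0, mul_one] at he⟩
  have hplinj : ∀ i, i < 77 → ∀ j, j < 77 → conjSub (pl i) F0.U0 = conjSub (pl j) F0.U0 → i = j := by
    intro i hi j hj he
    have h := planes_nodup
    simp only [List.all_eq_true, List.mem_range, Bool.or_eq_true, List.any_eq_true] at h
    rcases h i hi j hj with h | ⟨x, hx, hxn⟩
    · exact Nat.eq_of_beq_eq_true h
    exfalso
    obtain ⟨p1, p2⟩ := hplC i hi
    obtain ⟨k, hk, hke⟩ := List.mem_map.1 hx
    have hk' := List.mem_range.1 hk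
    have hmem : pl i * u k * (pl i)⁻¹ ∈ conjSub (pl j) F0.U0 := he ▸ ⟨u k, hu_mem k hk', rfl⟩
    have hc := (hconjU _ _ (hplC j hj).1 (hplC j hj).2 _).1 hmem
    rw [enc_mul, enc_mul, p1, p2, (hu k hk').1, hke] at hc
    rw [memCode_iff.2 hc] at hxn
    exact Bool.noConfusion hxn
  have hdisj : ∀ j, j < 77 → j ≠ 0 → ∀ i, i < 16 → u i ∈ conjSub (pl j) F0.U0 → i = 0 := by
    intro j hj hj0 i hi hmem
    have h := planes_disjoint
    simp only [List.all_eq_true, List.mem_range, Bool.or_eq_true, Bool.not_eq_true'] at h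
    rcases h j hj with h | h
    · exact absurd (Nat.eq_of_beq_eq_true h) hj0
    rcases h i hi with h | h
    · exact Nat.eq_of_beq_eq_true h
    have hc := (hconjU _ _ (hplC j hj).1 (hplC j hj).2 _).1 hmem
    rw [(hu i hi).1, ← memCode_iff, h] at hc
    exact absurd hc Bool.false_ne_true
  have hindex : (Subgroup.normalizer (F0.U0 : Set MG)).index = 77 := by
    set N := Subgroup.normalizer (F0.U0 : Set MG) with hN
    have hiff : ∀ a b : MG, (QuotientGroup.mk a : MG ⧸ N) = QuotientGroup.mk b ↔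
        conjSub a F0.U0 = conjSub b F0.U0 := by
      intro a b
      have hm : a⁻¹ * b ∈ N ↔ conjSub (a⁻¹ * b) F0.U0 = F0.U0 := Subgroup.mem_normalizer_iff_map_conj_eq
      rw [QuotientGroup.eq, hm]
      constructor
      · intro h
        have h2 := congrArg (conjSub a) h
        rw [← hcc, mul_inv_cancel_left] at h2
        exact h2.symm
      · intro h
        rw [hcc, ← h, ← hcc, inv_mul_cancel]
        ext v; simp [conjSub]
    have hbij : Function.Bijective (fun j : Fin 77 => (QuotientGroup.mk (pl j.1) : MG ⧸ N)) := by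
      refine ⟨fun i j he => Fin.ext (hplinj _ i.2 _ j.2 ((hiff _ _).1 he)), fun q => ?_⟩
      obtain ⟨x, rfl⟩ := QuotientGroup.mk_surjective q
      obtain ⟨j, hj, he⟩ := hplanes x
      exact ⟨⟨j, hj⟩, (hiff _ _).2 he.symm⟩
    rw [Subgroup.index_eq_card, ← Nat.card_congr (Equiv.ofBijective _ hbij), Nat.card_eq_fintype_card,
      Fintype.card_fin]
  -- the normalizer
  have hcw := cWords_ok
  simp only [Bool.and_eq_true, List.all_eq_true, decide_eq_true_eq] at hcw
  obtain ⟨⟨hcl, hcall⟩, hperm⟩ := hcw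
  have hclen : cWords.length = 360 := Nat.eq_of_beq_eq_true hcl
  have hcnd : (cWords.map fun w => (List.range 16).map (uW w)).Nodup := by
    have h := of_decide_eq_true aPerms_nodup
    rw [hperm] at h
    exact List.Nodup.of_map _ h
  let cw : Fin 360 → List ℕ := fun k => cWords[k.1]'(by rw [hclen]; exact k.2)
  have hcw4 : ∀ k : Fin 360, ∀ x ∈ cw k, x < 4 := fun k x hx =>
    Nat.le_of_ble_eq_true (hcall _ (List.getElem_mem _) x hx)
  have hpermInj : ∀ k k' : Fin 360, (∀ i, i < 16 → uW (cw k) i = uW (cw k') i) → k = k' := by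
    intro k k' he
    apply Fin.ext
    refine (hcnd.getElem_inj_iff (i := k.1) (j := k'.1) (hi := by rw [List.length_map, hclen]; exact k.2)
      (hj := by rw [List.length_map, hclen]; exact k'.2)).1 ?_
    simp only [List.getElem_map]
    exact List.map_congr_left fun i hi => he i (List.mem_range.1 hi)
  let Φ : Fin 16 × Fin 360 → ↥(Subgroup.normalizer (F0.U0 : Set MG)) := fun e =>
    ⟨u e.1 * wordVal n (cw e.2), hnormU _ fun v hv => by
      obtain ⟨i, hi, rfl⟩ := hu_surj v hv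
      obtain ⟨h1, h2⟩ := hwu _ (hcw4 e.2) i hi
      rw [show u e.1 * wordVal n (cw e.2) * u i * (u e.1 * wordVal n (cw e.2))⁻¹ =
        u e.1 * (wordVal n (cw e.2) * u i * (wordVal n (cw e.2))⁻¹) * (u e.1)⁻¹ by group, h1]
      exact mul_mem (mul_mem (hu_mem _ e.1.2) (hu_mem _ h2)) (inv_mem (hu_mem _ e.1.2))⟩
  have hact : ∀ (e : Fin 16 × Fin 360) (i : ℕ), i < 16 →
      (Φ e : MG) * u i * (Φ e : MG)⁻¹ = u (uW (cw e.2) i) := by
    intro e i hi
    obtain ⟨h1, h2⟩ := hwu _ (hcw4 e.2) i hi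
    show u e.1 * wordVal n (cw e.2) * u i * (u e.1 * wordVal n (cw e.2))⁻¹ = _
    rw [show u e.1 * wordVal n (cw e.2) * u i * (u e.1 * wordVal n (cw e.2))⁻¹ =
      u e.1 * (wordVal n (cw e.2) * u i * (wordVal n (cw e.2))⁻¹) * (u e.1)⁻¹ by group, h1,
      J4Type19.comm_of_sq_all F0.sq0 (hu_mem _ e.1.2) (hu_mem _ h2), mul_inv_cancel_right]
  have hΦ : Function.Bijective Φ := by
    refine (Nat.bijective_iff_injective_and_card _).2 ⟨fun e e' he => ?_, ?_⟩
    · have hk : e.2 = e'.2 := hpermInj _ _ fun i hi =>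
        hu_inj _ (hwu _ (hcw4 _) i hi).2 _ (hwu _ (hcw4 _) i hi).2 (by rw [← hact e i hi, ← hact e' i hi, he])
      have hv : u e.1 * wordVal n (cw e.2) = u e'.1 * wordVal n (cw e'.2) := congrArg Subtype.val he
      rw [← hk] at hv
      exact Prod.ext (Fin.ext (hu_inj _ e.1.2 _ e'.1.2 (mul_right_cancel hv))) hk
    · have h := (Subgroup.normalizer (F0.U0 : Set MG)).card_mul_index
      rw [hindex, F0.card] at h
      rw [Nat.card_prod, Nat.card_eq_fintype_card (α := Fin 16), Nat.card_eq_fintype_card (α := Fin 360),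
        Fintype.card_fin, Fintype.card_fin]
      omega
  have hnorm_le : ∀ x : MG, (∀ v ∈ F0.U0, x * v * x⁻¹ ∈ F0.U0) →
      ∃ i, i < 16 ∧ ∃ w : List ℕ, (∀ k ∈ w, k < 4) ∧ x = u i * wordVal n w := by
    intro x hx
    obtain ⟨e, he⟩ := hΦ.2 ⟨x, hnormU x hx⟩
    exact ⟨e.1, e.1.2, cw e.2, hcw4 _, (congrArg Subtype.val he).symm⟩
  have hcent_le : ∀ x : MG, (∀ v ∈ F0.U0, x * v = v * x) → x ∈ F0.U0 := by
    intro x hx
    obtain ⟨e, he⟩ := hΦ.2 ⟨x, hnormU x fun v hv => by rw [hx v hv, mul_inv_cancel_right]; exact hv⟩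
    have hv : (Φ e : MG) = x := congrArg Subtype.val he
    have h0 : cw 0 = [] := rfl
    have hk : e.2 = 0 := hpermInj _ _ fun i hi => by
      rw [h0]
      refine hu_inj _ (hwu _ (hcw4 _) i hi).2 _ hi ?_
      rw [← hact e i hi, hv, hx _ (hu_mem i hi), mul_inv_cancel_right]
      rfl
    rw [← hv]
    show u e.1 * wordVal n (cw e.2) ∈ F0.U0
    rw [hk, h0]
    simpa [wordVal] using hu_mem _ e.1.2
  -- the words
  have hword1 : n 0 ∈ Subgroup.closure ((F0.U0 : Set MG) ∪ conjSub t₁ F0.U0) := by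
    obtain ⟨hfold, hlt⟩ := Bool.and_eq_true_iff.1 word1_ok
    set K := Subgroup.closure ((F0.U0 : Set MG) ∪ conjSub t₁ F0.U0) with hK
    have hitem : ∀ j, j < 32 → ∃ k ∈ K, en k = item1 j := by
      intro j hj
      by_cases h16 : j < 16
      · exact ⟨u j, Subgroup.subset_closure (Or.inl (hu_mem j h16)), by rw [(hu j h16).1, item1, if_pos h16]⟩
      · refine ⟨t₁ * u (j - 16) * t₁⁻¹,
          Subgroup.subset_closure (Or.inr ⟨u (j - 16), hu_mem _ (by omega), rfl⟩), ?_⟩
        rw [enc_mul, enc_mul, ht1, ht1', (hu _ (by omega)).1, item1, if_neg h16]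
    have hval : ∀ l : List ℕ, (∀ j ∈ l, j < 32) → ∃ k ∈ K, en k = l.foldr (fun j r => mc (item1 j) r) c1 := by
      intro l
      induction l with
      | nil => exact fun _ => ⟨1, one_mem _, enc_one'⟩
      | cons j l ih =>
        intro hl
        obtain ⟨k, hk, hke⟩ := ih fun i hi => hl i (List.mem_cons_of_mem _ hi)
        obtain ⟨g, hg, hge⟩ := hitem j (hl j List.mem_cons_self)
        exact ⟨g * k, mul_mem hg hk, by rw [enc_mul, hge, hke]; rfl⟩
    obtain ⟨k, hk, hke⟩ := hval word1 fun j hj => Nat.le_of_ble_eq_true (List.all_eq_true.1 hlt j hj)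
    rwa [← m22Enc_inj ((hke.trans (Nat.eq_of_beq_eq_true hfold)).trans e0.1.symm)]
  have hword60 : n 0 ∈ Subgroup.closure ((F0.U0 : Set MG) ∪
      ⋃ h ∈ [([] : List ℕ), [0], [1], [2], [3]], (conjSub (wordVal n h * t₆₀) F0.U0 : Set MG)) := by
    obtain ⟨hfold, hlt⟩ := Bool.and_eq_true_iff.1 word60_ok
    set K := Subgroup.closure ((F0.U0 : Set MG) ∪
      ⋃ h ∈ [([] : List ℕ), [0], [1], [2], [3]], (conjSub (wordVal n h * t₆₀) F0.U0 : Set MG)) with hK
    have hitem : ∀ p ∈ word60, ∃ k ∈ K, en k = item60 p := by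
      intro p hp
      have h := List.all_eq_true.1 hlt p hp
      rcases p with ⟨_ | k, i⟩
      · simp only [Bool.and_eq_true] at h
        have hi : i < 16 := Nat.le_of_ble_eq_true h.1
        exact ⟨u i, Subgroup.subset_closure (Or.inl (hu_mem i hi)), by rw [(hu i hi).1]; rfl⟩
      · simp only [Bool.and_eq_true] at h
        have hi : i < 16 := Nat.le_of_ble_eq_true h.1
        have hk : k < 5 := Nat.le_of_ble_eq_true h.2
        set w := [([] : List ℕ), [0], [1], [2], [3]].getD k [] with hw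
        have hwmem : w ∈ [([] : List ℕ), [0], [1], [2], [3]] := by
          rw [hw, ← List.getElem_eq_getD (h := hk)]; exact List.getElem_mem _
        have hw4 : ∀ x ∈ w, x < 4 := by
          intro x hx
          simp only [List.mem_cons, List.not_mem_nil, or_false] at hwmem
          rcases hwmem with h | h | h | h | h <;> rw [h] at hx <;> simp at hx <;> omega
        obtain ⟨w1, w2⟩ := hwC w hw4
        refine ⟨wordVal n w * t₆₀ * u i * (wordVal n w * t₆₀)⁻¹,
          Subgroup.subset_closure (Or.inr (Set.mem_iUnion₂.2 ⟨w, hwmem, u i, hu_mem i hi, rfl⟩)), ?_⟩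
        rw [mul_inv_rev, enc_mul, enc_mul, enc_mul, enc_mul, w1, w2, ht60, ht60', (hu i hi).1]
        rfl
    have hval : ∀ l : List (Option ℕ × ℕ), (∀ p ∈ l, p ∈ word60) →
        ∃ k ∈ K, en k = l.foldr (fun p r => mc (item60 p) r) c1 := by
      intro l
      induction l with
      | nil => exact fun _ => ⟨1, one_mem _, enc_one'⟩
      | cons j l ih =>
        intro hl
        obtain ⟨k, hk, hke⟩ := ih fun i hi => hl i (List.mem_cons_of_mem _ hi)
        obtain ⟨g, hg, hge⟩ := hitem j (hl j List.mem_cons_self)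
        exact ⟨g * k, mul_mem hg hk, by rw [enc_mul, hge, hke]; rfl⟩
    obtain ⟨k, hk, hke⟩ := hval word60 fun p hp => hp
    rwa [← m22Enc_inj ((hke.trans (Nat.eq_of_beq_eq_true hfold)).trans e0.1.symm)]
  have hstab : ∀ e ∈ stab60, ∀ v ∈ conjSub t₆₀ F0.U0,
      u e.1 * wordVal n e.2 * v * (u e.1 * wordVal n e.2)⁻¹ ∈ conjSub t₆₀ F0.U0 := by
    intro e he
    have h := List.all_eq_true.1 stab60_ok e he
    simp only [Bool.and_eq_true, List.all_eq_true] at h
    obtain ⟨⟨h1, h2⟩, h3⟩ := h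
    obtain ⟨g1, g2⟩ := huwC e.1 (Nat.le_of_ble_eq_true h1) e.2 fun k hk => Nat.le_of_ble_eq_true (h2 k hk)
    exact hnormOK _ _ _ M22D.t60 g1 g2 ht60 ht60' h3
  -- the two involutions
  have hsp := split_ok
  simp only [Bool.and_eq_true, List.all_eq_true] at hsp
  obtain ⟨⟨⟨⟨⟨⟨⟨⟨⟨sA, sB⟩, sAw⟩, sBw⟩, sAA⟩, sBB⟩, sAB⟩, sAn⟩, sBn⟩, -⟩ := hsp
  obtain ⟨a1', a2'⟩ := huwC _ (Nat.le_of_ble_eq_true sA) _ fun k hk => Nat.le_of_ble_eq_true (sAw k hk)
  obtain ⟨b1', b2'⟩ := huwC _ (Nat.le_of_ble_eq_true sB) _ fun k hk => Nat.le_of_ble_eq_true (sBw k hk)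
  set A := u splitA.1 * wordVal n splitA.2 with hA
  set B := u splitB.1 * wordVal n splitB.2 with hB
  -- the outer automorphism
  obtain ⟨δ, hδ⟩ := exists_delta
  have hd := delta_ok
  simp only [Bool.and_eq_true, List.all_eq_true, List.mem_range, Bool.not_eq_true',
    decide_eq_false_iff_not] at hd
  obtain ⟨⟨⟨⟨⟨dd, dn⟩, dA⟩, dB⟩, du⟩, dout⟩ := hd
  have hδu : ∀ i, i < 16 → δ (u i) = u (deltaPerm.getD i 0) ∧ deltaPerm.getD i 0 < 16 := by
    intro i hi
    obtain ⟨h1, h2⟩ := du i hi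
    refine ⟨m22Enc_inj ?_, Nat.le_of_ble_eq_true h2⟩
    rw [hδ, (hu i hi).1, (hu _ (Nat.le_of_ble_eq_true h2)).1]
    exact Nat.eq_of_beq_eq_true h1
  refine ⟨{ F := F, u := u, u_mem := hu_mem, u_surj := hu_surj, u_inj := hu_inj, u_xor := hxor, n := n
            n0 := rfl, n1 := hb.symm, n2 := rfl, nu := fun k hk i hi => (hnu_ok k hk i hi).1
            norm_le := hnorm_le, cent_le := hcent_le, index := hindex, t₁ := t₁, t₆₀ := t₆₀
            pl := pl, pl_eq := fun _ _ => rfl, disjoint := hdisj, planes := hplanes, planes_inj := hplinj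
            t₁_norm := ?_, word1 := hword1, word60 := hword60, stab := hstab
            A := A, B := B, A_eq := rfl, B_eq := rfl, AA := ?_, BB := ?_, AB4 := ?_, A_norm := ?_, B_norm := ?_
            δ := δ, δδ := ?_, δA := ?_, δB := ?_, δu := fun i hi => (hδu i hi).1, δ_norm := ?_, δ_out := ?_ }⟩
  · intro k hk
    have h := List.all_eq_true.1 t1_norm_ok (gL k) (by
      rcases k with _ | _ | k
      · simp
      · simp
      · omega)
    exact hnormOK _ _ _ _ (hn k (by omega)).1 (hn k (by omega)).2 ht1 ht1' h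
  · apply m22Enc_inj
    rw [enc_mul, a1', enc_one']
    exact Nat.eq_of_beq_eq_true sAA
  · apply m22Enc_inj
    rw [enc_mul, b1', enc_one']
    exact Nat.eq_of_beq_eq_true sBB
  · apply m22Enc_inj
    rw [show (A * B) ^ 4 = A * B * (A * B) * (A * B * (A * B)) by simp [pow_succ, mul_assoc],
      enc_mul (A * B * (A * B)), enc_mul (A * B), enc_mul A, a1', b1', enc_one']
    exact Nat.eq_of_beq_eq_true sAB.1
  · exact hnormOK _ _ _ _ a1' a2' ht1 ht1' sAn
  · exact hnormOK _ _ _ _ b1' b2' ht1 ht1' sBn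
  · refine MulEquiv.ext fun x => m22Enc_inj ?_
    rw [MulAut.mul_apply, hδ, hδ, MulAut.one_apply]
    exact delta_twice dd x
  · apply m22Enc_inj
    rw [hδ, a1']
    exact Nat.eq_of_beq_eq_true dA
  · apply m22Enc_inj
    rw [hδ, b1']
    exact Nat.eq_of_beq_eq_true dB
  · intro v hv
    refine (hconjU t₁ M22D.t1 ht1 ht1' _).2 ?_
    rw [hδ]
    have h := List.all_eq_true.1 dn _ ((hconjU t₁ M22D.t1 ht1 ht1' _).1 hv)
    exact memCode_iff.1 h
  · intro m hm
    apply dout
    have hmN : ∀ v ∈ F0.U0, m * v * m⁻¹ ∈ F0.U0 := by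
      intro v hv
      obtain ⟨i, hi, rfl⟩ := hu_surj v hv
      rw [← MulAut.conj_apply, hm, (hδu i hi).1]
      exact hu_mem _ (hδu i hi).2
    obtain ⟨e, he⟩ := hΦ.2 ⟨m, hnormU m hmN⟩
    rw [hperm]
    refine List.mem_map.2 ⟨cw e.2, List.getElem_mem _, ?_⟩
    refine List.ext_getElem (by rw [List.length_map, List.length_range]; rfl) fun i h1 h2 => ?_
    rw [List.length_map, List.length_range] at h1
    rw [List.getElem_map, List.getElem_range, List.getElem_eq_getD 0]
    refine hu_inj _ (hwu _ (hcw4 _) i h1).2 _ (hδu i h1).2 ?_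
    rw [← hact e i h1, ← (hδu i h1).1, ← hm, MulAut.conj_apply, show (Φ e : MG) = m from congrArg Subtype.val he]

end PlusAux

/-- Brick P: the facts on M22. -/
theorem exists_plus : Nonempty (Plus ↥Cfsg.Spor.M22) := by
  rw [Fusion.Mathieu.eq_m22]
  exact PlusAux.exists_plus_gen

end Cfsg.Agent.Lib.J4Two56
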