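import Cfsg.Agent.Lib.J4Two56.Stmts

/-!
# The zeros of a nondegenerate quadratic form on a space of order 4096
-/

set_option autoImplicit false

universe u

namespace Cfsg.Agent.Lib.J4Two56

open Finset

/-- The sign of an element of `ZMod 2`. -/
def quadSign (a : ZMod 2) : ℤ := if a = 0 then 1 else -1

theorem quadSign_add : ∀ a b : ZMod 2, quadSign (a + b) = quadSign a * quadSign b := by decide

theorem quadSign_mul_self : ∀ a : ZMod 2, quadSign a * quadSign a = 1 := by decide

/-- A nondegenerate form on a space of order 4096 has at most 2080 zeros. -/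
theorem quadBound : QuadBoundStmt.{u} := by
  intro V _ _ q β hV h2 hq hnd
  classical
  have := Fintype.ofFinite V
  rw [Nat.card_eq_fintype_card] at hV
  set S : ℤ := ∑ v, quadSign (q v) with hS
  have h0 : q 0 = 0 := by
    have h := hq 0 0
    rw [add_zero, map_zero, add_zero] at h
    generalize q 0 = a at h ⊢
    revert h; revert a; decide
  have hsym : ∀ u v, β u v = β v u := by
    intro u v
    have h1 := hq u v
    have h2 := hq v u
    rw [add_comm v u, h1, add_comm (q v) (q u)] at h2
    exact add_left_cancel h2
  -- the character sum of a nonzero vector vanishes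
  have hchar : ∀ w : V, w ≠ 0 → ∑ u, quadSign (β u w) = 0 := by
    intro w hw
    obtain ⟨a, ha⟩ : ∃ a, β a w = 1 := by
      by_contra hc
      push Not at hc
      refine hw (hnd w fun v => ?_)
      rw [hsym]
      have h := hc v
      generalize β v w = c at h ⊢
      revert h; revert c; decide
    have h1 : ∑ u, quadSign (β u w) = ∑ u, quadSign (β (u + a) w) :=
      (Equiv.sum_comp (Equiv.addRight a) fun u => quadSign (β u w)).symm
    have h2 : ∀ u, quadSign (β (u + a) w) = -quadSign (β u w) := fun u => by
      rw [map_add, AddMonoidHom.add_apply, ha, quadSign_add]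
      show quadSign (β u w) * (-1) = _
      ring
    rw [sum_congr rfl fun u _ => h2 u, sum_neg_distrib] at h1
    linarith
  have hSS : S * S = 4096 := by
    calc S * S = ∑ u, ∑ v, quadSign (q u) * quadSign (q v) := by rw [hS, sum_mul_sum]
      _ = ∑ u, ∑ w, quadSign (q u) * quadSign (q (u + w)) :=
          sum_congr rfl fun u _ => (Equiv.sum_comp (Equiv.addLeft u)
            fun v => quadSign (q u) * quadSign (q v)).symm
      _ = ∑ w, quadSign (q w) * ∑ u, quadSign (β u w) := by
          rw [sum_comm]
          refine sum_congr rfl fun w _ => ?_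
          rw [mul_sum]
          refine sum_congr rfl fun u _ => ?_
          rw [hq, quadSign_add, quadSign_add, ← mul_assoc, ← mul_assoc, quadSign_mul_self, one_mul]
      _ = quadSign (q 0) * ∑ u : V, quadSign (β u 0) :=
          sum_eq_single 0 (fun w _ hw => by rw [hchar w hw, mul_zero])
            (fun h => absurd (mem_univ _) h)
      _ = 4096 := by simp [h0, quadSign, hV]
  have hle : S ≤ 64 := by nlinarith [sq_nonneg (S - 64)]
  set Z := univ.filter (fun v : V => q v = 0) with hZ
  have hcount : S = 2 * (Z.card : ℤ) - 4096 := by
    rw [hS, ← sum_filter_add_sum_filter_not univ (fun v => q v = 0), ← hZ]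
    rw [sum_congr rfl fun v hv => (by rw [(mem_filter.1 hv).2]; rfl : quadSign (q v) = 1),
      sum_congr rfl fun v hv => (by simp [quadSign, (mem_filter.1 hv).2] : quadSign (q v) = -1)]
    have h := card_filter_add_card_filter_not (s := (univ : Finset V)) (fun v => q v = 0)
    rw [card_univ, hV, ← hZ] at h
    simp only [sum_const, nsmul_eq_mul, mul_one, mul_neg]
    omega
  rw [Nat.card_eq_fintype_card, Fintype.card_subtype, ← hZ]
  omega

end Cfsg.Agent.Lib.J4Two56
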