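import Cfsg.Agent.Lib.J4Two56.Stmts2
import Cfsg.Agent.Lib.J4Two56.QuadBound

/-!
# The planes meet the first plane outside the hyperoval, and carry all singular vectors
-/

set_option autoImplicit false

universe u

namespace Cfsg.Agent.Lib.J4Two56

open Cfsg Cfsg.Agent.Lib.J4Type19

attribute [local instance] m22_finite

namespace Pl41

/-- Entry of the list of planes. -/
def entry (j : ℕ) : ℕ × ℕ × List ℕ := M22D.planeList.getD j (0, 0, [])

/-- Extension of a span by one vector. -/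
def ext (S : List ℕ) (x : ℕ) : List ℕ := if S.any (Nat.beq x) then S else S ++ S.map fun y => y ^^^ x

/-- The orbit of a point under the stabiliser of the plane of the last kind, with its multiples. -/
def gens (v : ℕ) : List ℕ :=
  (M22D.stab60.map fun e => pW e.2 v) ++ M22D.stab60.map fun e => sc 2 (pW e.2 v)

theorem pt_ok : ((List.range 64).all fun v => Nat.blt (pnt v) 64 && Nat.blt (sc 2 v) 64 &&
    Nat.beq (sc 3 v) (sc 2 (sc 2 v)) && Nat.beq (sc 2 (sc 2 (sc 2 v))) v && (isHy v == isHy (pnt v)) &&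
    (List.range 4).all fun k => Nat.blt (pmap k v) 64 && Nat.beq (pmap k (pnt v)) (pmap k v)) = true := by
  decide +kernel

theorem entry_ok : ((List.range 77).all fun j => (Nat.beq j 0 || Nat.beq (entry j).1 1 || Nat.beq (entry j).1 2) &&
    Nat.blt (entry j).2.1 16 && ((entry j).2.2.all fun k => Nat.blt k 4) &&
    (!Nat.beq (entry j).1 2 || !isHy (pW (entry j).2.2 19))) = true := by
  decide +kernel

theorem entry_zero : entry 0 = (0, 0, []) := by decide +kernel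

theorem stab_ok : (M22D.stab60.all fun e => Nat.blt e.1 16 && e.2.all fun k => Nat.blt k 4) = true := by
  decide +kernel

theorem span_ok : ((List.range 64).all fun v => Nat.beq v 0 || Nat.beq (pnt v) 19 ||
    (List.range 64).all fun y => ((gens v).foldl ext [0]).any (Nat.beq y)) = true := by
  decide +kernel

theorem mult_ok : ((List.range 64).all fun v => Nat.ble
    ((List.range 77).filter fun j => Nat.beq (entry j).1 2 && Nat.beq (pW (entry j).2.2 19) (pnt v)).length 4) = true := by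
  decide +kernel

theorem hy_card : ((Finset.range 64).filter fun v => isHy v = true).card = 18 ∧
    ((Finset.range 64).filter fun v => v ≠ 0 ∧ isHy v = false).card = 45 ∧ isHy 0 = false ∧ pnt 19 = 19 := by
  decide +kernel

theorem any_beq {x : ℕ} {l : List ℕ} : l.any (Nat.beq x) = true ↔ x ∈ l := by
  rw [List.any_eq_true]
  exact ⟨fun ⟨y, hy, e⟩ => Nat.eq_of_beq_eq_true e ▸ hy, fun h => ⟨x, h, Nat.beq_refl x⟩⟩

theorem foldl_ext {P : ℕ → Prop} (hx : ∀ a b, P a → P b → P (a ^^^ b)) :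
    ∀ (l S : List ℕ), (∀ a ∈ l, P a) → (∀ a ∈ S, P a) → ∀ y ∈ l.foldl ext S, P y
  | [], _, _, hS, y, hy => hS y hy
  | x :: l, S, hl, hS, y, hy => by
    refine foldl_ext hx l (ext S x) (fun a ha => hl a (List.mem_cons_of_mem _ ha)) (fun a ha => ?_) y hy
    unfold ext at ha
    split at ha
    · exact hS a ha
    · rcases List.mem_append.1 ha with h | h
      · exact hS a h
      · obtain ⟨b, hb, rfl⟩ := List.mem_map.1 h
        exact hx _ _ (hS b hb) (hl x List.mem_cons_self)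

theorem pt_facts {v : ℕ} (hv : v < 64) : pnt v < 64 ∧ sc 2 v < 64 ∧ sc 3 v = sc 2 (sc 2 v) ∧
    sc 2 (sc 2 (sc 2 v)) = v ∧ isHy v = isHy (pnt v) ∧
    ∀ k, k < 4 → pmap k v < 64 ∧ pmap k (pnt v) = pmap k v := by
  have h := List.all_eq_true.1 pt_ok v (List.mem_range.2 hv)
  simp only [Bool.and_eq_true, List.all_eq_true, List.mem_range, Nat.blt_eq, beq_iff_eq] at h
  obtain ⟨⟨⟨⟨⟨h1, h2⟩, h3⟩, h4⟩, h5⟩, h6⟩ := h
  exact ⟨h1, h2, Nat.eq_of_beq_eq_true h3, Nat.eq_of_beq_eq_true h4, h5,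
    fun k hk => ⟨(h6 k hk).1, Nat.eq_of_beq_eq_true (h6 k hk).2⟩⟩

theorem pW_cons (k : ℕ) (w : List ℕ) (v : ℕ) : pW (k :: w) v = pmap k (pW w v) := rfl

theorem pW_lt {w : List ℕ} (hw : ∀ k ∈ w, k < 4) {v : ℕ} (hv : v < 64) : pW w v < 64 := by
  induction w with
  | nil => exact (pt_facts hv).1
  | cons k w ih =>
    rw [pW_cons]
    exact ((pt_facts (ih fun a ha => hw a (List.mem_cons_of_mem _ ha))).2.2.2.2.2 k (hw k List.mem_cons_self)).1

theorem entry_facts {j : ℕ} (hj : j < 77) : (j = 0 ∨ (entry j).1 = 1 ∨ (entry j).1 = 2) ∧ (entry j).2.1 < 16 ∧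
    (∀ k ∈ (entry j).2.2, k < 4) ∧ ((entry j).1 = 2 → isHy (pW (entry j).2.2 19) = false) := by
  have h := List.all_eq_true.1 entry_ok j (List.mem_range.2 hj)
  simp only [Bool.and_eq_true, Bool.or_eq_true, List.all_eq_true, Nat.blt_eq, Bool.not_eq_eq_eq_not, Bool.not_true] at h
  obtain ⟨⟨⟨h1, h2⟩, h3⟩, h4⟩ := h
  refine ⟨?_, h2, h3, fun h2' => ?_⟩
  · rcases h1 with (h | h) | h
    exacts [Or.inl (Nat.eq_of_beq_eq_true h), Or.inr (Or.inl (Nat.eq_of_beq_eq_true h)),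
      Or.inr (Or.inr (Nat.eq_of_beq_eq_true h))]
  · rcases h4 with h | h
    · rw [h2'] at h; exact absurd h (by decide)
    · exact h

theorem conjSub_mul {M : Type*} [Group M] (x y : M) (U : Subgroup M) :
    conjSub (x * y) U = conjSub x (conjSub y U) := by
  rw [conjSub, conjSub, conjSub, Subgroup.map_map]
  congr 1
  ext v
  simp [mul_assoc]

theorem conjSub_one {M : Type*} [Group M] (U : Subgroup M) : conjSub 1 U = U := by
  ext v
  rw [conjSub, Subgroup.mem_map]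
  constructor
  · rintro ⟨y, hy, rfl⟩; simpa using hy
  · exact fun hv => ⟨v, hv, by simp⟩

variable {G : Type u} [Group G] [Finite G] {z : G} {P : Subgroup G} {D : HData z P} {X : Plus M22t}
  {L : Lifts D.toJMod X.F}

theorem u_zero (X : Plus M22t) : X.u 0 = 1 := by
  have h := X.u_xor 0 (by omega) 0 (by omega)
  rw [Nat.xor_self] at h
  exact mul_eq_left.1 h.symm

theorem pl_zero (X : Plus M22t) : conjSub (X.pl 0) X.F.U0 = X.F.U0 := by
  have h : X.pl 0 = 1 := by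
    rw [X.pl_eq 0 (by omega), show M22D.planeList.getD 0 (0, 0, []) = (0, 0, []) from entry_zero, u_zero]
    simp [wordVal]
  rw [h, conjSub_one]

theorem ωpow_mem {I : AddSubgroup (cV z)} (hI : ∀ x ∈ I, D.toJMod.ω • x ∈ I) (n : ℕ) {x : cV z} (hx : x ∈ I) :
    D.toJMod.ω ^ n • x ∈ I := by
  induction n with
  | zero => simpa using hx
  | succ n ih => rw [pow_succ', mul_smul]; exact hI _ ih

theorem fix_conj {x : M22t} {g : ↥(cC z P)} (hg : D.toJMod.π g = x) (U : Subgroup M22t) :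
    D.toJMod.fix (conjSub x U) = moveSub g (D.toJMod.fix U) := by
  ext v
  rw [mem_moveSub]
  constructor
  · intro hv
    refine ⟨g⁻¹ • v, D.toJMod.mem_fix_smul (U := conjSub x U) (fun y hy => ?_) hv, smul_inv_smul g v⟩
    rw [map_inv, inv_inv, hg]
    exact ⟨y, hy, rfl⟩
  · rintro ⟨w, hw, rfl⟩
    refine D.toJMod.mem_fix_smul (U := U) ?_ hw
    rintro _ ⟨y, hy, rfl⟩
    simpa [hg, mul_assoc] using hy

variable (f : Frame56 D X L)
include f

theorem vec_zero : f.vec 0 = 0 := by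
  have h := f.vec_xor 0 (by omega) 0 (by omega)
  rw [Nat.xor_self] at h
  exact left_eq_add.1 h

theorem vec_ne {v : ℕ} (hv : v < 64) (h0 : v ≠ 0) : f.vec v ≠ 0 := fun h =>
  h0 (f.vec_inj v hv 0 (by omega) (h.trans (vec_zero f).symm))

theorem mem_sc {I : AddSubgroup (cV z)} (hI : ∀ x ∈ I, D.toJMod.ω • x ∈ I) {v : ℕ} (hv : v < 64)
    (h : f.vec v ∈ I) : f.vec (sc 2 v) ∈ I := f.vec_w v hv ▸ ωpow_mem hI _ h

theorem mem_pnt {I : AddSubgroup (cV z)} (hI : ∀ x ∈ I, D.toJMod.ω • x ∈ I) {v : ℕ} (hv : v < 64)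
    (h : f.vec v ∈ I) : f.vec (pnt v) ∈ I := by
  have h2 := mem_sc f hI hv h
  have h3 : f.vec (sc 3 v) ∈ I := (pt_facts hv).2.2.1 ▸ mem_sc f hI (pt_facts hv).2.1 h2
  rcases (by unfold pnt; omega : pnt v = v ∨ pnt v = sc 2 v ∨ pnt v = sc 3 v) with e | e | e <;>
    rw [e] <;> assumption

/-- Lifts of words permute the coded vectors as the point maps do. -/
theorem word_lift : ∀ w : List ℕ, (∀ k ∈ w, k < 4) → ∃ c : ↥(cC z P), D.toJMod.π c = wordVal X.n w ∧
    ∀ v, v < 64 → ∃ v', v' < 64 ∧ c • f.vec v = f.vec v' ∧ pnt v' = pW w v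
  | [], _ => ⟨1, map_one _, fun v hv => ⟨v, hv, one_smul _ _, rfl⟩⟩
  | k :: w, hw => by
    obtain ⟨c, hc, hcv⟩ := word_lift w fun a ha => hw a (List.mem_cons_of_mem _ ha)
    obtain ⟨g, hg⟩ := D.toJMod.surj (X.n k)
    refine ⟨g * c, by rw [map_mul, hg, hc]; rfl, fun v hv => ?_⟩
    obtain ⟨v', hv', h1, h2⟩ := hcv v hv
    obtain ⟨v'', hv'', h3, h4⟩ := f.act_gen k (hw k List.mem_cons_self) g hg v' hv'
    refine ⟨v'', hv'', by rw [mul_smul, h1, h3], ?_⟩
    rw [h4, pW_cons, ← h2, ((pt_facts hv').2.2.2.2.2 k (hw k List.mem_cons_self)).2]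

theorem uw_lift {i : ℕ} (hi : i < 16) {w : List ℕ} (hw : ∀ k ∈ w, k < 4) :
    ∃ c : ↥(cC z P), D.toJMod.π c = X.u i * wordVal X.n w ∧
      (∀ v, v < 64 → ∃ v', v' < 64 ∧ c • f.vec v = f.vec v' ∧ pnt v' = pW w v) ∧
      moveSub c (D.toJMod.fix X.F.U0) = D.toJMod.fix X.F.U0 := by
  obtain ⟨c, hc, hcv⟩ := word_lift f w hw
  obtain ⟨d, hd, hd4⟩ := D.toJMod.exists_two_lift (X.F.sq0 _ (X.u_mem i hi))
  have hv : ∀ v, v < 64 → ∃ v', v' < 64 ∧ (d * c) • f.vec v = f.vec v' ∧ pnt v' = pW w v := fun v hv => by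
    obtain ⟨v', hv', h1, h2⟩ := hcv v hv
    exact ⟨v', hv', by rw [mul_smul, h1, f.vec_mem v' hv' d (hd ▸ X.u_mem i hi) hd4], h2⟩
  refine ⟨d * c, by rw [map_mul, hd, hc], hv, D.toJMod.moveSub_eq_of fun x hx => ?_⟩
  obtain ⟨v, hv64, rfl⟩ := f.vec_surj x hx
  obtain ⟨v', hv', h, -⟩ := hv v hv64
  exact h ▸ f.vec_mem v' hv'

/-- The subgroups listed cannot all fix the vectors of the first plane. -/
theorem no_common {W : Set M22t} (ha : X.F.a ∈ Subgroup.closure W)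
    (hW : ∀ x ∈ W, ∃ U : Subgroup M22t, x ∈ U ∧ (∀ y ∈ U, y * y = 1) ∧
      D.toJMod.fix X.F.U0 ≤ D.toJMod.fix U) : False := by
  set J := D.toJMod with hJdef
  set S := J.fix X.F.U0 with hS
  let K : Subgroup M22t :=
    { carrier := {x | ∀ c, J.π c = x → ∃ j : ℕ, ∀ v ∈ S, c • v = J.ω ^ j • v}
      one_mem' := fun c hc => (J.ker_act c hc).imp fun j hj v _ => hj v
      mul_mem' := by
        intro x y hx hy c hc
        obtain ⟨d, hd⟩ := J.surj y
        obtain ⟨i, hi⟩ := hx (c * d⁻¹) (by rw [map_mul, map_inv, hc, hd, mul_inv_cancel_right])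
        obtain ⟨j, hj⟩ := hy d hd
        refine ⟨j + i, fun v hv => ?_⟩
        rw [← inv_mul_cancel_right c d, mul_smul, hj v hv, ← J.ωpow_comm, hi v hv, J.ωpow_add]
      inv_mem' := by
        intro x hx c hc
        obtain ⟨j, hj⟩ := hx c⁻¹ (by rw [map_inv, hc, inv_inv])
        refine ⟨2 * j, fun v hv => ?_⟩
        have h1 : v = J.ω ^ j • c • v := by
          rw [J.ωpow_comm, ← hj v hv, smul_inv_smul]
        conv_rhs => rw [h1, J.ωpow_add, J.ωpow_congr (m := 0) (by omega), pow_zero, one_smul] }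
  have hK : Subgroup.closure W ≤ K := by
    refine (Subgroup.closure_le _).2 fun x hx => ?_
    obtain ⟨U, hxU, hsq, hle⟩ := hW x hx
    intro c hc
    obtain ⟨d, hd, hd4⟩ := J.exists_two_lift (hsq x hxU)
    obtain ⟨j, hj⟩ := J.ker_act (d⁻¹ * c) (by rw [map_mul, map_inv, hd, hc, inv_mul_cancel])
    refine ⟨j, fun v hv => ?_⟩
    rw [← mul_inv_cancel_left d c, mul_smul, hj, ← J.ωpow_comm, hle hv d (hd ▸ hxU) hd4]
  obtain ⟨j, hj⟩ := hK ha L.a L.πa
  have hy : ∀ v ∈ S, L.y • v ∈ S := fun v hv => J.fix_invariant (fun x hx => by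
    obtain ⟨i, hi, rfl⟩ := X.u_surj x hx
    rw [L.πy, ← X.n2, X.nu 2 (by omega) i hi]
    exact X.u_mem _ (by
      have := List.all_eq_true.1 (List.all_eq_true.1 M22D.nu_ok 2 (List.mem_range.2 (by omega))) i
        (List.mem_range.2 hi)
      simp only [Bool.and_eq_true, Nat.blt_eq] at this
      exact this.2)) hv
  have hb : ∀ v ∈ S, (L.y * L.a * L.y⁻¹) • v = J.ω ^ j • v := fun v hv => by
    rw [mul_smul, mul_smul, hj _ (J.inv_invariant hy v hv), ← J.ωpow_comm, smul_inv_smul]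
  have h1 : f.vec 1 ∈ S := f.vec_mem 1 (by omega)
  obtain ⟨b, hbdef⟩ : ∃ b, b = L.y * L.a * L.y⁻¹ := ⟨_, rfl⟩
  rw [← hbdef] at hb
  have hc : (L.a * b) • f.vec 1 = (J.ω ^ L.e * (b * L.a)) • f.vec 1 := by rw [hbdef, L.comm]
  rw [mul_smul, mul_smul, mul_smul, hb _ h1, ← J.ωpow_comm, hj _ h1, ← J.ωpow_comm j b, hb _ h1, J.ωpow_add,
    J.ωpow_add] at hc
  refine vec_ne f (v := 1) (by omega) (by omega) (J.ωfix _ ?_)
  have hw : J.ω ^ L.e • f.vec 1 = f.vec 1 := by
    have := congrArg (fun w => J.ω ^ (2 * (j + j)) • w) hc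
    simp only [J.ωpow_add] at this
    rw [J.ωpow_congr (n := 2 * (j + j) + (j + j)) (m := 0) (by omega), pow_zero, one_smul,
      J.ωpow_congr (n := 2 * (j + j) + (L.e + (j + j))) (m := L.e) (by omega)] at this
    exact this.symm
  have he := L.e_ne
  rcases (by omega : L.e % 3 = 1 ∨ L.e % 3 = 2) with e | e
  · rw [J.ωpow_congr (m := 1) e, pow_one] at hw; exact hw
  · rw [J.ωpow_congr (m := 2) e, pow_two, mul_smul] at hw
    conv_lhs => rw [← hw]
    exact J.ω3_smul _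

/-- The plane of the first kind meets the first plane in zero. -/
theorem inf_one {v : cV z} (hv : v ∈ D.toJMod.fix X.F.U0) (hv' : v ∈ D.toJMod.fix (conjSub X.t₁ X.F.U0)) :
    v = 0 := by
  set J := D.toJMod
  set U := conjSub X.t₁ X.F.U0
  by_contra h0
  have := J.finiteV
  obtain ⟨e, he1, he⟩ := J.card_six L (S := J.fix X.F.U0 ⊓ J.fix U)
    (fun w hw => ⟨J.ω_mem_fix hw.1, J.ω_mem_fix hw.2⟩)
    (fun w hw => ⟨J.fix_invariant (fun x hx => by rw [L.πa]; exact X.F.na x hx) hw.1,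
      J.fix_invariant (fun x hx => by rw [L.πa, ← X.n0]; exact X.t₁_norm 0 (by omega) x hx) hw.2⟩)
    (fun w hw => ⟨J.fix_invariant (fun x hx => by
        rw [map_mul, map_mul, map_inv, L.πa, L.πy]; exact X.F.nb x hx) hw.1,
      J.fix_invariant (fun x hx => by
        rw [map_mul, map_mul, map_inv, L.πa, L.πy, ← X.n1]; exact X.t₁_norm 1 (by omega) x hx) hw.2⟩)
    (fun h => h0 (by
      have : v ∈ J.fix X.F.U0 ⊓ J.fix U := ⟨hv, hv'⟩
      simpa [h] using this))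
  have heq : J.fix X.F.U0 ⊓ J.fix U = J.fix X.F.U0 := J.eq_of_card inf_le_left (by
    rw [he, (J.fix_U0 L).1]; exact Nat.pow_le_pow_right (by norm_num) (by omega))
  refine no_common f X.word1 fun x hx => ?_
  rcases hx with hx | hx
  · exact ⟨X.F.U0, hx, X.F.sq0, le_rfl⟩
  · refine ⟨U, hx, ?_, inf_eq_left.1 heq⟩
    rintro _ ⟨y, hy, rfl⟩
    rw [← map_mul, X.F.sq0 y hy, map_one]

/-- The plane of the last kind meets the first plane in the point 19 at most. -/
theorem inf_sixty {v : ℕ} (hv : v < 64) (h : f.vec v ∈ D.toJMod.fix (conjSub X.t₆₀ X.F.U0)) :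
    v = 0 ∨ pnt v = 19 := by
  set J := D.toJMod
  set U := conjSub X.t₆₀ X.F.U0 with hU
  by_contra hne
  push Not at hne
  obtain ⟨I, hI⟩ : ∃ I, I = J.fix X.F.U0 ⊓ J.fix U := ⟨_, rfl⟩
  have hω : ∀ x ∈ I, J.ω • x ∈ I := fun x hx => by
    rw [hI] at hx ⊢; exact ⟨J.ω_mem_fix hx.1, J.ω_mem_fix hx.2⟩
  have hgen : ∀ y ∈ gens v, y < 64 ∧ f.vec y ∈ I := by
    have key : ∀ e ∈ M22D.stab60, pW e.2 v < 64 ∧ f.vec (pW e.2 v) ∈ I := by
      intro e he
      have hs := List.all_eq_true.1 stab_ok e he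
      simp only [Bool.and_eq_true, Nat.blt_eq, List.all_eq_true] at hs
      obtain ⟨c, hc, hcv, hcS⟩ := uw_lift f hs.1 hs.2
      obtain ⟨v', hv', h1, h2⟩ := hcv v hv
      refine ⟨pW_lt hs.2 hv, h2 ▸ mem_pnt f hω hv' ?_⟩
      rw [← h1, hI]
      exact ⟨h1 ▸ f.vec_mem v' hv', J.fix_invariant (fun x hx => by rw [hc]; exact X.stab e he x hx) h⟩
    intro y hy
    rcases List.mem_append.1 hy with hy | hy <;> obtain ⟨e, he, rfl⟩ := List.mem_map.1 hy
    · exact key e he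
    · exact ⟨(pt_facts (key e he).1).2.1, mem_sc f hω (key e he).1 (key e he).2⟩
  have hall : J.fix X.F.U0 ≤ J.fix U := by
    intro x hx
    obtain ⟨y, hy, rfl⟩ := f.vec_surj x hx
    have hs := List.all_eq_true.1 span_ok v (List.mem_range.2 hv)
    simp only [Bool.or_eq_true, List.all_eq_true, List.mem_range, any_beq] at hs
    rcases hs with (h' | h') | h'
    · exact absurd (Nat.eq_of_beq_eq_true h') hne.1
    · exact absurd (Nat.eq_of_beq_eq_true h') hne.2
    · have := foldl_ext (P := fun a => a < 64 ∧ f.vec a ∈ I) (fun a b ha hb =>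
        ⟨Nat.xor_lt_two_pow (n := 6) ha.1 hb.1, by rw [f.vec_xor a ha.1 b hb.1]; exact add_mem ha.2 hb.2⟩)
        (gens v) [0] hgen (fun a ha => by
          rw [List.mem_singleton] at ha
          exact ha ▸ ⟨by omega, (vec_zero f).symm ▸ zero_mem I⟩) y (h' y hy)
      exact (hI ▸ this.2 : f.vec y ∈ J.fix X.F.U0 ⊓ J.fix U).2
  refine no_common f X.word60 fun x hx => ?_
  rcases hx with hx | hx
  · exact ⟨X.F.U0, hx, X.F.sq0, le_rfl⟩
  · simp only [Set.mem_iUnion] at hx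
    obtain ⟨w, hw, hx⟩ := hx
    refine ⟨_, hx, ?_, ?_⟩
    · rintro _ ⟨y, hy, rfl⟩
      rw [← map_mul, X.F.sq0 y hy, map_one]
    · have hw4 : ∀ k ∈ w, k < 4 := by
        intro k hk
        simp only [List.mem_cons, List.not_mem_nil, or_false] at hw
        rcases hw with rfl | rfl | rfl | rfl | rfl <;> simp at hk <;> omega
      obtain ⟨c, hc, -, hcS⟩ := uw_lift f (i := 0) (by omega) hw4
      rw [u_zero, one_mul] at hc
      rw [conjSub_mul, fix_conj hc, ← hcS]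
      rintro _ ⟨y, hy, rfl⟩
      exact ⟨y, hall hy, rfl⟩

/-- The vectors of the first plane in another plane. -/
theorem meet {j : ℕ} (hj : j < 77) (hj0 : j ≠ 0) {v : ℕ} (hv : v < 64) (hv0 : v ≠ 0)
    (h : f.vec v ∈ D.toJMod.fix (conjSub (X.pl j) X.F.U0)) :
    (entry j).1 = 2 ∧ pnt v = pW (entry j).2.2 19 := by
  obtain ⟨ht, hi, hw, -⟩ := entry_facts hj
  obtain ⟨c, hc, hcv, hcS⟩ := uw_lift f hi hw
  have hpl : X.pl j = X.u (entry j).2.1 * wordVal X.n (entry j).2.2 * [1, X.t₁, X.t₆₀].getD (entry j).1 1 :=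
    X.pl_eq j hj
  rw [hpl, conjSub_mul, fix_conj hc, mem_moveSub] at h
  obtain ⟨y, hy, he⟩ := h
  have hyS : y ∈ D.toJMod.fix X.F.U0 := by
    have h1 : f.vec v ∈ moveSub c (D.toJMod.fix X.F.U0) := hcS.symm ▸ f.vec_mem v hv
    obtain ⟨y', hy', e⟩ := mem_moveSub.1 h1
    exact smul_left_cancel c (e.trans he.symm) ▸ hy'
  obtain ⟨v₀, hv₀, rfl⟩ := f.vec_surj y hyS
  obtain ⟨v', hv', h1, h2⟩ := hcv v₀ hv₀
  have hvv : v' = v := f.vec_inj v' hv' v hv (h1.symm.trans he)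
  have hv₀0 : f.vec v₀ ≠ 0 := fun h0 => vec_ne f hv hv0 (by rw [← he, h0, smul_zero])
  rcases ht with h0 | h0 | h0
  · exact absurd h0 hj0
  · rw [h0] at hy
    exact absurd (inf_one f hyS hy) hv₀0
  · rw [h0] at hy
    refine ⟨h0, ?_⟩
    rcases inf_sixty f hv₀ hy with h3 | h3
    · exact absurd (h3.symm ▸ vec_zero f) hv₀0
    · rw [← hvv, h2, show pW (entry j).2.2 v₀ = List.foldr pmap (pnt v₀) (entry j).2.2 from rfl, h3,
        show pW (entry j).2.2 19 = List.foldr pmap (pnt 19) (entry j).2.2 from rfl, hy_card.2.2.2]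

omit f in
/-- The good subgroups are the listed conjugates. -/
theorem good_iff (L : Lifts D.toJMod X.F) (U : Subgroup M22t) :
    D.toJMod.Good U ↔ ∃ j, j < 77 ∧ U = conjSub (X.pl j) X.F.U0 := by
  constructor
  · intro hU
    obtain ⟨m, -, hm⟩ := D.toJMod.good_conj L hU (S := U)
      (IsPGroup.of_card (n := 4) (by rw [hU.1]; norm_num)) le_rfl
    have hUm : U = conjSub m⁻¹ X.F.U0 := by
      rw [← hm, show U.map (MulAut.conj m).toMonoidHom = conjSub m U from rfl, ← conjSub_mul, inv_mul_cancel,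
        conjSub_one]
    obtain ⟨j, hj, hje⟩ := X.planes m⁻¹
    exact ⟨j, hj, hUm.trans hje⟩
  · rintro ⟨j, -, rfl⟩
    obtain ⟨g, hg⟩ := D.toJMod.surj (X.pl j)
    exact hg ▸ D.toJMod.good_map L (D.toJMod.good_U0 L) g

theorem hy_only {U : Subgroup M22t} (hU : D.toJMod.Good U) {v : ℕ} (hv : v < 64) (hv0 : v ≠ 0)
    (hh : isHy v = true) (h : f.vec v ∈ D.toJMod.fix U) : U = X.F.U0 := by
  obtain ⟨j, hj, rfl⟩ := (good_iff L U).1 hU
  by_cases hj0 : j = 0
  · rw [hj0, pl_zero]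
  · obtain ⟨h1, h2⟩ := meet f hj hj0 hv hv0 h
    rw [(pt_facts hv).2.2.2.2.1, h2, (entry_facts hj).2.2.2 h1] at hh
    exact absurd hh Bool.false_ne_true

/-- At most five planes through a nonzero vector of a plane. -/
theorem five {g : ↥(cC z P)} {j : ℕ} (hg : D.toJMod.π g = X.pl j) {v : ℕ} (hv : v < 64)
    (hv0 : v ≠ 0) {s : Finset ℕ}
    (hs : ∀ k ∈ s, k < 77 ∧ g • f.vec v ∈ D.toJMod.fix (conjSub (X.pl k) X.F.U0)) : s.card ≤ 5 := by
  classical
  have hm : ∀ k ∈ s, ∃ m, m < 77 ∧ conjSub ((X.pl j)⁻¹ * X.pl k) X.F.U0 = conjSub (X.pl m) X.F.U0 :=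
    fun k _ => X.planes _
  choose! m hm77 hme using hm
  let T : Finset ℕ := insert 0 ((List.range 77).filter fun m =>
    Nat.beq (entry m).1 2 && Nat.beq (pW (entry m).2.2 19) (pnt v)).toFinset
  have hT : T.card ≤ 5 := by
    refine (Finset.card_insert_le _ _).trans (Nat.succ_le_succ ((List.toFinset_card_le _).trans ?_))
    exact Nat.le_of_ble_eq_true (List.all_eq_true.1 mult_ok v (List.mem_range.2 hv))
  refine le_trans (Finset.card_le_card_of_injOn m (fun k hk => ?_) (fun k hk k' hk' e => ?_)) hT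
  · have hk' : f.vec v ∈ D.toJMod.fix (conjSub (X.pl (m k)) X.F.U0) := by
      rw [← hme k hk, conjSub_mul, fix_conj (g := g⁻¹) (by rw [map_inv, hg]), mem_moveSub]
      exact ⟨_, (hs k hk).2, inv_smul_smul g _⟩
    by_cases h0 : m k = 0
    · exact h0 ▸ Finset.mem_insert_self _ _
    · obtain ⟨h1, h2⟩ := meet f (hm77 k hk) h0 hv hv0 hk'
      refine Finset.mem_insert_of_mem (List.mem_toFinset.2 (List.mem_filter.2 ⟨List.mem_range.2 (hm77 k hk), ?_⟩))
      rw [h1, ← h2, Nat.beq_refl, Nat.beq_refl]; rfl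
  · have e1 := (hme k hk).trans (e ▸ (hme k' hk').symm)
    have e2 := congrArg (conjSub (X.pl j)) e1
    rw [← conjSub_mul, ← conjSub_mul, mul_inv_cancel_left, mul_inv_cancel_left] at e2
    exact X.planes_inj k (hs k hk).1 k' (hs k' hk').1 e2

omit f [Finite G] in
theorem zpow_flag (hJ : IsOfJankoFourTypeWith z P) (a : ℕ) :
    z ^ a = 1 ↔ (a : ZMod 2) = 0 := by
  rw [← orderOf_dvd_iff_pow_eq_one, hz hJ, ZMod.natCast_eq_zero_iff_even, even_iff_two_dvd]

end Pl41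

open Pl41 in
/-- The planes. -/
theorem planesStmt : PlanesStmt.{u} := by
  classical
  intro G _ _ z P D X L f
  refine ⟨fun U hU v hv hv0 hh h => hy_only f hU hv hv0 hh h, fun v h1 h2 => inf_one f h1 h2, ?_⟩
  have hJ := D.hJ
  have := D.toJMod.finiteV
  have := Fintype.ofFinite (cV z)
  -- the quadratic form
  obtain ⟨q, hq⟩ : ∃ q : cV z → ZMod 2, q = fun v => if ∀ e : ↥(cE z), mk e = v → (e : G) * e = 1 then 0 else 1 := ⟨_, rfl⟩
  have hzE : ∀ e : ↥(cE z), Commute (e : G) z := fun e => Subgroup.mem_centralizer_singleton_iff.1 (cE_le z e.2)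
  have hsq : ∀ e : ↥(cE z), ∃ a : ℕ, (e : G) * e = z ^ a := fun e => by
    rcases sq_or hJ e with h | h
    · exact ⟨0, by rw [h, pow_zero]⟩
    · exact ⟨1, by rw [h, pow_one]⟩
  have hqe : ∀ (e : ↥(cE z)) (a : ℕ), (e : G) * e = z ^ a → q (mk e) = (a : ZMod 2) := by
    intro e a ha
    have hall : (∀ e', mk e' = mk e → (e' : G) * e' = 1) ↔ (a : ZMod 2) = 0 := by
      rw [← zpow_flag hJ, ← ha]
      refine ⟨fun h => h e rfl, fun h e' he' => ?_⟩
      rcases (mk_eq hJ).1 he'.symm with e1 | e1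
      · rw [e1, h]
      · rw [e1, (hzE e).symm.mul_mul_mul_comm, h, z_sq hJ, one_mul]
    rw [hq]
    show (if _ then (0 : ZMod 2) else 1) = _
    by_cases h0 : (a : ZMod 2) = 0
    · rw [if_pos (hall.2 h0), h0]
    · rw [if_neg (fun h => h0 (hall.1 h))]
      revert h0
      generalize (a : ZMod 2) = b
      revert b
      decide
  have hquad : ∀ u v, q (u + v) = q u + q v + D.toJMod.β u v := by
    intro u v
    obtain ⟨e, rfl⟩ := mk_surjective u
    obtain ⟨e', rfl⟩ := mk_surjective v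
    obtain ⟨a, ha⟩ := hsq e
    obtain ⟨b, hb⟩ := hsq e'
    obtain ⟨k, hk⟩ : ∃ k : ℕ, (e : G) * e' * (e : G)⁻¹ * (e' : G)⁻¹ = z ^ k := by
      rcases comm_or hJ e e' with h | h
      · exact ⟨0, by rw [h, pow_zero]⟩
      · exact ⟨1, by rw [h, pow_one]⟩
    have hzk : ∀ (x : ↥(cE z)) (n : ℕ), Commute (x : G) (z ^ n) := fun x n => (hzE x).pow_right n
    have hprod : ((e * e' : ↥(cE z)) : G) * ((e * e' : ↥(cE z)) : G) = z ^ (a + b + k) := by
      have h1 : (e : G) * e' = z ^ k * ((e' : G) * e) := by rw [← hk]; group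
      rw [Subgroup.coe_mul]
      calc (e : G) * e' * (e * e') = e * (e' * (e * e')) := by group
        _ = e * (e' * (z ^ k * (e' * e))) := by rw [h1]
        _ = e * ((e' * z ^ k) * (e' * e)) := by group
        _ = e * (z ^ k * (e' * e') * e) := by rw [(hzk e' k).eq]; group
        _ = z ^ k * z ^ b * (e * e) := by
            rw [hb, ← pow_add, ← mul_assoc, (hzk e (k + b)).eq, mul_assoc]
        _ = z ^ (a + b + k) := by rw [ha, ← pow_add, ← pow_add]; congr 1; omega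
    rw [← mk_mul, hqe _ _ hprod, hqe e a ha, hqe e' b hb, Nat.cast_add, Nat.cast_add,
      show D.toJMod.β (mk e) (mk e') = pair e e' from rfl]
    congr 1
    unfold pair
    have hc : Commute e e' ↔ (k : ZMod 2) = 0 := by
      rw [← zpow_flag hJ, ← hk, mul_inv_eq_one, mul_inv_eq_iff_eq_mul]
      exact ⟨fun h => congrArg Subtype.val h.eq, fun h => Subtype.ext h⟩
    by_cases h0 : (k : ZMod 2) = 0
    · rw [if_pos (hc.2 h0), h0]
    · rw [if_neg (fun h => h0 (hc.1 h))]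
      revert h0
      generalize (k : ZMod 2) = b'
      revert b'
      decide
  have hnd : ∀ u, (∀ v, D.toJMod.β u v = 0) → u = 0 := by
    intro u hu
    have h := D.toJMod.perp ⊤
    rw [AddSubgroup.card_top, D.toJMod.cardV] at h
    have h1 : Nat.card ↥(perpOf D.toJMod.β (⊤ : AddSubgroup (cV z))) = 1 :=
      Nat.eq_of_mul_eq_mul_left (by norm_num : 0 < 2 ^ 12) (by rw [h, mul_one])
    exact (AddSubgroup.eq_bot_iff_forall _).1 (AddSubgroup.eq_bot_of_card_eq _ h1) u fun s _ => hu s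
  have hfix0 : ∀ k, k < 77 → ∀ x ∈ D.toJMod.fix (conjSub (X.pl k) X.F.U0), q x = 0 := by
    intro k hk x hx
    obtain ⟨e, rfl⟩ := mk_surjective x
    have := (D.good_pre_sq L ((good_iff L _).2 ⟨k, hk, rfl⟩) hx).1
    rw [hqe e 0 (by rw [this, pow_zero]), Nat.cast_zero]
  -- the two sets
  have hlift : ∀ k, ∃ g : ↥(cC z P), D.toJMod.π g = X.pl k := fun k => D.toJMod.surj _
  choose g hg using hlift
  let φ : ℕ × ℕ → cV z := fun p => g p.1 • f.vec p.2
  obtain ⟨sA, hsA⟩ : ∃ s : Finset (ℕ × ℕ),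
      s = Finset.range 77 ×ˢ (Finset.range 64).filter fun v => isHy v = true := ⟨_, rfl⟩
  obtain ⟨sB, hsB⟩ : ∃ s : Finset (ℕ × ℕ),
      s = Finset.range 77 ×ˢ (Finset.range 64).filter fun v => v ≠ 0 ∧ isHy v = false := ⟨_, rfl⟩
  have hmemA : ∀ p ∈ sA, p.1 < 77 ∧ p.2 < 64 ∧ p.2 ≠ 0 ∧ isHy p.2 = true := fun p hp => by
    simp only [hsA, Finset.mem_product, Finset.mem_range, Finset.mem_filter] at hp
    exact ⟨hp.1, hp.2.1, fun h0 => by rw [h0, hy_card.2.2.1] at hp; exact Bool.false_ne_true hp.2.2, hp.2.2⟩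
  have hmemB : ∀ p ∈ sB, p.1 < 77 ∧ p.2 < 64 ∧ p.2 ≠ 0 ∧ isHy p.2 = false := fun p hp => by
    simp only [hsB, Finset.mem_product, Finset.mem_range, Finset.mem_filter] at hp
    exact ⟨hp.1, hp.2.1, hp.2.2⟩
  have hin : ∀ p : ℕ × ℕ, p.2 < 64 → φ p ∈ D.toJMod.fix (conjSub (X.pl p.1) X.F.U0) := fun p hp => by
    rw [fix_conj (hg p.1)]; exact mem_moveSub.2 ⟨_, f.vec_mem _ hp, rfl⟩
  have honly : ∀ p ∈ sA, ∀ k, k < 77 → φ p ∈ D.toJMod.fix (conjSub (X.pl k) X.F.U0) → k = p.1 := by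
    intro p hp k hk h
    obtain ⟨h1, h2, h3, h4⟩ := hmemA p hp
    have hgood : D.toJMod.Good (conjSub ((X.pl p.1)⁻¹ * X.pl k) X.F.U0) := by
      obtain ⟨c, hc⟩ := D.toJMod.surj ((X.pl p.1)⁻¹ * X.pl k)
      exact hc ▸ D.toJMod.good_map L (D.toJMod.good_U0 L) c
    have := hy_only f hgood h2 h3 h4 (by
      rw [conjSub_mul, fix_conj (g := (g p.1)⁻¹) (by rw [map_inv, hg]), mem_moveSub]
      exact ⟨_, h, inv_smul_smul _ _⟩)
    have e2 := congrArg (conjSub (X.pl p.1)) this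
    rw [← conjSub_mul, mul_inv_cancel_left] at e2
    exact X.planes_inj k hk p.1 h1 e2
  have hsame : ∀ p p' : ℕ × ℕ, p.2 < 64 → p'.2 < 64 → φ p = φ p' → p.1 = p'.1 → p = p' := by
    intro p p' hp hp' h h1
    refine Prod.ext h1 (f.vec_inj _ hp _ hp' ?_)
    simp only [φ, h1] at h
    exact smul_left_cancel _ h
  have hA : (sA.image φ).card = 77 * 18 := by
    rw [Finset.card_image_of_injOn, hsA, Finset.card_product, Finset.card_range, hy_card.1]
    intro p hp p' hp' h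
    refine hsame p p' (hmemA p hp).2.1 (hmemA p' hp').2.1 h (honly p' hp' p.1 (hmemA p hp).1 ?_)
    rw [← h]; exact hin p (hmemA p hp).2.1
  have hB : 77 * 45 ≤ 5 * (sB.image φ).card := by
    have := Finset.card_le_mul_card_image (f := φ) sB 5 fun x hx => ?_
    · rw [hsB, Finset.card_product, Finset.card_range, hy_card.2.1, ← hsB] at this
      exact this
    obtain ⟨p₀, hp₀, rfl⟩ := Finset.mem_image.1 hx
    obtain ⟨-, b2, b3, -⟩ := hmemB p₀ hp₀
    rw [← Finset.card_image_of_injOn (f := Prod.fst) (fun p hp p' hp' h1 => ?_)]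
    · refine five f (hg p₀.1) b2 b3 fun k hk => ?_
      obtain ⟨p, hp, rfl⟩ := Finset.mem_image.1 hk
      rw [Finset.mem_filter] at hp
      exact ⟨(hmemB p hp.1).1, by
        show φ p₀ ∈ _
        rw [← hp.2]; exact hin p (hmemB p hp.1).2.1⟩
    · rw [Finset.mem_coe, Finset.mem_filter] at hp hp'
      exact hsame p p' (hmemB p hp.1).2.1 (hmemB p' hp'.1).2.1 (hp.2.trans hp'.2.symm) h1
  have hAB : Disjoint (sA.image φ) (sB.image φ) := by
    refine Finset.disjoint_left.2 fun x hx hx' => ?_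
    obtain ⟨p, hp, rfl⟩ := Finset.mem_image.1 hx
    obtain ⟨p', hp', h⟩ := Finset.mem_image.1 hx'
    have h1 := honly p hp p'.1 (hmemB p' hp').1 (h ▸ hin p' (hmemB p' hp').2.1)
    have := hsame p' p (hmemB p' hp').2.1 (hmemA p hp).2.1 h h1
    subst this
    exact Bool.false_ne_true ((hmemB _ hp').2.2.2.symm.trans (hmemA _ hp).2.2.2)
  have h0 : (0 : cV z) ∉ sA.image φ ∪ sB.image φ := by
    intro h
    have key : ∀ p : ℕ × ℕ, p.2 < 64 → p.2 ≠ 0 → φ p ≠ 0 := fun p hp hp0 e =>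
      vec_ne f hp hp0 ((smul_eq_zero_iff_eq (g p.1)).1 e)
    rcases Finset.mem_union.1 h with h | h <;> obtain ⟨p, hp, e⟩ := Finset.mem_image.1 h
    · exact key p (hmemA p hp).2.1 (hmemA p hp).2.2.1 e
    · exact key p (hmemB p hp).2.1 (hmemB p hp).2.2.1 e
  have hcover : ∀ x ∈ insert (0 : cV z) (sA.image φ ∪ sB.image φ),
      ∃ U : Subgroup M22t, D.toJMod.Good U ∧ x ∈ D.toJMod.fix U := by
    intro x hx
    rcases Finset.mem_insert.1 hx with rfl | hx
    · exact ⟨X.F.U0, D.toJMod.good_U0 L, zero_mem _⟩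
    · rcases Finset.mem_union.1 hx with h | h <;> obtain ⟨p, hp, rfl⟩ := Finset.mem_image.1 h
      · exact ⟨_, (good_iff L _).2 ⟨p.1, (hmemA p hp).1, rfl⟩, hin p (hmemA p hp).2.1⟩
      · exact ⟨_, (good_iff L _).2 ⟨p.1, (hmemB p hp).1, rfl⟩, hin p (hmemB p hp).2.1⟩
  have hsub : insert (0 : cV z) (sA.image φ ∪ sB.image φ) ⊆ Finset.univ.filter fun v => q v = 0 := by
    intro x hx
    obtain ⟨U, hU, hxU⟩ := hcover x hx
    obtain ⟨k, hk, rfl⟩ := (good_iff L U).1 hU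
    exact Finset.mem_filter.2 ⟨Finset.mem_univ _, hfix0 k hk x hxU⟩
  have heq : insert (0 : cV z) (sA.image φ ∪ sB.image φ) = Finset.univ.filter fun v => q v = 0 := by
    refine Finset.eq_of_subset_of_card_le hsub ?_
    have hZ := quadBound (cV z) q D.toJMod.β D.toJMod.cardV D.toJMod.two hquad hnd
    rw [Nat.card_eq_fintype_card, Fintype.card_subtype] at hZ
    rw [Finset.card_insert_of_notMem h0, Finset.card_union_of_disjoint hAB, hA]
    omega
  intro e he
  refine hcover _ ?_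
  rw [heq, Finset.mem_filter]
  exact ⟨Finset.mem_univ _, by rw [hqe e 0 (by rw [pow_zero]; exact congrArg Subtype.val he), Nat.cast_zero]⟩

end Cfsg.Agent.Lib.J4Two56
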