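import Cfsg.Agent.Lib.J4Two56.Stmts2

/-!
# The section of the extraspecial group over the fixed spaces of the good subgroups
-/

set_option autoImplicit false

universe u

namespace Cfsg.Agent.Lib.J4Two56

open Cfsg Cfsg.Agent.Lib.J4Type19

attribute [local instance] m22_finite

/-- The section. -/
theorem secStmt : SecStmt.{u} := by
  intro G _ _ z P D X L U hU
  obtain ⟨c, hc⟩ : ∃ c : ↥(cE z) →* ↥(cE z), c = cEAut D.p D.pH := ⟨_, rfl⟩
  have hcm : ∀ {e : ↥(cE z)}, mk e ∈ D.toJMod.fix U → mk (c e) ∈ D.toJMod.fix U := fun {e} he => by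
    rw [hc, ← D.smul_p_mk]; exact D.toJMod.ω_mem_fix he
  have hsec : ∀ e, sec D e = c (c e) * c e := fun e => by rw [hc]; rfl
  have hcomm : ∀ {e f : ↥(cE z)}, mk e ∈ D.toJMod.fix U → mk f ∈ D.toJMod.fix U → e * f = f * e :=
    fun he hf => (pair_eq_zero.1 ((D.toJMod.good_fix L hU).2 _ he _ hf)).eq
  have hzc : ∀ x : ↥(cE z), (x : G) * z = z * x := fun x =>
    Subgroup.mem_centralizer_singleton_iff.1 (cE_le z x.2)
  have hzp : D.p * z = z * D.p := (D.comm_z D.pC).symm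
  have hcG : ∀ e : ↥(cE z), ((c e : ↥(cE z)) : G) = D.p * e * D.p⁻¹ := fun e => by rw [hc]; rfl
  have hsum : ∀ e : ↥(cE z), mk (sec D e) = mk e := by
    intro e
    rw [hsec, mk_mul, hc, ← D.smul_p_mk, ← D.smul_p_mk]
    have h := D.toJMod.ω_sum (mk e)
    rw [add_assoc, add_eq_zero_iff_eq_neg, D.toJMod.neg_eq] at h
    conv_rhs => rw [h]
    exact add_comm _ _
  refine ⟨fun e he => ⟨hsum e, ?_⟩, fun e e' _ _ h => ?_, fun e e' he he' => ?_, fun h hh hp e he => ?_⟩
  · have h2 : ((c e * c e : ↥(cE z)) : G) = 1 ∨ ((c e * c e : ↥(cE z)) : G) = z := sq_or D.hJ (c e)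
    have e1 : c (c e) * c e * (c (c e) * c e) = c (c e * c e) * (c e * c e) := by
      rw [map_mul, mul_assoc, ← mul_assoc (c e), hcomm (hcm he) (hcm (hcm he))]
      simp only [mul_assoc]
    rw [hsec, ← Subgroup.coe_mul, e1, Subgroup.coe_mul, hcG]
    rcases h2 with h2 | h2 <;> rw [h2]
    · group
    · rw [hzp, mul_inv_cancel_right, z_sq D.hJ]
  · rcases (mk_eq D.hJ).1 h with h | h
    · rw [Subtype.ext h]
    · have hz1 : ((c e' : ↥(cE z)) : G) = (c e : ↥(cE z)) * z := by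
        rw [hcG, hcG, h, show D.p * ((e : G) * z) * D.p⁻¹ = D.p * e * D.p⁻¹ * (D.p * z * D.p⁻¹) by group, hzp,
          mul_inv_cancel_right]
      have hz2 : ((c (c e') : ↥(cE z)) : G) = (c (c e) : ↥(cE z)) * z := by
        rw [hcG, hcG (c e), hz1,
          show D.p * (((c e : ↥(cE z)) : G) * z) * D.p⁻¹ = D.p * (c e : ↥(cE z)) * D.p⁻¹ * (D.p * z * D.p⁻¹) by
            group, hzp, mul_inv_cancel_right]
      refine Subtype.ext ?_
      rw [hsec, hsec, Subgroup.coe_mul, Subgroup.coe_mul, hz1, hz2,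
        show ((c (c e) : ↥(cE z)) : G) * z * (((c e : ↥(cE z)) : G) * z) =
          ((c (c e) : ↥(cE z)) : G) * (z * (c e : ↥(cE z))) * z by group, ← hzc (c e),
        show ((c (c e) : ↥(cE z)) : G) * ((c e : ↥(cE z)) * z) * z =
          ((c (c e) : ↥(cE z)) : G) * (c e : ↥(cE z)) * (z * z) by group, z_sq D.hJ, mul_one]
  · rw [hsec, hsec, hsec, map_mul, map_mul, mul_assoc (c (c e)), ← mul_assoc (c (c e')),
      hcomm (hcm (hcm he')) (hcm he), mul_assoc (c (c e))]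
    simp only [mul_assoc]
  · have hp3 : D.p * D.p * D.p = 1 := by rw [← D.p3, pow_succ, pow_two]
    rw [hsec, hsec, map_mul]
    rcases hp with hp | hp
    · have h1 : ∀ x, c (cEAut h hh x) = cEAut h hh (c x) := fun x => Subtype.ext (by
        show ((c (cEAut h hh x) : ↥(cE z)) : G) = h * (c x : ↥(cE z)) * h⁻¹
        rw [hcG, hcG]
        show D.p * (h * (x : G) * h⁻¹) * D.p⁻¹ = h * (D.p * (x : G) * D.p⁻¹) * h⁻¹
        conv_lhs => rw [← hp]
        group)
      rw [h1, h1]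
    · have h1 : ∀ x, c (cEAut h hh x) = cEAut h hh (c (c x)) := fun x => Subtype.ext (by
        show ((c (cEAut h hh x) : ↥(cE z)) : G) = h * (c (c x) : ↥(cE z)) * h⁻¹
        rw [hcG, hcG, hcG]
        show D.p * (h * (x : G) * h⁻¹) * D.p⁻¹ = h * (D.p * (D.p * (x : G) * D.p⁻¹) * D.p⁻¹) * h⁻¹
        have hp' : D.p = h * (D.p * D.p) * h⁻¹ := by
          have e2 : D.p⁻¹ = D.p * D.p := inv_eq_of_mul_eq_one_left hp3
          calc D.p = (D.p⁻¹)⁻¹ := (inv_inv _).symm
            _ = (h * D.p * h⁻¹)⁻¹ := by rw [hp]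
            _ = h * D.p⁻¹ * h⁻¹ := by group
            _ = h * (D.p * D.p) * h⁻¹ := by rw [e2]
        conv_lhs => rw [hp']
        group)
      have h4 : c (c (c (c e))) = c e := Subtype.ext (by
        rw [hcG, hcG, hcG]
        calc D.p * (D.p * (D.p * ((c e : ↥(cE z)) : G) * D.p⁻¹) * D.p⁻¹) * D.p⁻¹
            = D.p * D.p * D.p * (c e : ↥(cE z)) * (D.p * D.p * D.p)⁻¹ := by group
          _ = (c e : ↥(cE z)) := by rw [hp3]; group)
      rw [h1, h1, h4, ← map_mul (cEAut h hh), ← map_mul (cEAut h hh), hcomm (hcm he) (hcm (hcm he))]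

end Cfsg.Agent.Lib.J4Two56
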