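import Cfsg.Agent.Lib.J4Two56.SplitBase
import Cfsg.Agent.Lib.Golay.M24
import Cfsg.Agent.Lib.Gaschutz

/-!
# The normaliser of the subgroup of order `2¹¹` splits

A subgroup of order `2¹⁰` meeting the subgroup trivially (the section over the second plane extended by the
lifts of a group of order 16 of `M22.2`) shows, by Gaschütz, that the normaliser splits.
-/

set_option autoImplicit false

universe u

namespace Cfsg.Agent.Lib.J4Two56

open Cfsg Cfsg.Agent.Lib Cfsg.Agent.Lib.J4Type19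

attribute [local instance] m22_finite

namespace Split

/-- The permutation of the indices of the first generator. -/
def pA (m : ℕ) : ℕ := M22D.uW M22D.splitA.2 m

/-- The permutation of the indices of the second generator. -/
def pB (m : ℕ) : ℕ := M22D.uW M22D.splitB.2 m

/-- The permutation of the indices of the outer generator. -/
def pD (m : ℕ) : ℕ := M22D.deltaPerm.getD m 0

/-- The permutation of a word in the three generators. -/
def pR (i j k m : ℕ) : ℕ := (pA ∘ pB)^[i] (pB^[j] (pD^[k] m))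

theorem uP_lt_check : ((List.range 4).all fun k => (List.range 16).all fun i =>
    decide (M22D.uP k i < 16)) = true := by decide +kernel

theorem uP_lt {k i : ℕ} (hk : k < 4) (hi : i < 16) : M22D.uP k i < 16 :=
  of_decide_eq_true (List.all_eq_true.1 (List.all_eq_true.1 uP_lt_check k (List.mem_range.2 hk)) i
    (List.mem_range.2 hi))

theorem word_check : (decide (M22D.splitA.1 < 16) && decide (M22D.splitB.1 < 16) &&
    (M22D.splitA.2.all fun k => decide (k < 4)) && (M22D.splitB.2.all fun k => decide (k < 4)) &&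
    (List.range 16).all fun m => decide (M22D.deltaPerm.getD m 0 < 16)) = true := by decide +kernel

theorem perm_check : ((List.range 4).all fun i => (List.range 2).all fun j => (List.range 2).all fun k =>
    (List.range 4).all fun i' => (List.range 2).all fun j' => (List.range 2).all fun k' =>
      (decide (i = i') && decide (j = j') && decide (k = k')) ||
        (List.range 16).any fun m => decide (pR i j k m ≠ pR i' j' k' m)) = true := by decide +kernel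

theorem pR_inj {i j k i' j' k' : ℕ} (hi : i < 4) (hj : j < 2) (hk : k < 2) (hi' : i' < 4) (hj' : j' < 2)
    (hk' : k' < 2) (h : ∀ m, m < 16 → pR i j k m = pR i' j' k' m) : i = i' ∧ j = j' ∧ k = k' := by
  have h1 := List.all_eq_true.1 perm_check i (List.mem_range.2 hi)
  have h2 := List.all_eq_true.1 h1 j (List.mem_range.2 hj)
  have h3 := List.all_eq_true.1 h2 k (List.mem_range.2 hk)
  have h4 := List.all_eq_true.1 h3 i' (List.mem_range.2 hi')
  have h5 := List.all_eq_true.1 h4 j' (List.mem_range.2 hj')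
  have h6 := List.all_eq_true.1 h5 k' (List.mem_range.2 hk')
  simp only [Bool.or_eq_true, Bool.and_eq_true, decide_eq_true_eq, List.any_eq_true, List.mem_range] at h6
  rcases h6 with ⟨⟨e1, e2⟩, e3⟩ | ⟨m, hm, hne⟩
  · exact ⟨e1, e2, e3⟩
  · exact absurd (h m hm) hne

variable {G : Type u} [Group G] [Finite G] {z : G} {P : Subgroup G} {D : HData z P} {X : Plus M22t}
  {L : Lifts D.toJMod X.F} (l : Loc D X L)

/-- Acting on the indices of the first plane by a map. -/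
def Moves (D : HData z P) (X : Plus M22t) (h : G) (f : ℕ → ℕ) : Prop :=
  ∃ hh : h ∈ cH z, ∀ m, m < 16 → f m < 16 ∧ D.φ ⟨h, hh⟩ (X.u m) = X.u (f m)

theorem moves_one : Moves D X 1 id :=
  ⟨one_mem _, fun m hm => ⟨hm, by
    rw [show (⟨1, one_mem _⟩ : ↥(cH z)) = 1 from rfl, map_one]; rfl⟩⟩

theorem moves_mul {h k : G} {f g : ℕ → ℕ} (h1 : Moves D X h f) (h2 : Moves D X k g) :
    Moves D X (h * k) (f ∘ g) := by
  obtain ⟨hh, hf⟩ := h1
  obtain ⟨kh, kg⟩ := h2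
  refine ⟨mul_mem hh kh, fun m hm => ?_⟩
  obtain ⟨g1, g2⟩ := kg m hm
  obtain ⟨f1, f2⟩ := hf _ g1
  refine ⟨f1, ?_⟩
  rw [show (⟨h * k, mul_mem hh kh⟩ : ↥(cH z)) = ⟨h, hh⟩ * ⟨k, kh⟩ from rfl, map_mul]
  show D.φ ⟨h, hh⟩ (D.φ ⟨k, kh⟩ (X.u m)) = _
  rw [g2, f2]
  rfl

theorem moves_pow {h : G} {f : ℕ → ℕ} (h1 : Moves D X h f) : ∀ n : ℕ, Moves D X (h ^ n) f^[n] := by
  intro n
  induction n with
  | zero => rw [pow_zero]; exact moves_one
  | succ n ih =>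
    rw [pow_succ, Function.iterate_succ]
    exact moves_mul ih h1

theorem word_act : ∀ w : List ℕ, (∀ k ∈ w, k < 4) → ∀ m, m < 16 →
    M22D.uW w m < 16 ∧ wordVal X.n w * X.u m * (wordVal X.n w)⁻¹ = X.u (M22D.uW w m) := by
  intro w
  induction w with
  | nil => intro _ m hm; exact ⟨hm, by simp [wordVal, M22D.uW]⟩
  | cons a w ih =>
    intro hw m hm
    obtain ⟨h1, h2⟩ := ih (fun k hk => hw k (List.mem_cons_of_mem _ hk)) m hm
    have ha := hw a (List.mem_cons_self ..)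
    refine ⟨uP_lt ha h1, ?_⟩
    show X.n a * wordVal X.n w * X.u m * (X.n a * wordVal X.n w)⁻¹ = X.u (M22D.uP a (M22D.uW w m))
    rw [← X.nu a ha _ h1, ← h2]
    group

theorem split_act {i : ℕ} (hi : i < 16) {w : List ℕ} (hw : ∀ k ∈ w, k < 4) {m : ℕ} (hm : m < 16) :
    M22D.uW w m < 16 ∧ X.u i * wordVal X.n w * X.u m * (X.u i * wordVal X.n w)⁻¹ = X.u (M22D.uW w m) := by
  obtain ⟨h1, h2⟩ := word_act (X := X) w hw m hm
  refine ⟨h1, ?_⟩
  rw [show X.u i * wordVal X.n w * X.u m * (X.u i * wordVal X.n w)⁻¹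
    = X.u i * (wordVal X.n w * X.u m * (wordVal X.n w)⁻¹) * (X.u i)⁻¹ by group, h2,
    comm_of_sq_all X.F.sq0 (X.u_mem i hi) (X.u_mem _ h1), mul_inv_cancel_right]

theorem u_zero (X : Plus M22t) : X.u 0 = 1 := by
  have h := X.u_xor 0 (by norm_num) 0 (by norm_num)
  rw [Nat.xor_self] at h
  exact left_eq_mul.1 h

include l in
theorem lift_sq {c : ↥(cC z P)} (h2 : D.π c * D.π c = 1) (h4 : c ^ 4 = 1) : c * c = 1 := by
  by_cases h1 : D.π c = 1
  · exact D.ker_four h1 h4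
  have hu1 : X.u 1 ≠ 1 := fun h => by
    have := X.u_inj 1 (by norm_num) 0 (by norm_num) (h.trans (u_zero X).symm)
    omega
  have hu : orderOf (X.u 1) = 2 := orderOf_eq_prime
    (by rw [pow_two, X.F.sq0 _ (X.u_mem 1 (by norm_num))]) hu1
  have hc : orderOf (D.π c) = 2 := orderOf_eq_prime (by rw [pow_two, h2]) h1
  obtain ⟨g, hg⟩ := isConj_iff.1 (X.F.inv_conj _ _ hu hc)
  obtain ⟨g, rfl⟩ := D.πsurj g
  have hx : (g * l.x 1 * g⁻¹) * (g * l.x 1 * g⁻¹) = 1 := by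
    rw [show g * l.x 1 * g⁻¹ * (g * l.x 1 * g⁻¹) = g * (l.x 1 * l.x 1) * g⁻¹ by group,
      l.x_sq 1 (by norm_num), mul_one, mul_inv_cancel]
  rw [D.sq_congr (c' := g * l.x 1 * g⁻¹) (by rw [map_mul, map_mul, map_inv, l.x_π 1 (by norm_num), hg])
    h2 h4 (D.toJMod.conj_four (x_pow_four l (by norm_num))), hx]

/-- The lift of an involution normalising the planes. -/
theorem exists_lift_norms {A : M22t} (hA : A * A = 1) {f : ℕ → ℕ}
    (hf : ∀ m, m < 16 → f m < 16 ∧ A * X.u m * A⁻¹ = X.u (f m))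
    (h1 : ∀ v ∈ conjSub X.t₁ X.F.U0, A * v * A⁻¹ ∈ conjSub X.t₁ X.F.U0) :
    ∃ c : ↥(cC z P), D.π c = A ∧ c ^ 4 = 1 ∧ Moves D X (c : G) f ∧
      (c : G) ∈ nrm D X.F.U0 ∧ (c : G) ∈ nrm D (conjSub X.t₁ X.F.U0) := by
  obtain ⟨c, hc, h4⟩ := D.toJMod.exists_two_lift hA
  have hc' : D.π c = A := hc
  have hφ : ∀ u, D.φ ⟨(c : G), c.2.1⟩ u = A * u * A⁻¹ := fun u => by
    rw [← D.π_eq, hc']; rfl
  have hp : (c : G) * D.p * (c : G)⁻¹ = D.p := by rw [← D.comm_p c, mul_inv_cancel_right]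
  refine ⟨c, hc', h4, ⟨c.2.1, fun m hm => ⟨(hf m hm).1, by rw [hφ, (hf m hm).2]⟩⟩,
    ⟨c.2.1, Or.inl hp, fun u hu => ?_⟩, ⟨c.2.1, Or.inl hp, fun u hu => by rw [hφ]; exact h1 u hu⟩⟩
  obtain ⟨m, hm, rfl⟩ := X.u_surj u hu
  rw [hφ, (hf m hm).2]
  exact X.u_mem _ (hf m hm).1

/-- An element over the outer automorphism. -/
theorem exists_outer : ∃ h : G, (h * h = 1 ∨ h * h = z) ∧ h * D.p * h⁻¹ = D.p⁻¹ ∧
    ∃ hh : h ∈ cH z, D.φ ⟨h, hh⟩ = X.δ := by
  have hidx : (Inn M22t).index = 2 := Compute.Mathieu.card_out_M22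
  have hδ : X.δ ∉ Inn M22t := fun ⟨m, hm⟩ => X.δ_out m hm
  obtain ⟨m, hm⟩ := (Subgroup.mul_mem_iff_of_index_two hidx).2
    (iff_of_false (fun h => D.φt (inv_mem_iff.1 h)) hδ : (D.φ D.t)⁻¹ ∈ Inn M22t ↔ X.δ ∈ Inn M22t)
  obtain ⟨c, rfl⟩ := D.πsurj m
  rw [D.π_eq] at hm
  have hh : (D.t : G) * c ∈ cH z := mul_mem D.t.2 c.2.1
  have hφ : D.φ ⟨(D.t : G) * c, hh⟩ = X.δ := by
    rw [show (⟨(D.t : G) * c, hh⟩ : ↥(cH z)) = D.t * ⟨(c : G), c.2.1⟩ from rfl, map_mul, hm, mul_inv_cancel_left]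
  obtain ⟨h, hdef⟩ : ∃ h, h = (D.t : G) * c := ⟨_, rfl⟩
  have hp : h * D.p * h⁻¹ = D.p⁻¹ := by
    have hcp : (c : G) * D.p * (c : G)⁻¹ = D.p := by rw [← D.comm_p c, mul_inv_cancel_right]
    rw [hdef, show (D.t : G) * c * D.p * ((D.t : G) * c)⁻¹ = D.t * ((c : G) * D.p * (c : G)⁻¹) * (D.t : G)⁻¹ by
      group, hcp, D.tp]
  refine ⟨h, ?_, hp, hdef ▸ hh, by subst hdef; exact hφ⟩
  subst hdef
  have h1 : D.φ (⟨_, hh⟩ * ⟨_, hh⟩) = 1 := by rw [map_mul, hφ, X.δδ]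
  obtain ⟨e, he, q, hq, heq⟩ := (D.φ_eq _).1 h1
  replace heq : (D.t : G) * c * ((D.t : G) * c) = e * q := heq
  obtain ⟨h, hdef⟩ : ∃ h, h = (D.t : G) * c := ⟨_, rfl⟩
  rw [← hdef] at heq hp ⊢
  have hp2 : h * h * D.p * (h * h)⁻¹ = D.p := by
    rw [show h * h * D.p * (h * h)⁻¹ = h * (h * D.p * h⁻¹) * h⁻¹ by group, hp, ← conj_inv, hp, inv_inv]
  obtain ⟨j, rfl⟩ : ∃ j : ℕ, q = D.p ^ j := by
    rcases (D.mem_P q).1 hq with rfl | rfl | rfl
    exacts [⟨0, by simp⟩, ⟨1, by simp⟩, ⟨2, by rw [pow_two]⟩]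
  have hep : Commute D.p e := by
    have h2 : Commute D.p (h * h) := (mul_inv_eq_iff_eq_mul.1 hp2).symm
    have := h2.mul_right (Commute.inv_right (Commute.self_pow D.p j))
    rwa [heq, mul_inv_cancel_right] at this
  have heC : e ∈ Subgroup.centralizer (P : Set G) := by
    refine Subgroup.mem_centralizer_iff.2 fun x hx => ?_
    rcases (D.mem_P x).1 hx with rfl | rfl | rfl
    · rw [one_mul, mul_one]
    · exact hep.eq
    · exact (hep.mul_left hep).eq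
  have hez := mem_zpowers_z D.hJ ((centE D.hJ).le ⟨he, heC⟩)
  have hj : h * D.p ^ j * h⁻¹ = D.p ^ j := by
    have hq' : D.p ^ j = e⁻¹ * (h * h) := by rw [heq, inv_mul_cancel_left]
    have hhz : h * e = e * h := by
      rcases hez with rfl | rfl
      · rw [mul_one, one_mul]
      · exact (z_comm (hdef ▸ hh)).symm
    rw [hq', show h * (e⁻¹ * (h * h)) * h⁻¹ = (h * e * h⁻¹)⁻¹ * (h * h) by group, hhz, mul_inv_cancel_right]
  have hj1 : D.p ^ j = 1 := by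
    rw [← conj_pow, hp, inv_pow] at hj
    refine D.sq_order j ?_
    rw [two_mul, pow_add]
    nth_rewrite 1 [← hj]
    rw [inv_mul_cancel]
    exact one_mem _
  rw [hj1, mul_one] at heq
  rcases hez with rfl | rfl
  · exact Or.inl heq
  · exact Or.inr heq

section Facts

variable (hS : SecStmt.{u}) (hC : CoverStmt)

include hS hC in
theorem exists_invol_ρ {s : ↥Cfsg.M24} (h2 : s * s = 1) (h1 : s ≠ 1) :
    ∃ n : ↥(Subgroup.normalizer (l.T.V : Set G)), l.T.ρ n = s ∧ n * n = 1 := by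
  obtain ⟨g, hg, d, -, hW, -⟩ := hC (σ := (s : Equiv.Perm GolayPt)) s.2 (congrArg Subtype.val h2)
    (fun h => h1 (Subtype.ext h)) (c := 0) (by norm_num) (act_zero _)
  obtain ⟨m, hm⟩ := l.T.ρ_surj ⟨g, hg⟩
  obtain ⟨k, hk⟩ := l.T.ρ_surj (⟨g, hg⟩ * s * ⟨g, hg⟩⁻¹)
  obtain ⟨e, he, hev⟩ := exists_E_of_InW l hS (k := k) (by rw [hk]; exact hW)
  obtain ⟨en, hen⟩ : ∃ en : ↥(Subgroup.normalizer (l.T.V : Set G)), en = ⟨e, cE_le_N l he⟩ := ⟨_, rfl⟩
  have hρe : l.T.ρ en = ⟨g, hg⟩ * s * ⟨g, hg⟩⁻¹ := by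
    have h := l.T.ρ_of_mem (n := en⁻¹ * k) (by rw [hen]; exact hev)
    rw [map_mul, map_inv, inv_mul_eq_one, hk] at h
    exact h
  suffices ∃ n, l.T.ρ n = l.T.ρ en ∧ n * n = 1 by
    obtain ⟨n, hn, hn2⟩ := this
    refine ⟨m⁻¹ * n * m, ?_, ?_⟩
    · rw [map_mul, map_mul, map_inv, hn, hρe, hm]; group
    · rw [show m⁻¹ * n * m * (m⁻¹ * n * m) = m⁻¹ * (n * n) * m by group, hn2, mul_one, inv_mul_cancel]
  obtain ⟨ee, hee⟩ : ∃ ee : ↥(cE z), ee = ⟨e, he⟩ := ⟨_, rfl⟩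
  rcases sq_or D.hJ ee with h | h
  · exact ⟨en, rfl, Subtype.ext (by rw [Subgroup.coe_mul, hen]; rw [hee] at h; exact h)⟩
  obtain ⟨hfc, hfiso⟩ := D.toJMod.good_fix L (D.toJMod.good_U0 L)
  have hno : mk ee ∉ D.toJMod.fix X.F.U0 := by
    intro hmem
    have hρ := l.T.ρ_of_mem (n := en) (by
      rw [hen]; rw [hee] at hmem; exact mem_V_of_fix l hmem)
    rw [hρe, conj_eq_one_iff] at hρ
    exact h1 hρ
  obtain ⟨t, ht, hte⟩ : ∃ t : ↥(cE z), mk t ∈ D.toJMod.fix X.F.U0 ∧ pair ee t ≠ 0 := by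
    by_contra hcon
    push Not at hcon
    refine hno ?_
    rw [← D.toJMod.perp_self hfc hfiso]
    intro v hv
    obtain ⟨t, rfl⟩ := mk_surjective v
    exact hcon t hv
  have htV := mem_V_of_fix l ht
  refine ⟨en * ⟨(t : G), Subgroup.le_normalizer htV⟩, ?_, Subtype.ext ?_⟩
  · rw [map_mul, l.T.ρ_of_mem (n := ⟨(t : G), Subgroup.le_normalizer htV⟩) htV, mul_one]
  · rw [Subgroup.coe_mul, Subgroup.coe_mul, hen]
    show e * (t : G) * (e * (t : G)) = 1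
    have hzc : (t : G) * e * (t : G)⁻¹ = e * z := by
      have hc := comm_or D.hJ t ee
      rw [pair_symm] at hte
      rcases hc with hc | hc
      · exact absurd (pair_eq_zero.2 (Subtype.ext (mul_inv_eq_iff_eq_mul.1 (mul_inv_eq_one.1 hc)))) hte
      · rw [mul_inv_eq_iff_eq_mul] at hc
        rw [hee] at hc
        rw [hc]
        exact z_comm (cE_le z he)
    have ht2 : (t : G) * t = 1 := by rw [← pow_two]; exact l.T.isElementary.2 _ htV
    rw [show e * (t : G) * (e * t) = e * ((t : G) * e * (t : G)⁻¹) * ((t : G) * t) by group, hzc, ht2, mul_one,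
      ← mul_assoc]
    rw [hee] at h
    rw [show e * e = z from h, z_sq D.hJ]

include hS hC in
theorem sq_conj {h : G} (hn : h ∈ Subgroup.normalizer (l.T.V : Set G)) (h2 : h * h ∈ l.T.V) :
    ∃ v ∈ l.T.V, h * h = h * v * h⁻¹ * v := by
  obtain ⟨n, hndef⟩ : ∃ n : ↥(Subgroup.normalizer (l.T.V : Set G)), n = ⟨h, hn⟩ := ⟨_, rfl⟩
  have hρ2 : l.T.ρ n * l.T.ρ n = 1 := by
    rw [← map_mul]; exact l.T.ρ_of_mem (by rw [hndef]; exact h2)
  by_cases h1 : l.T.ρ n = 1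
  · have hV : h ∈ l.T.V := by have := l.T.mem_V_of_ρ h1; rwa [hndef] at this
    refine ⟨1, one_mem _, ?_⟩
    rw [mul_one, mul_one, mul_inv_cancel, ← pow_two, l.T.isElementary.2 _ hV]
  obtain ⟨n0, hn0, hn02⟩ := exists_invol_ρ l hS hC hρ2 h1
  have hv := l.T.mem_V_of_ρ (n := n0⁻¹ * n) (by rw [map_mul, map_inv, hn0, inv_mul_cancel])
  obtain ⟨v, hvdef⟩ : ∃ v, v = ((n0⁻¹ * n : ↥(Subgroup.normalizer (l.T.V : Set G))) : G) := ⟨_, rfl⟩
  refine ⟨v, hvdef ▸ hv, ?_⟩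
  have hv2 : v * v = 1 := by rw [← pow_two]; exact l.T.isElementary.2 _ (hvdef ▸ hv)
  have hh : h = (n0 : G) * v := by rw [hvdef, hndef]; simp
  have hn0' : (n0 : G) * n0 = 1 := congrArg Subtype.val hn02
  rw [hh, mul_inv_rev, show (n0 : G) * v * v * (v⁻¹ * (n0 : G)⁻¹) * v = (n0 : G) * v * (n0 : G)⁻¹ * v by group,
    inv_eq_of_mul_eq_one_right hn0', mul_assoc ((n0 : G) * v) (n0 : G) v]

include hS in
theorem no_z {h : G} (hn : Norms D X.F.U0 h) {v : G} (hv : v ∈ l.T.V) : h * v * h⁻¹ ≠ v * z := by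
  intro heq
  obtain ⟨hh, hp, -⟩ := id hn
  have hU := D.toJMod.good_U0 L
  obtain ⟨a, e0, he0, i, hi, hv'⟩ := V_decomp l hv
  obtain ⟨c', hc', hπ⟩ := conj_lift hh hp (l.x i)
  obtain ⟨s', hs'⟩ : ∃ s', s' = sec D (cEAut h hh e0) := ⟨_, rfl⟩
  have hs'' : h * (sec D e0 : G) * h⁻¹ = (s' : G) := by
    rw [hs', (hS G z P D X L _ hU).2.2.2 h hh hp e0 he0]; rfl
  have e1 : z ^ a * (s' : G) * (c' : G) = z ^ (a + 1) * (sec D e0 : G) * (l.x i : G) := by
    have hza : h * z ^ a * h⁻¹ = z ^ a := by rw [← conj_pow, z_conj hh]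
    calc z ^ a * (s' : G) * (c' : G) = h * v * h⁻¹ := by
          rw [hc', ← hs'', hv']
          nth_rewrite 1 [← hza]
          group
      _ = z ^ (a + 1) * (sec D e0 : G) * (l.x i : G) := by
          rw [heq, ← z_comm (V_le_cH l hv), hv', pow_succ', ← mul_assoc, ← mul_assoc]
  have hm : ∀ (b : ℕ) (s : ↥(cE z)) (c : ↥(cC z P)) (hb : z ^ b * (s : G) * c ∈ cH z),
      D.φ ⟨_, hb⟩ = MulAut.conj (D.π c) := fun b s c hb =>
    D.φ_inner (mul_mem (pow_mem (z_mem D.hJ) b) s.2) c rfl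
  have hb1 : z ^ a * (s' : G) * (c' : G) ∈ cH z :=
    mul_mem (mul_mem (pow_mem (cE_le z (z_mem D.hJ)) a) (cE_le z s'.2)) c'.2.1
  have hπ' : D.π c' = D.π (l.x i) := m22_conj_injective (by
    rw [← hm a s' c' hb1, ← hm (a + 1) (sec D e0) (l.x i) (e1 ▸ hb1)]
    congr 1
    exact Subtype.ext e1)
  obtain ⟨k, hk⟩ : ∃ k, k = (l.x i)⁻¹ * c' := ⟨_, rfl⟩
  have hk1 : D.π k = 1 := by rw [hk, map_mul, map_inv, hπ', inv_mul_cancel]
  have hc'2 : c' * c' = 1 := Subtype.ext (by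
    have hx : (l.x i : G) * l.x i = 1 := congrArg Subtype.val (l.x_sq i hi)
    rw [Subgroup.coe_mul, hc', show h * (l.x i : G) * h⁻¹ * (h * (l.x i : G) * h⁻¹)
      = h * ((l.x i : G) * l.x i) * h⁻¹ by group, hx, mul_one, mul_inv_cancel]; rfl)
  have hk2 : k * k = 1 := by
    have hcm : Commute k (l.x i) := D.toJMod.ker_comm k hk1 _
    have hce : c' = l.x i * k := by rw [hk, mul_inv_cancel_left]
    rwa [hce, show l.x i * k * (l.x i * k) = l.x i * (k * l.x i) * k by group, hcm.eq,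
      show l.x i * (l.x i * k) * k = (l.x i * l.x i) * (k * k) by group, l.x_sq i hi, one_mul] at hc'2
  have hcx : (c' : G) = (l.x i : G) * (k : G) := by rw [← Subgroup.coe_mul, hk, mul_inv_cancel_left]
  have hk0 : (k : G) = 1 := by
    rcases D.ker_two hk1 hk2 with hk' | hk'
    · exact hk'
    exfalso
    rw [hk'] at hcx
    by_cases hi0 : i = 0
    · subst hi0
      rw [x_zero_coe l, one_mul] at hcx
      rw [hc', x_zero_coe l, mul_one, mul_inv_cancel] at hcx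
      exact z_ne D.hJ hcx.symm
    · refine l.x_nz i hi hi0 ((hcx.symm ▸ l.x_z i hi hi0 : IsConj z (c' : G)).trans ?_)
      exact isConj_iff.2 ⟨h⁻¹, by rw [hc']; group⟩
  rw [hcx, hk0, mul_one, pow_succ, mul_assoc (z ^ a) z] at e1
  have e2 : (s' : G) = z * (sec D e0 : G) := mul_left_cancel (mul_right_cancel e1)
  obtain ⟨hmk, hcong, -, -⟩ := hS G z P D X L _ hU
  have he0' := fix_map hn hh he0
  have e3 : mk (cEAut h hh e0) = mk e0 := by
    rw [← (hmk _ he0').1, ← (hmk _ he0).1, ← hs']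
    refine (mk_eq D.hJ).2 (Or.inr ?_)
    rw [e2, z_comm (cE_le z (sec D e0).2), mul_assoc, z_sq D.hJ, mul_one]
  rw [hs', hcong _ _ he0' he0 e3] at e2
  exact z_ne D.hJ (mul_eq_right.1 e2.symm)

include l hS hC in
theorem invol_of_sq {h : G} (hn : Norms D X.F.U0 h) (h2 : h * h = 1 ∨ h * h = z) : h * h = 1 := by
  refine h2.resolve_right fun hz' => ?_
  obtain ⟨v, hv, e⟩ := sq_conj l hS hC (mem_N_of_norms l hn) (hz' ▸ z_mem_V l)
  refine no_z l hS hn hv ?_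
  have hv2 : v * v = 1 := by rw [← pow_two]; exact l.T.isElementary.2 _ hv
  rw [hz'] at e
  rw [← z_comm (V_le_cH l hv)]
  calc h * v * h⁻¹ = h * v * h⁻¹ * (v * v) := by rw [hv2, mul_one]
    _ = z * v := by rw [← mul_assoc, ← e]

include l hS hC in
/-- The three generators. -/
theorem exists_gens : ∃ a b h : G, a * a = 1 ∧ b * b = 1 ∧ (a * b) ^ 4 = 1 ∧ h * h = 1 ∧
    h * a = a * h ∧ h * b = b * h ∧ Moves D X a pA ∧ Moves D X b pB ∧ Moves D X h pD ∧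
    (∀ g ∈ ({a, b, h} : Set G), g ∈ nrm D X.F.U0 ∧ g ∈ nrm D (conjSub X.t₁ X.F.U0)) := by
  have hw := word_check
  simp only [Bool.and_eq_true, decide_eq_true_eq, List.all_eq_true, List.mem_range] at hw
  obtain ⟨⟨⟨⟨hA1, hB1⟩, hAw⟩, hBw⟩, hDw⟩ := hw
  obtain ⟨a, haπ, ha4, haM, ha0, ha1⟩ := exists_lift_norms (D := D) (X := X) X.AA (f := pA)
    (fun m hm => by rw [X.A_eq]; exact split_act hA1 hAw hm) X.A_norm
  obtain ⟨b, hbπ, hb4, hbM, hb0, hb1⟩ := exists_lift_norms (D := D) (X := X) X.BB (f := pB)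
    (fun m hm => by rw [X.B_eq]; exact split_act hB1 hBw hm) X.B_norm
  have ha2 : a * a = 1 := lift_sq l (by rw [haπ, X.AA]) ha4
  have hb2 : b * b = 1 := lift_sq l (by rw [hbπ, X.BB]) hb4
  have hab : (a * b) ^ 4 = 1 := by
    have hπ : D.π ((a * b) ^ 4) = 1 := by rw [map_pow, map_mul, haπ, hbπ, X.AB4]
    have hcomm := D.toJMod.ker_comm _ hπ a
    have ha' : a⁻¹ = a := inv_eq_of_mul_eq_one_right ha2
    have hb' : b⁻¹ = b := inv_eq_of_mul_eq_one_right hb2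
    have e : a * (a * b) ^ 4 * a⁻¹ = ((a * b) ^ 4)⁻¹ := by
      rw [← conj_pow, ← inv_pow, mul_inv_rev, ha', hb', ← mul_assoc a a b, ha2, one_mul]
    rw [← hcomm.eq, mul_inv_cancel_right] at e
    have h8 : ((a * b) ^ 2) ^ 4 = 1 := by
      rw [← pow_mul, show 2 * 4 = 4 + 4 from rfl, pow_add]
      nth_rewrite 2 [e]
      rw [mul_inv_cancel]
    have h2' : D.π ((a * b) ^ 2) * D.π ((a * b) ^ 2) = 1 := by
      rw [← map_mul, ← pow_add]; exact hπ
    rw [show (4 : ℕ) = 2 + 2 from rfl, pow_add]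
    exact lift_sq l h2' h8
  obtain ⟨h, hsq, hp, hh, hφ⟩ := exists_outer (D := D) (X := X)
  have hD0 : Moves D X h pD := ⟨hh, fun m hm => ⟨hDw m hm, by rw [hφ, X.δu m hm]; rfl⟩⟩
  have hh0 : h ∈ nrm D X.F.U0 := ⟨hh, Or.inr hp, fun u hu => by
    obtain ⟨m, hm, rfl⟩ := X.u_surj u hu
    rw [hφ, X.δu m hm]
    exact X.u_mem _ (hDw m hm)⟩
  have hh1 : h ∈ nrm D (conjSub X.t₁ X.F.U0) := ⟨hh, Or.inr hp, fun u hu => by
    rw [hφ]; exact X.δ_norm u hu⟩
  have hh2 : h * h = 1 := invol_of_sq l hS hC hh0 hsq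
  have hhi : h⁻¹ = h := inv_eq_of_mul_eq_one_right hh2
  have key : ∀ c : ↥(cC z P), c * c = 1 → (c : G) ∈ nrm D X.F.U0 → X.δ (D.π c) = D.π c →
      h * (c : G) = (c : G) * h := by
    intro c hc2 hc0 hδc
    obtain ⟨c', hc', hπ⟩ := conj_lift hh (Or.inr hp) c
    rw [hφ, hδc] at hπ
    have hc2' : (c : G) * c = 1 := congrArg Subtype.val hc2
    have hci : (c : G)⁻¹ = c := inv_eq_of_mul_eq_one_right hc2'
    obtain ⟨k, hk⟩ : ∃ k, k = c' * c := ⟨_, rfl⟩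
    have hk1 : D.π k = 1 := by
      rw [hk, map_mul, hπ, ← map_mul, hc2, map_one]
    have hkk : k * k = 1 := by
      have hcm : Commute k c := D.toJMod.ker_comm k hk1 c
      have hce : c' = k * c := by rw [hk, mul_assoc, hc2, mul_one]
      have hc'2 : c' * c' = 1 := Subtype.ext (by
        rw [Subgroup.coe_mul, hc', show h * (c : G) * h⁻¹ * (h * c * h⁻¹) = h * ((c : G) * c) * h⁻¹ by group,
          hc2', mul_one, mul_inv_cancel]; rfl)
      rwa [hce, hcm.symm.mul_mul_mul_comm, hc2, mul_one] at hc'2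
    have hkG : (k : G) = (h * (c : G)) * (h * c) := by
      rw [hk, Subgroup.coe_mul, hc', hhi, mul_assoc (h * (c : G))]
    have hsq' := invol_of_sq l hS hC (norms_mul hh0 hc0)
      (by rw [← hkG]; exact D.ker_two hk1 hkk)
    calc h * (c : G) = (h * (c : G))⁻¹ := (inv_eq_of_mul_eq_one_right hsq').symm
      _ = (c : G) * h := by rw [mul_inv_rev, hci, hhi]
  refine ⟨a, b, h, congrArg Subtype.val ha2, congrArg Subtype.val hb2, congrArg Subtype.val hab, hh2,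
    key a ha2 ha0 (by rw [haπ, X.δA]), key b hb2 hb0 (by rw [hbπ, X.δB]), haM, hbM, hD0, ?_⟩
  intro g hg
  simp only [Set.mem_insert_iff, Set.mem_singleton_iff] at hg
  rcases hg with rfl | rfl | rfl
  exacts [⟨ha0, ha1⟩, ⟨hb0, hb1⟩, ⟨hh0, hh1⟩]

theorem words_closure {a b h : G} (ha : a * a = 1) (hb : b * b = 1) (hab : (a * b) ^ 4 = 1) (hh : h * h = 1)
    (hha : h * a = a * h) (hhb : h * b = b * h) {g : G} (hg : g ∈ Subgroup.closure ({a, b, h} : Set G)) :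
    ∃ i j k, i < 4 ∧ j < 2 ∧ k < 2 ∧ g = (a * b) ^ i * b ^ j * h ^ k := by
  suffices ∃ i j k : ℕ, g = (a * b) ^ i * b ^ j * h ^ k by
    obtain ⟨i, j, k, rfl⟩ := this
    refine ⟨i % 4, j % 2, k % 2, Nat.mod_lt _ (by norm_num), Nat.mod_lt _ (by norm_num),
      Nat.mod_lt _ (by norm_num), ?_⟩
    rw [← pow_eq_pow_mod i hab, ← pow_eq_pow_mod j (by rw [pow_two, hb]), ← pow_eq_pow_mod k (by rw [pow_two, hh])]
  have hai : a⁻¹ = a := inv_eq_of_mul_eq_one_right ha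
  have hbi : b⁻¹ = b := inv_eq_of_mul_eq_one_right hb
  have hhi : h⁻¹ = h := inv_eq_of_mul_eq_one_right hh
  have h3 : (a * b) ^ 3 = b * a := by
    rw [show b * a = (a * b)⁻¹ by rw [mul_inv_rev, hai, hbi]]
    exact eq_inv_of_mul_eq_one_left (by rw [← pow_succ]; exact hab)
  have sa : SemiconjBy a (a * b) ((a * b) ^ 3) := by
    show a * (a * b) = (a * b) ^ 3 * a
    rw [h3, ← mul_assoc, ha, one_mul, mul_assoc, ha, mul_one]
  have sb : SemiconjBy b (a * b) ((a * b) ^ 3) := by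
    show b * (a * b) = (a * b) ^ 3 * b
    rw [h3, mul_assoc]
  have sh : SemiconjBy h (a * b) (a * b) := by
    show h * (a * b) = a * b * h
    rw [← mul_assoc, hha, mul_assoc, hhb, mul_assoc]
  have key : ∀ s ∈ ({a, b, h} : Set G), ∀ y : G, (∃ i j k : ℕ, y = (a * b) ^ i * b ^ j * h ^ k) →
      ∃ i j k : ℕ, s * y = (a * b) ^ i * b ^ j * h ^ k := by
    intro s hs y hy
    obtain ⟨i, j, k, rfl⟩ := hy
    simp only [Set.mem_insert_iff, Set.mem_singleton_iff] at hs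
    rcases hs with rfl | rfl | rfl
    · refine ⟨3 * i + 1, j + 1, k, ?_⟩
      rw [← mul_assoc, ← mul_assoc, (sa.pow_right i).eq, ← pow_mul, pow_succ, pow_succ', mul_assoc _ s (b ^ j)]
      congr 1
      rw [mul_assoc _ (s * b), show s * b * (b * b ^ j) = s * (b * b) * b ^ j by group, hb, mul_one]
    · refine ⟨3 * i, j + 1, k, ?_⟩
      rw [← mul_assoc, ← mul_assoc, (sb.pow_right i).eq, ← pow_mul, pow_succ', mul_assoc _ s (s ^ j)]
    · refine ⟨i, j, k + 1, ?_⟩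
      have hbj : Commute s (b ^ j) := (show Commute s b from hhb).pow_right j
      rw [← mul_assoc, ← mul_assoc, (sh.pow_right i).eq, mul_assoc _ s (b ^ j), hbj.eq, pow_succ']
      group
  induction hg using Subgroup.closure_induction_left with
  | one => exact ⟨0, 0, 0, by simp⟩
  | mul_left x hx y hy ih => exact key x hx y ih
  | inv_mul_cancel x hx y hy ih =>
    refine key x⁻¹ ?_ y ih
    simp only [Set.mem_insert_iff, Set.mem_singleton_iff] at hx ⊢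
    rcases hx with rfl | rfl | rfl
    · left; exact hai
    · right; left; exact hbi
    · right; right; exact hhi

theorem moves_word {a b h : G} (ha : Moves D X a pA) (hb : Moves D X b pB) (hh : Moves D X h pD) (i j k : ℕ) :
    Moves D X ((a * b) ^ i * b ^ j * h ^ k) (pR i j k) :=
  show Moves D X _ (((pA ∘ pB)^[i] ∘ pB^[j]) ∘ pD^[k]) from
    moves_mul (moves_mul (moves_pow (moves_mul ha hb) i) (moves_pow hb j)) (moves_pow hh k)

include l in
theorem u1_good : D.toJMod.Good (conjSub X.t₁ X.F.U0) := by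
  obtain ⟨c, hc⟩ := D.πsurj X.t₁
  have h := D.toJMod.good_map L (D.toJMod.good_U0 L) c
  rwa [show D.toJMod.π c = X.t₁ from hc] at h

/-- The section over the second plane. -/
def wSub (hU : D.toJMod.Good (conjSub X.t₁ X.F.U0)) (L : Lifts D.toJMod X.F) : Subgroup G where
  carrier := {g | ∃ e : ↥(cE z), mk e ∈ D.toJMod.fix (conjSub X.t₁ X.F.U0) ∧ g = (sec D e : G)}
  one_mem' := ⟨1, by rw [mk_one]; exact zero_mem _, by rw [sec_one]; rfl⟩
  mul_mem' := by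
    rintro _ _ ⟨e, he, rfl⟩ ⟨e', he', rfl⟩
    exact ⟨e * e', by rw [mk_mul]; exact add_mem he he', by
      rw [(hS G z P D X L _ hU).2.2.1 e e' he he']; rfl⟩
  inv_mem' := by
    rintro _ ⟨e, he, rfl⟩
    exact ⟨e, he, inv_eq_of_mul_eq_one_right ((hS G z P D X L _ hU).1 e he).2⟩

include hS in
theorem card_wSub (hU : D.toJMod.Good (conjSub X.t₁ X.F.U0)) : Nat.card ↥(wSub hS hU L) = 2 ^ 6 := by
  obtain ⟨hmk, hcong, -, -⟩ := hS G z P D X L _ hU
  rw [← (D.toJMod.good_fix L hU).1]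
  refine Nat.card_eq_of_bijective (fun w : ↥(wSub hS hU L) =>
    (⟨mk w.2.choose, w.2.choose_spec.1⟩ : ↥(D.toJMod.fix (conjSub X.t₁ X.F.U0)))) ⟨?_, ?_⟩
  · intro w w' h
    refine Subtype.ext ?_
    rw [w.2.choose_spec.2, w'.2.choose_spec.2]
    exact congrArg Subtype.val (hcong _ _ w.2.choose_spec.1 w'.2.choose_spec.1 (congrArg Subtype.val h))
  · rintro ⟨v, hv⟩
    obtain ⟨e, rfl⟩ := mk_surjective v
    refine ⟨⟨sec D e, e, hv, rfl⟩, Subtype.ext ?_⟩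
    have hsp := (⟨(sec D e : G), e, hv, rfl⟩ : ↥(wSub hS hU L)).2.choose_spec
    show mk _ = mk e
    exact (hmk _ hsp.1).1.symm.trans ((congrArg mk (Subtype.ext hsp.2.symm)).trans (hmk e hv).1)

include hS in
theorem wSub_inf (hP : PlanesStmt.{u}) (hU : D.toJMod.Good (conjSub X.t₁ X.F.U0)) {w : G}
    (hw : w ∈ wSub hS hU L) (hV : w ∈ l.T.V) : w = 1 := by
  obtain ⟨e, he, rfl⟩ := hw
  obtain ⟨e', he', c, hc, h4, heq⟩ := (l.mem_B _).1 hV
  have hπ : D.π c = 1 := by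
    apply m22_conj_injective
    rw [map_one, ← D.φ_inner (h := ⟨(sec D e : G), cE_le z (sec D e).2⟩) e'.2 c heq, D.φ_cE (sec D e).2]
  have hm : mk (sec D e) = mk e' := by
    rcases D.ker_two hπ (D.ker_four hπ h4) with h | h <;> rw [h] at heq
    · rw [mul_one] at heq; exact congrArg mk (Subtype.ext heq)
    · refine (mk_eq D.hJ).2 (Or.inr ?_)
      rw [heq, mul_assoc, z_sq D.hJ, mul_one]
  have hme : mk (sec D e) = mk e := ((hS G z P D X L _ hU).1 e he).1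
  have h0 := (hP G z P D X L l.f).2.1 (mk e) (by rw [← hme, hm]; exact he') he
  rw [sec_of_mk_zero h0]; rfl

include hS hC in
/-- A subgroup of order `2¹⁰` of the normaliser meeting the subgroup trivially. -/
theorem exists_two_complement (hP : PlanesStmt.{u}) : ∃ T : Subgroup G,
    T ≤ Subgroup.normalizer (l.T.V : Set G) ∧ (∀ g ∈ T, g ∈ l.T.V → g = 1) ∧ Nat.card ↥T = 1024 := by
  obtain ⟨a, b, h, ha, hb, hab, hh, hha, hhb, hMa, hMb, hMh, hgen⟩ := exists_gens l hS hC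
  obtain ⟨R, hRdef⟩ : ∃ R, R = Subgroup.closure ({a, b, h} : Set G) := ⟨_, rfl⟩
  have hR0 : R ≤ nrm D X.F.U0 := by rw [hRdef, Subgroup.closure_le]; exact fun g hg => (hgen g hg).1
  have hR1 : R ≤ nrm D (conjSub X.t₁ X.F.U0) := by
    rw [hRdef, Subgroup.closure_le]; exact fun g hg => (hgen g hg).2
  have hform : ∀ g ∈ R, ∃ i j k, i < 4 ∧ j < 2 ∧ k < 2 ∧ g = (a * b) ^ i * b ^ j * h ^ k := fun g hg =>
    words_closure ha hb hab hh hha hhb (by rwa [hRdef] at hg)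
  have hmem : ∀ i j k : ℕ, (a * b) ^ i * b ^ j * h ^ k ∈ R := fun i j k => by
    rw [hRdef]
    have hs : ∀ x ∈ ({a, b, h} : Set G), x ∈ Subgroup.closure ({a, b, h} : Set G) :=
      fun x hx => Subgroup.subset_closure hx
    exact mul_mem (mul_mem (pow_mem (mul_mem (hs a (by simp)) (hs b (by simp))) i) (pow_mem (hs b (by simp)) j))
      (pow_mem (hs h (by simp)) k)
  have htriv : ∀ g ∈ R, (∀ hg : g ∈ cH z, ∀ m, m < 16 → D.φ ⟨g, hg⟩ (X.u m) = X.u m) → g = 1 := by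
    intro g hg hfix
    obtain ⟨i, j, k, hi, hj, hk, rfl⟩ := hform g hg
    obtain ⟨hgH, hmv⟩ := moves_word hMa hMb hMh i j k
    obtain ⟨rfl, rfl, rfl⟩ := pR_inj hi hj hk (i' := 0) (j' := 0) (k' := 0) (by norm_num) (by norm_num)
      (by norm_num) (fun m hm => X.u_inj _ (hmv m hm).1 m hm (by rw [← (hmv m hm).2]; exact hfix hgH m hm))
    simp
  have hcardR : Nat.card ↥R = 16 := by
    let f : Fin 4 × Fin 2 × Fin 2 → ↥R := fun q => ⟨_, hmem q.1 q.2.1 q.2.2⟩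
    have hf : Function.Bijective f := by
      constructor
      · intro q q' he
        have he' := congrArg Subtype.val he
        obtain ⟨hq, hmv⟩ := moves_word hMa hMb hMh (q.1 : ℕ) (q.2.1 : ℕ) (q.2.2 : ℕ)
        obtain ⟨hq', hmv'⟩ := moves_word hMa hMb hMh (q'.1 : ℕ) (q'.2.1 : ℕ) (q'.2.2 : ℕ)
        obtain ⟨e1, e2, e3⟩ := pR_inj q.1.2 q.2.1.2 q.2.2.2 q'.1.2 q'.2.1.2 q'.2.2.2 fun m hm =>
          X.u_inj _ (hmv m hm).1 _ (hmv' m hm).1 (by
            rw [← (hmv m hm).2, ← (hmv' m hm).2]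
            exact congrArg (fun x => D.φ x (X.u m)) (Subtype.ext he'))
        exact Prod.ext (Fin.ext e1) (Prod.ext (Fin.ext e2) (Fin.ext e3))
      · rintro ⟨g, hg⟩
        obtain ⟨i, j, k, hi, hj, hk, rfl⟩ := hform g hg
        exact ⟨(⟨i, hi⟩, ⟨j, hj⟩, ⟨k, hk⟩), rfl⟩
    rw [← Nat.card_eq_of_bijective f hf, Nat.card_prod, Nat.card_prod, Nat.card_fin, Nat.card_fin]
  have hU := u1_good (D := D) l
  obtain ⟨W, hWdef⟩ : ∃ W, W = wSub hS hU L := ⟨_, rfl⟩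
  have hWE : W ≤ cE z := by
    intro w hw
    rw [hWdef] at hw
    obtain ⟨e, -, rfl⟩ := hw
    exact (sec D e).2
  have hRW : R ≤ Subgroup.normalizer (W : Set G) := by
    have key : ∀ r, Norms D (conjSub X.t₁ X.F.U0) r → ∀ w ∈ W, r * w * r⁻¹ ∈ W := by
      intro r hr w hw
      rw [hWdef] at hw ⊢
      obtain ⟨e, he, rfl⟩ := hw
      obtain ⟨rh, rp, -⟩ := id hr
      exact ⟨cEAut r rh e, fix_map hr rh he, by rw [(hS G z P D X L _ hU).2.2.2 r rh rp e he]; rfl⟩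
    intro r hr
    rw [Subgroup.mem_normalizer_iff]
    refine fun w => ⟨key r (hR1 hr) w, fun hw => ?_⟩
    have := key _ (norms_inv (hR1 hr)) _ hw
    simpa [mul_assoc] using this
  have hRWV : ∀ r ∈ R, ∀ w ∈ W, r * w ∈ l.T.V → r = 1 ∧ w = 1 := by
    intro r hr w hw hV
    have hr1 : r = 1 := by
      refine htriv r hr fun hrH m hm => ?_
      obtain ⟨i, hi, hφ⟩ := φ_V_exists l hV
      have : D.φ ⟨r, hrH⟩ = MulAut.conj (X.u i) := by
        rw [← hφ, show (⟨r * w, V_le_cH l hV⟩ : ↥(cH z)) = ⟨r, hrH⟩ * ⟨w, cE_le z (hWE hw)⟩ from rfl, map_mul,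
          D.φ_cE (hWE hw), mul_one]
      rw [this, MulAut.conj_apply, comm_of_sq_all X.F.sq0 (X.u_mem i hi) (X.u_mem m hm), mul_inv_cancel_right]
    rw [hr1, one_mul] at hV
    exact ⟨hr1, wSub_inf l hS hP hU (hWdef ▸ hw) hV⟩
  have hmemT : ∀ g, g ∈ R ⊔ W ↔ ∃ r ∈ R, ∃ w ∈ W, g = r * w := by
    intro g
    rw [← SetLike.mem_coe, Subgroup.coe_mul_of_left_le_normalizer_right R W hRW]
    exact ⟨fun ⟨r, hr, w, hw, e⟩ => ⟨r, hr, w, hw, e.symm⟩, fun ⟨r, hr, w, hw, e⟩ => ⟨r, hr, w, hw, e.symm⟩⟩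
  refine ⟨R ⊔ W, sup_le (fun r hr => mem_N_of_norms l (hR0 hr)) (fun w hw => cE_le_N l (hWE hw)), ?_, ?_⟩
  · intro g hg hV
    obtain ⟨r, hr, w, hw, rfl⟩ := (hmemT g).1 hg
    obtain ⟨rfl, rfl⟩ := hRWV r hr w hw hV
    exact mul_one 1
  · let f : ↥R × ↥W → ↥(R ⊔ W) := fun q => ⟨(q.1 : G) * q.2, Subgroup.mul_mem_sup q.1.2 q.2.2⟩
    have hf : Function.Bijective f := by
      constructor
      · rintro ⟨r, w⟩ ⟨r', w'⟩ he
        have he' : (r : G) * w = r' * w' := congrArg Subtype.val he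
        have he'' : (r' : G)⁻¹ * r * ((w : G) * (w' : G)⁻¹) = 1 := by
          rw [show (r' : G)⁻¹ * r * ((w : G) * (w' : G)⁻¹) = (r' : G)⁻¹ * ((r : G) * w) * (w' : G)⁻¹ by group,
            he']
          group
        obtain ⟨e1, e2⟩ := hRWV _ (mul_mem (inv_mem r'.2) r.2) _ (mul_mem w.2 (inv_mem w'.2))
          (by rw [he'']; exact one_mem _)
        exact Prod.ext (Subtype.ext (inv_mul_eq_one.1 e1).symm) (Subtype.ext (mul_inv_eq_one.1 e2))
      · rintro ⟨g, hg⟩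
        obtain ⟨r, hr, w, hw, rfl⟩ := (hmemT g).1 hg
        exact ⟨(⟨r, hr⟩, ⟨w, hw⟩), rfl⟩
    rw [← Nat.card_eq_of_bijective f hf, Nat.card_prod, hcardR, hWdef, card_wSub hS hU]
    norm_num

include hS hC in
theorem exists_complement (hP : PlanesStmt.{u}) :
    ∃ K : Subgroup G, K ≤ Subgroup.normalizer (l.T.V : Set G) ∧ K ⊓ l.T.V = ⊥ ∧
      K ⊔ l.T.V = Subgroup.normalizer (l.T.V : Set G) := by
  obtain ⟨T, hT, hTV, hTc⟩ := exists_two_complement l hS hC hP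
  set N := Subgroup.normalizer (l.T.V : Set G) with hN
  have hVN : l.T.V ≤ N := Subgroup.le_normalizer
  obtain ⟨Vn, hVn⟩ : ∃ Vn, Vn = l.T.V.subgroupOf N := ⟨_, rfl⟩
  obtain ⟨Tn, hTn⟩ : ∃ Tn, Tn = T.subgroupOf N := ⟨_, rfl⟩
  have hker : l.T.ρ.ker = Vn := by
    ext n
    rw [MonoidHom.mem_ker, hVn, Subgroup.mem_subgroupOf]
    exact ⟨l.T.mem_V_of_ρ, l.T.ρ_of_mem⟩
  have : Vn.Normal := hker ▸ MonoidHom.normal_ker _
  have : IsMulCommutative Vn := ⟨⟨fun x y => Subtype.ext (Subtype.ext (by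
    obtain ⟨i, hi, h1⟩ := (l.T.mem_V _).1 (show ((x : ↥N) : G) ∈ l.T.V by
      have := x.2; simp only [hVn, Subgroup.mem_subgroupOf] at this; exact this)
    obtain ⟨j, hj, h2⟩ := (l.T.mem_V _).1 (show ((y : ↥N) : G) ∈ l.T.V by
      have := y.2; simp only [hVn, Subgroup.mem_subgroupOf] at this; exact this)
    simp only [Subgroup.coe_mul]
    rw [← h1, ← h2, l.T.el_comm hi hj]))⟩⟩
  have hTdis : Tn ⊓ Vn = ⊥ := by
    rw [eq_bot_iff]
    intro n hn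
    rw [hTn, hVn] at hn
    exact Subgroup.mem_bot.2 (Subtype.ext (hTV _ hn.1 hn.2))
  have hTnc : Nat.card ↥(Tn.map l.T.ρ) = 1024 := by
    rw [← hTc, ← Nat.card_congr (Subgroup.subgroupOfEquivOfLe hT).toEquiv, ← hTn]
    refine (Nat.card_eq_of_bijective
      (fun x : ↥Tn => (⟨l.T.ρ x, x, x.2, rfl⟩ : ↥(Tn.map l.T.ρ))) ⟨?_, ?_⟩).symm
    · intro x y hxy
      have h1 : l.T.ρ ((x : ↥N)⁻¹ * y) = 1 := by
        rw [map_mul, map_inv, inv_mul_eq_one]; exact congrArg Subtype.val hxy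
      have h2 : (x : ↥N)⁻¹ * y ∈ Tn ⊓ Vn :=
        Subgroup.mem_inf.2 ⟨mul_mem (inv_mem x.2) y.2, hker ▸ MonoidHom.mem_ker.2 h1⟩
      rw [hTdis, Subgroup.mem_bot, inv_mul_eq_one] at h2
      exact Subtype.ext h2
    · rintro ⟨_, x, hx, rfl⟩
      exact ⟨⟨x, hx⟩, rfl⟩
  have hidx : (Vn ⊔ Tn).index = 239085 := by
    have h1 : (Tn.map l.T.ρ).comap l.T.ρ = Vn ⊔ Tn := by rw [Subgroup.comap_map_eq, hker, sup_comm]
    rw [← h1, Subgroup.index_comap_of_surjective _ l.T.ρ_surj]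
    have h2 := (Tn.map l.T.ρ).card_mul_index
    rw [hTnc, Cfsg.Agent.Lib.Golay.card_M24] at h2
    omega
  have hcV : Nat.card ↥Vn = 2 ^ 11 := by
    rw [hVn, Nat.card_congr (Subgroup.subgroupOfEquivOfLe hVN).toEquiv, l.T.card_V]
  obtain ⟨H, hH⟩ := Gaschutz.exists_complement Vn (Vn ⊔ Tn) le_sup_left (by rw [hidx, hcV]; norm_num) Tn
    le_sup_right hTdis rfl
  refine ⟨H.map N.subtype, Subgroup.map_subtype_le H, ?_, ?_⟩
  · rw [eq_bot_iff]
    rintro g ⟨⟨n, hn, rfl⟩, hg⟩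
    have h1 : n ∈ Vn ⊓ H := Subgroup.mem_inf.2 ⟨by rw [hVn, Subgroup.mem_subgroupOf]; exact hg, hn⟩
    rw [disjoint_iff.1 hH.disjoint, Subgroup.mem_bot] at h1
    rw [h1]; exact one_mem _
  · conv_lhs => rw [← Subgroup.map_subgroupOf_eq_of_le hVN, ← hVn]
    rw [← Subgroup.map_sup, sup_comm, hH.sup_eq_top, ← MonoidHom.range_eq_map, Subgroup.range_subtype]

include hS in
theorem hW_of_complement {K : Subgroup G} (hle : K ≤ Subgroup.normalizer (l.T.V : Set G))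
    (hinf : K ⊓ l.T.V = ⊥)
    (hiso : ∀ σ : ↥Cfsg.M24, ∃ k : ↥(Subgroup.normalizer (l.T.V : Set G)), (k : G) ∈ K ∧ l.T.ρ k = σ)
    (k : ↥(Subgroup.normalizer (l.T.V : Set G))) (hk : (k : G) ∈ K)
    (hW : InW ((l.T.ρ k : ↥Cfsg.M24) : Equiv.Perm GolayPt)) : (k : G) ∈ twoCoreOfCentralizer z := by
  obtain ⟨e, he, hev⟩ := exists_E_of_InW l hS hW
  obtain ⟨ee, hee⟩ : ∃ ee : ↥(cE z), ee = ⟨e, he⟩ := ⟨_, rfl⟩
  obtain ⟨e0, he0⟩ : ∃ e0, e0 = cEAut D.p D.pH ee := ⟨_, rfl⟩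
  have hpN : D.p ∈ Subgroup.normalizer (l.T.V : Set G) := mem_N_of_norms l (p_mem_nrm _)
  obtain ⟨pn, hpn⟩ : ∃ pn : ↥(Subgroup.normalizer (l.T.V : Set G)), pn = ⟨D.p, hpN⟩ := ⟨_, rfl⟩
  obtain ⟨en, hen⟩ : ∃ en : ↥(Subgroup.normalizer (l.T.V : Set G)), en = ⟨e, cE_le_N l he⟩ := ⟨_, rfl⟩
  obtain ⟨fn, hfn⟩ : ∃ fn : ↥(Subgroup.normalizer (l.T.V : Set G)), fn = ⟨(e0 : G), cE_le_N l e0.2⟩ := ⟨_, rfl⟩
  have hρk : l.T.ρ k = l.T.ρ en := by
    have h := l.T.ρ_of_mem (n := en⁻¹ * k) (by rw [hen]; exact hev)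
    rw [map_mul, map_inv, inv_mul_eq_one] at h
    exact h.symm
  have hcomm : l.T.ρ (fn * pn * fn⁻¹ * pn⁻¹) = l.T.ρ en := by
    obtain ⟨f, hf⟩ : ∃ f : ↥(cE z), f = e0 * (cEAut D.p D.pH e0)⁻¹ := ⟨_, rfl⟩
    have hmf : mk f = mk ee := by
      have hneg : ∀ g : ↥(cE z), mk g⁻¹ = mk g := fun g => by
        rw [← D.toJMod.neg_eq (mk g)]
        refine eq_neg_of_add_eq_zero_left ?_
        rw [← mk_mul, inv_mul_cancel, mk_one]
      rw [hf, mk_mul, hneg, ← D.smul_p_mk, he0, ← D.smul_p_mk]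
      have h := D.toJMod.ω_sum (mk ee)
      rw [add_assoc, add_eq_zero_iff_eq_neg, D.toJMod.neg_eq] at h
      exact h.symm
    have hfe : (f : G) = ((fn * pn * fn⁻¹ * pn⁻¹ : ↥(Subgroup.normalizer (l.T.V : Set G))) : G) := by
      rw [hf, hfn, hpn]
      simp [cEAut, mul_assoc]
    have hV : ((en⁻¹ * (fn * pn * fn⁻¹ * pn⁻¹) : ↥(Subgroup.normalizer (l.T.V : Set G))) : G) ∈ l.T.V := by
      rw [Subgroup.coe_mul, ← hfe, Subgroup.coe_inv, hen]
      rcases (mk_eq D.hJ).1 hmf.symm with h | h <;> rw [hee] at h <;> rw [h]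
      · rw [inv_mul_cancel]; exact one_mem _
      · rw [inv_mul_cancel_left]; exact z_mem_V l
    have h := l.T.ρ_of_mem hV
    rw [map_mul, map_inv, inv_mul_eq_one] at h
    exact h.symm
  obtain ⟨k0, hk0, hk0ρ⟩ := hiso (l.T.ρ fn)
  obtain ⟨q, hq, hqρ⟩ := hiso (l.T.ρ pn)
  have hkq : (k : G) = (k0 : G) * q * (k0 : G)⁻¹ * (q : G)⁻¹ := by
    have hV := l.T.mem_V_of_ρ (n := (k0 * q * k0⁻¹ * q⁻¹)⁻¹ * k) (by
      rw [map_mul, map_inv, inv_mul_eq_one, hρk, ← hcomm]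
      simp only [map_mul, map_inv, hk0ρ, hqρ])
    simp only [Subgroup.coe_mul, Subgroup.coe_inv] at hV
    have hK : (((k0 : G) * q * (k0 : G)⁻¹ * (q : G)⁻¹))⁻¹ * (k : G) ∈ K ⊓ l.T.V :=
      Subgroup.mem_inf.2 ⟨mul_mem (inv_mem (mul_mem (mul_mem (mul_mem hk0 hq) (inv_mem hk0)) (inv_mem hq))) hk, hV⟩
    rw [hinf, Subgroup.mem_bot, inv_mul_eq_one] at hK
    exact hK.symm
  have hφ : ∀ g : ↥(Subgroup.normalizer (l.T.V : Set G)), ∀ g0 : G, ∀ h0 : g0 ∈ cH z,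
      D.φ ⟨g0, h0⟩ = 1 → g0⁻¹ * (g : G) ∈ l.T.V →
      ∃ hg : (g : G) ∈ cH z, ∃ i, i < 16 ∧ D.φ ⟨(g : G), hg⟩ = MulAut.conj (X.u i) := by
    intro g g0 h0 h1 hV
    obtain ⟨i, hi, hφi⟩ := φ_V_exists l hV
    have hg : (g : G) ∈ cH z := by
      have := mul_mem h0 (V_le_cH l hV)
      rwa [mul_inv_cancel_left] at this
    refine ⟨hg, i, hi, ?_⟩
    rw [← hφi, show (⟨(g : G), hg⟩ : ↥(cH z)) = ⟨g0, h0⟩ * ⟨g0⁻¹ * (g : G), V_le_cH l hV⟩ from
      Subtype.ext (mul_inv_cancel_left _ _).symm, map_mul, h1, one_mul]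
  obtain ⟨hkH, i, hi, hki⟩ := hφ k e (cE_le z he) (D.φ_cE he) hev
  obtain ⟨hk0H, i0, hi0, hk0i⟩ := hφ k0 e0 (cE_le z e0.2) (D.φ_cE e0.2) (by
    have h := l.T.mem_V_of_ρ (n := fn⁻¹ * k0) (by rw [map_mul, map_inv, hk0ρ, inv_mul_cancel])
    rw [hfn] at h
    exact h)
  obtain ⟨hqH, iq, hiq, hqi⟩ := hφ q D.p D.pH
    ((D.φ_eq ⟨D.p, D.pH⟩).2 ⟨1, one_mem _, D.p, D.p_mem, (one_mul _).symm⟩) (by
      have h := l.T.mem_V_of_ρ (n := pn⁻¹ * q) (by rw [map_mul, map_inv, hqρ, inv_mul_cancel])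
      rw [hpn] at h
      exact h)
  have hki1 : MulAut.conj (X.u i) = 1 := by
    rw [← hki, show (⟨(k : G), hkH⟩ : ↥(cH z)) = ⟨_, hk0H⟩ * ⟨_, hqH⟩ * ⟨_, hk0H⟩⁻¹ * ⟨_, hqH⟩⁻¹ from
      Subtype.ext hkq]
    simp only [map_mul, map_inv, hk0i, hqi]
    rw [← map_mul, comm_of_sq_all X.F.sq0 (X.u_mem i0 hi0) (X.u_mem iq hiq), map_mul]
    group
  obtain ⟨a, e1, -, j, hj, hvd⟩ := V_decomp l hev
  have hj0 : j = 0 := by
    refine X.u_inj j hj 0 (by norm_num) (m22_conj_injective ?_)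
    have hmul : (⟨(k : G), hkH⟩ : ↥(cH z)) = ⟨e, cE_le z he⟩ * ⟨e⁻¹ * (k : G), V_le_cH l hev⟩ :=
      Subtype.ext (mul_inv_cancel_left _ _).symm
    have h1 := congrArg D.φ hmul
    rw [map_mul, D.φ_cE he, one_mul, φ_V l hev hvd hj, hki, hki1] at h1
    rw [← h1, u_zero X, map_one]
  subst hj0
  rw [x_zero_coe l, mul_one] at hvd
  show (k : G) ∈ cE z
  rw [show (k : G) = e * (e⁻¹ * (k : G)) from (mul_inv_cancel_left _ _).symm, hvd]
  exact mul_mem he (mul_mem (pow_mem (z_mem D.hJ) a) (sec D e1).2)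

end Facts

end Split

/-- The normaliser splits, and the data for the classes. -/
theorem split_of_facts (hS : SecStmt.{u}) (hP : PlanesStmt.{u}) (hC : CoverStmt) : SplitStmt.{u} := by
  intro G _ _ _ z P D X L l
  obtain ⟨K, hle, hinf, hsup⟩ := Split.exists_complement l hS hC hP
  have hiso : ∀ σ : ↥Cfsg.M24, ∃ k : ↥(Subgroup.normalizer (l.T.V : Set G)), (k : G) ∈ K ∧ l.T.ρ k = σ := by
    intro σ
    obtain ⟨n, rfl⟩ := l.T.ρ_surj σ
    have hn : (n : G) ∈ ((K ⊔ l.T.V : Subgroup G) : Set G) := by rw [hsup]; exact n.2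
    rw [Subgroup.coe_mul_of_left_le_normalizer_right K l.T.V hle] at hn
    obtain ⟨k, hk, v, hv, hkv⟩ := hn
    refine ⟨⟨k, hle hk⟩, hk, ?_⟩
    have hkv' : n = ⟨k, hle hk⟩ * ⟨v, Subgroup.le_normalizer hv⟩ := Subtype.ext hkv.symm
    rw [hkv', map_mul, l.T.ρ_of_mem (n := ⟨v, _⟩) hv, mul_one]
  refine ⟨{ K := K, le := hle, inf := hinf, sup := hsup, iso := hiso,
            hW := Split.hW_of_complement l hS hle hinf hiso, hX := ?_, hE := ?_, hN := ?_, conj := l.conjB }⟩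
  · intro a ha
    rw [l.el_eq a (by omega), show a / 128 = 0 by omega, Split.x_zero_coe l]
    exact mul_mem (mul_mem (pow_mem (z_mem D.hJ) _) (secV D _).2) (mul_mem (one_mem _) (pow_mem (z_mem D.hJ) _))
  · intro e he h2
    obtain ⟨U, hU, hUe⟩ := (hP G z P D X L l.f).2.2 ⟨e, he⟩ (Subtype.ext h2)
    obtain ⟨g, -, hg⟩ := D.toJMod.good_conj L hU (IsPGroup.of_card (n := 4) (by rw [hU.1]; norm_num)) le_rfl
    obtain ⟨c, rfl⟩ := D.πsurj g
    refine ⟨c, Split.mem_V_of_fix l (e := cEAut (c : G) c.2.1 ⟨e, he⟩) ?_⟩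
    rw [← smul_mk]
    refine D.toJMod.mem_fix_smul ?_ hUe
    intro x hx
    rw [← hg] at hx
    obtain ⟨y, hy, rfl⟩ := hx
    show (D.π c)⁻¹ * _ * D.π c ∈ U
    simpa [mul_assoc] using (show y ∈ U from hy)
  · intro u hu
    have : Fact (Nat.Prime 2) := ⟨Nat.prime_two⟩
    have hG : IsOfJankoFourType G := ⟨z, P, D.hJ⟩
    have hz2 : IsPGroup 2 ↥(Subgroup.zpowers u) := fun x => ⟨1, Subtype.ext (by
      obtain ⟨n, hn⟩ := Subgroup.mem_zpowers_iff.1 x.2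
      rw [SubgroupClass.coe_pow, pow_one, ← hn, ← zpow_natCast, ← zpow_mul, mul_comm, zpow_mul, zpow_natCast,
        pow_two, hu, one_zpow]; rfl)⟩
    obtain ⟨S, hS'⟩ := hz2.exists_le_sylow
    obtain ⟨V', ⟨hVS, hVel, hVc⟩, hVu⟩ := exists_unique_elementary hG S
    have huS : u ∈ (S : Subgroup G) := hS' (Subgroup.mem_zpowers u)
    have hconj : V'.map (MulAut.conj u).toMonoidHom = V' := by
      refine hVu _ ⟨?_, isElementary_map hVel u, ?_⟩
      · rintro _ ⟨v, hv, rfl⟩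
        exact mul_mem (mul_mem huS (hVS hv)) (inv_mem huS)
      · rw [← Nat.card_congr (conjIso V' u).toEquiv, hVc]
    have huN : u ∈ Subgroup.normalizer (V' : Set G) := by
      rw [Subgroup.mem_normalizer_iff]
      intro v
      conv_rhs => rw [← hconj]
      rw [mem_map_conj]
      simp [mul_assoc]
    obtain ⟨g, rfl⟩ := l.conjB V' hVel hVc
    refine ⟨g⁻¹, ?_⟩
    rw [normalizer_map_conj, mem_map_conj] at huN
    rwa [inv_inv]

end Cfsg.Agent.Lib.J4Two56
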