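import Cfsg.Agent.Lib.J4Two56.Cover
import Cfsg.Agent.Lib.J4Two56.Sec
import Cfsg.Agent.Lib.J4Two56.Split
import Cfsg.Agent.Lib.J4Two56.Planes

/-!
# The classes and the splitting, with the cover and the section discharged
-/

set_option autoImplicit false

universe u

namespace Cfsg.Agent.Lib.J4Two56

/-- The two classes of involutions. -/
theorem classes : ClassesStmt.{u} := classes_of_facts @cover

/-- The normalisers split, given the planes. -/
theorem splitStmt_of_planes (hP : PlanesStmt.{u}) : SplitStmt.{u} := split_of_facts secStmt hP @cover

/-- The normalisers split. -/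
theorem splitStmt : SplitStmt.{u} := splitStmt_of_planes planesStmt

end Cfsg.Agent.Lib.J4Two56
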