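import Cfsg.Agent.Lib.J4Two56.Exists
import Cfsg.Agent.Lib.J4Two56.FrameExists
import Cfsg.Agent.Lib.J4Two56.Planes
import Cfsg.Agent.Lib.J4Two56.SplitGlue
import Cfsg.Agent.Lib.J4Two56.CentQD
import Cfsg.Agent.Lib.J4Two56.Dihedral
import Cfsg.Agent.Lib.J4Two56.M22Gen
import Cfsg.Agent.Lib.J4Fusion14.Glue

/-!
# The elementary subgroup of order `2 ^ 11`: the results
-/

set_option autoImplicit false

universe u

namespace Cfsg.Agent.Lib.J4Two56

open Cfsg Cfsg.Agent.Lib Cfsg.Agent.Lib.J4Type19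

attribute [local instance] m22_finite

variable {G : Type u} [Group G] [Finite G] [IsSimpleGroup G]

/-- Coordinates with the splitting and the centralisers of pair elements. -/
theorem exists_loc_split (hspec : SpecStmt.{u}) (hG : ¬ IsMulCommutative G) {z : G} {P : Subgroup G}
    (hJ : IsOfJankoFourTypeWith z P) :
    ∃ (D : HData z P) (X : Plus M22t) (L : Lifts D.toJMod X.F) (l : Loc D X L),
      Nonempty (Split56 G z l.T) ∧ l.T.CentD := by
  obtain ⟨D, -, hmain, -⟩ := J4Fusion14.exists_package hG hJ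
  obtain ⟨X⟩ := exists_plus
  obtain ⟨L⟩ := D.toJMod.exists_lifts X.F
  obtain ⟨f⟩ := exists_frame56 G z P D X L
  obtain ⟨B, hB, hmem⟩ := exists_B L
  obtain ⟨d⟩ := hspec G z P D X ⟨L, f, B, hB, hmem, secStmt⟩ hmain
  obtain ⟨l⟩ := loc_of_spec _ d
  exact ⟨D, X, L, l, splitStmt G z P D X L l,
    Todd.cent_le l.T (centQDStmt planesStmt G z P D X L l)⟩

/-- The normaliser of the subgroup of order `2 ^ 11`. -/
theorem normalizer_of (hspec : SpecStmt.{u}) (hG : ¬ IsMulCommutative G) (hJ : IsOfJankoFourType G)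
    (V : Subgroup G) (hV : Cfsg.IsElementaryAbelian 2 V) (hc : Nat.card ↥V = 2 ^ 11) :
    Subgroup.centralizer (V : Set G) ≤ V ∧ ∃ K : Subgroup G, K ≤ Subgroup.normalizer (V : Set G) ∧
      K ⊓ V = ⊥ ∧ K ⊔ V = Subgroup.normalizer (V : Set G) ∧ Cfsg.Spor.IsoM24 ↥K := by
  obtain ⟨z, P, hJP⟩ := hJ
  obtain ⟨D, X, L, l, ⟨S⟩, hD⟩ := exists_loc_split hspec hG hJP
  obtain ⟨-, h1, h2⟩ := orbits G z l.T S hD V hV hc
  exact ⟨h1, h2⟩

/-- The orbits on the subgroup of order `2 ^ 11`. -/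
theorem orbits_of (hspec : SpecStmt.{u}) (hG : ¬ IsMulCommutative G) (z : G) (hJ : IsOfJankoFourTypeAt z)
    (V : Subgroup G) (hV : Cfsg.IsElementaryAbelian 2 V) (hc : Nat.card ↥V = 2 ^ 11) :
    ∃ z' t : G, z' ∈ V ∧ t ∈ V ∧ t ≠ 1 ∧ IsConj z z' ∧ ¬ IsConj z t ∧
      Set.ncard {v : G | ∃ n ∈ Subgroup.normalizer (V : Set G), n * z' * n⁻¹ = v} = 1771 ∧
      Set.ncard {v : G | ∃ n ∈ Subgroup.normalizer (V : Set G), n * t * n⁻¹ = v} = 276 ∧
      Subgroup.centralizer ({t} : Set G) ≤ Subgroup.normalizer (V : Set G) := by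
  obtain ⟨P, hJP⟩ := hJ
  obtain ⟨D, X, L, l, ⟨S⟩, hD⟩ := exists_loc_split hspec hG hJP
  exact (orbits G z l.T S hD V hV hc).1

/-- The centraliser of an involution of the second class. -/
theorem second_of (hspec : SpecStmt.{u}) (hG : ¬ IsMulCommutative G) (z : G) (hJ : IsOfJankoFourTypeAt z)
    (t : G) (ht : orderOf t = 2) (hnc : ¬ IsConj z t) :
    ∃ V K : Subgroup G, V ≤ Subgroup.centralizer ({t} : Set G) ∧ K ≤ Subgroup.centralizer ({t} : Set G) ∧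
      Subgroup.centralizer ({t} : Set G) ≤ Subgroup.normalizer (V : Set G) ∧
      Cfsg.IsElementaryAbelian 2 V ∧ Nat.card ↥V = 2 ^ 11 ∧
      K ⊓ V = ⊥ ∧ K ⊔ V = Subgroup.centralizer ({t} : Set G) ∧ Nonempty (↥K ≃* MulAut ↥Cfsg.Spor.M22) := by
  obtain ⟨P, hJP⟩ := hJ
  obtain ⟨D, X, L, l, ⟨S⟩, hD⟩ := exists_loc_split hspec hG hJP
  exact classes G z l.T S hD t ht hnc

end Cfsg.Agent.Lib.J4Two56
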