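import Cfsg.Agent.Lib.J4Two56.BNorm

/-!
# Uniqueness in Sylow subgroups, and the order of the stabiliser of `z`
-/

set_option autoImplicit false
set_option linter.unusedSectionVars false

universe u

namespace Cfsg.Agent.Lib.J4Two56

open Cfsg Cfsg.Agent.Lib.J4Type19 Cfsg.Agent.Lib.J4Fusion14

attribute [local instance] m22_finite

variable {G : Type u} [Group G] [Finite G] {z : G} {P : Subgroup G}
variable {D : HData z P} {X : Plus M22t} (L : Lifts D.toJMod X.F)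
variable {B : Subgroup G} (hB : Elem11 z B) (hmem : ∀ b, b ∈ B ↔ D.InSpan X.F.U0 b)
include L hB hmem

theorem elemAb_B : Cfsg.IsElementaryAbelian 2 B :=
  ⟨⟨⟨fun p q => Subtype.ext (comm_of_sq_all hB.2.1 p.2 q.2)⟩⟩, fun a ha => by rw [pow_two]; exact hB.2.1 a ha⟩

theorem elemAb_conj (g : G) :
    Cfsg.IsElementaryAbelian 2 (conjSub g B) ∧ Nat.card ↥(conjSub g B) = 2 ^ 11 := by
  have hsq : ∀ a ∈ conjSub g B, a * a = 1 := by
    rintro _ ⟨b, hb, rfl⟩
    rw [← map_mul, hB.2.1 b hb, map_one]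
  refine ⟨⟨⟨⟨fun p q => Subtype.ext (comm_of_sq_all hsq p.2 q.2)⟩⟩, fun a ha => by rw [pow_two]; exact hsq a ha⟩, ?_⟩
  rw [← hB.2.2]
  exact (Nat.card_congr (Subgroup.equivMapOfInjective B _ (MulAut.conj g).injective).toEquiv).symm

theorem uniq_B {g : G} (h : ∀ v ∈ B, g * v * g⁻¹ ∈ Subgroup.normalizer (B : Set G)) :
    g ∈ Subgroup.normalizer (B : Set G) := by
  have : Fact (Nat.Prime 2) := ⟨Nat.prime_two⟩
  have hle : conjSub g B ≤ Subgroup.normalizer (B : Set G) := by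
    rintro _ ⟨v, hv, rfl⟩
    exact h v hv
  have hc := elemAb_conj L hB hmem g
  have h2 : IsPGroup 2 ↥(conjSub g B) := IsPGroup.of_card hc.2
  have hB2 : IsPGroup 2 ↥B := IsPGroup.of_card hB.2.2
  obtain ⟨T, hT⟩ := (h2.to_sup_of_normal_right' hB2 hle).exists_le_sylow
  obtain ⟨V, -, hu⟩ := exists_unique_elementary ⟨z, P, D.hJ⟩ T
  have e1 := hu B ⟨le_sup_right.trans hT, elemAb_B L hB hmem, hB.2.2⟩
  have e2 := hu (conjSub g B) ⟨le_sup_left.trans hT, hc.1, hc.2⟩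
  exact mem_normalizer_of_conjSub (e2.trans e1.symm)

theorem conj_of_elemAb {V : Subgroup G} (hV : Cfsg.IsElementaryAbelian 2 V) (hc : Nat.card ↥V = 2 ^ 11) :
    ∃ g : G, V = B.map (MulAut.conj g).toMonoidHom := by
  have : Fact (Nat.Prime 2) := ⟨Nat.prime_two⟩
  obtain ⟨T, hT⟩ := (IsPGroup.of_card hc : IsPGroup 2 ↥V).exists_le_sylow
  obtain ⟨T₂, hT₂⟩ := (IsPGroup.of_card hB.2.2 : IsPGroup 2 ↥B).exists_le_sylow
  obtain ⟨g, hg⟩ := MulAction.exists_smul_eq G T₂ T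
  obtain ⟨W, -, hu⟩ := exists_unique_elementary ⟨z, P, D.hJ⟩ T
  refine ⟨g, (hu V ⟨hT, hV, hc⟩).trans (hu _ ⟨?_, elemAb_conj L hB hmem g⟩).symm⟩
  rw [← hg, Sylow.coe_subgroup_smul]
  rintro _ ⟨b, hb, rfl⟩
  exact ⟨b, hT₂ hb, rfl⟩

omit L hB hmem in
theorem φ_surjective (D : HData z P) : Function.Surjective D.φ := by
  intro α
  have hidx : (Inn M22t).index = 2 := Compute.Mathieu.card_out_M22
  by_cases hα : α ∈ Inn M22t
  · obtain ⟨m, rfl⟩ := hα
    obtain ⟨c, rfl⟩ := D.πsurj m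
    exact ⟨_, (D.π_eq c).symm⟩
  · obtain ⟨m, hm⟩ : (D.φ D.t)⁻¹ * α ∈ Inn M22t :=
      (Subgroup.mul_mem_iff_of_index_two hidx).2 (iff_of_false (fun h => D.φt (inv_mem_iff.1 h)) hα)
    obtain ⟨c, rfl⟩ := D.πsurj m
    exact ⟨D.t * ⟨(c : G), c.2.1⟩, by rw [map_mul, ← D.π_eq, hm, mul_inv_cancel_left]⟩

omit L hB hmem in
theorem card_cH (D : HData z P) : Nat.card ↥(cH z) = 2 ^ 13 * 3 * 887040 := by
  have h := D.φ.ker.card_mul_index
  rw [Subgroup.index_ker, MonoidHom.range_eq_top.2 (φ_surjective D), Subgroup.card_top, card_mulAut_M22] at h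
  let m : ↥(cE z) × ↥P → ↥D.φ.ker := fun q =>
    ⟨⟨(q.1 : G) * (q.2 : G), mul_mem (cE_le z q.1.2) (by
      rcases (D.mem_P _).1 q.2.2 with e | e | e <;> rw [e]
      exacts [one_mem _, D.pH, mul_mem D.pH D.pH])⟩, (D.φ_eq _).2 ⟨q.1, q.1.2, q.2, q.2.2, rfl⟩⟩
  have hm : Function.Bijective m := by
    constructor
    · rintro ⟨e, q⟩ ⟨e', q'⟩ he
      have h' : (e : G) * q = e' * q' := congrArg (fun x : ↥D.φ.ker => ((x : ↥(cH z)) : G)) he
      have hmem' : (q' : G) * (q : G)⁻¹ ∈ cE z := by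
        rw [show (q' : G) * (q : G)⁻¹ = (e' : G)⁻¹ * e from by
          rw [eq_comm, inv_mul_eq_iff_eq_mul, ← mul_assoc, ← h', mul_inv_cancel_right]]
        exact mul_mem (inv_mem e'.2) e.2
      obtain ⟨j, hj⟩ : ∃ j : ℕ, (q' : G) * (q : G)⁻¹ = D.p ^ j := by
        rcases (D.mem_P _).1 (mul_mem q'.2 (inv_mem q.2)) with e | e | e
        exacts [⟨0, by simp [e]⟩, ⟨1, by simp [e]⟩, ⟨2, by rw [pow_two]; exact e⟩]
      have h1 : D.p ^ j = 1 := D.sq_order j (by rw [mul_comm, pow_mul]; exact pow_mem (hj ▸ hmem') 2)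
      have hq : q = q' := Subtype.ext (mul_inv_eq_one.1 (hj.trans h1)).symm
      subst hq
      exact Prod.ext (Subtype.ext (mul_right_cancel h')) rfl
    · rintro ⟨x, hx⟩
      obtain ⟨e, he, q, hq, hxe⟩ := (D.φ_eq _).1 hx
      exact ⟨(⟨e, he⟩, ⟨q, hq⟩), Subtype.ext (Subtype.ext hxe.symm)⟩
  rw [← Nat.card_eq_of_bijective m hm, Nat.card_prod, cardE D.hJ, cardP D.hJ] at h
  exact h.symm

theorem index_stab : ((Subgroup.normalizer (B : Set G)).subgroupOf (cH z)).index = 77 := by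
  obtain ⟨K, hK⟩ : ∃ K, K = (Subgroup.normalizer (B : Set G)).subgroupOf (cH z) := ⟨_, rfl⟩
  have hc : ∀ j : Fin 77, ∃ c : ↥(cC z P), D.π c = X.pl j := fun j => D.πsurj _
  choose c hc using hc
  have hiff : ∀ h : ↥(cH z), h ∈ K ↔ ∀ u ∈ X.F.U0, D.φ h u ∈ X.F.U0 := fun h => by
    rw [hK, Subgroup.mem_subgroupOf]
    exact mem_normalizer_iff_φ L hB hmem h.2
  let m : Fin 77 → ↥(cH z) ⧸ K := fun j => QuotientGroup.mk (⟨(c j : G), (c j).2.1⟩ : ↥(cH z))
  have hm : Function.Bijective m := by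
    constructor
    · intro i j hij
      have h := (hiff _).1 (QuotientGroup.eq.1 hij)
      refine Fin.ext (X.planes_inj i i.2 j j.2 (Subgroup.eq_of_le_of_card_ge ?_ ?_).symm)
      · rintro _ ⟨u, hu, rfl⟩
        rw [mem_conjSub]
        have := h u hu
        rw [map_mul, map_inv, ← D.π_eq, ← D.π_eq, ← map_inv, ← map_mul, hc, hc] at this
        simpa [mul_assoc] using this
      · rw [← Nat.card_congr (Subgroup.equivMapOfInjective X.F.U0 _ (MulAut.conj (X.pl i)).injective).toEquiv,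
          ← Nat.card_congr (Subgroup.equivMapOfInjective X.F.U0 _ (MulAut.conj (X.pl j)).injective).toEquiv]
    · intro q
      obtain ⟨h, rfl⟩ := QuotientGroup.mk_surjective q
      obtain ⟨d, hd⟩ := exists_conj_B L hB hmem (elem11_conj hB h.2)
      obtain ⟨j, hj, hpl⟩ := X.planes (D.π d)⁻¹
      refine ⟨⟨j, hj⟩, QuotientGroup.eq.2 ((hiff _).2 fun u hu => ?_)⟩
      have hdh : (d : G) * h ∈ Subgroup.normalizer (B : Set G) := by
        refine mem_normalizer_of_conjSub ?_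
        conv_rhs => rw [← hd]
        ext x
        simp [mem_conjSub, mul_assoc]
      have h1 := (mem_normalizer_iff_φ L hB hmem (h := (d : G) * h) (mul_mem d.2.1 h.2)).1 hdh u hu
      rw [show (⟨(d : G) * h, _⟩ : ↥(cH z)) = ⟨(d : G), d.2.1⟩ * h from rfl, map_mul, ← D.π_eq] at h1
      rw [map_mul, map_inv, ← D.π_eq, ← map_inv, hc]
      have h2 : (D.φ h) u ∈ conjSub (X.pl j) X.F.U0 := by
        rw [← hpl, mem_conjSub, inv_inv]
        simpa using h1
      simpa [mul_assoc] using mem_conjSub.1 h2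
  rw [← hK, Subgroup.index, ← Nat.card_eq_of_bijective m hm, Nat.card_fin]

theorem card_stab :
    Nat.card ↥(Subgroup.normalizer (B : Set G) ⊓ cH z : Subgroup G) = 138240 * 2 ^ 11 := by
  have h := ((Subgroup.normalizer (B : Set G)).subgroupOf (cH z)).card_mul_index
  rw [index_stab L hB hmem, card_cH D, ← Subgroup.inf_subgroupOf_right,
    Nat.card_congr (Subgroup.subgroupOfEquivOfLe (inf_le_right : Subgroup.normalizer (B : Set G) ⊓ cH z ≤ cH z)).toEquiv] at h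
  omega

end Cfsg.Agent.Lib.J4Two56
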