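import Cfsg.Agent.Lib.J4Two56.M22Checks
import Cfsg.Agent.Lib.J4Type19.M22Facts

/-!
# The facts on M22 used for the subgroup of order `2 ^ 11`
-/

set_option autoImplicit false

namespace Cfsg.Agent.Lib.J4Two56

open Cfsg.Agent.Lib.J4Type19 (MFacts)

variable {M : Type*} [Group M]

/-- Value of a word in indexed elements. -/
def wordVal (n : ℕ → M) (w : List ℕ) : M := w.foldr (fun k r => n k * r) 1

/-- Conjugation of a subgroup. -/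
abbrev conjSub (x : M) (U : Subgroup M) : Subgroup M := U.map (MulAut.conj x).toMonoidHom

/-- The facts. -/
structure Plus (M : Type*) [Group M] : Type _ where
  F : MFacts M
  u : ℕ → M
  u_mem : ∀ i, i < 16 → u i ∈ F.U0
  u_surj : ∀ x ∈ F.U0, ∃ i, i < 16 ∧ u i = x
  u_inj : ∀ i, i < 16 → ∀ j, j < 16 → u i = u j → i = j
  u_xor : ∀ i, i < 16 → ∀ j, j < 16 → u (i ^^^ j) = u i * u j
  n : ℕ → M
  n0 : n 0 = F.a
  n1 : n 1 = F.y * F.a * F.y⁻¹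
  n2 : n 2 = F.y
  nu : ∀ k, k < 4 → ∀ i, i < 16 → n k * u i * (n k)⁻¹ = u (M22D.uP k i)
  norm_le : ∀ x : M, (∀ v ∈ F.U0, x * v * x⁻¹ ∈ F.U0) →
    ∃ i, i < 16 ∧ ∃ w : List ℕ, (∀ k ∈ w, k < 4) ∧ x = u i * wordVal n w
  cent_le : ∀ x : M, (∀ v ∈ F.U0, x * v = v * x) → x ∈ F.U0
  index : (Subgroup.normalizer (F.U0 : Set M)).index = 77
  t₁ : M
  t₆₀ : M
  pl : ℕ → M
  pl_eq : ∀ j, j < 77 → pl j = u (M22D.planeList.getD j (0, 0, [])).2.1 *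
    wordVal n (M22D.planeList.getD j (0, 0, [])).2.2 * [1, t₁, t₆₀].getD (M22D.planeList.getD j (0, 0, [])).1 1
  planes : ∀ x : M, ∃ j, j < 77 ∧ conjSub x F.U0 = conjSub (pl j) F.U0
  planes_inj : ∀ i, i < 77 → ∀ j, j < 77 → conjSub (pl i) F.U0 = conjSub (pl j) F.U0 → i = j
  disjoint : ∀ j, j < 77 → j ≠ 0 → ∀ i, i < 16 → u i ∈ conjSub (pl j) F.U0 → i = 0
  t₁_norm : ∀ k, k < 2 → ∀ v ∈ conjSub t₁ F.U0, n k * v * (n k)⁻¹ ∈ conjSub t₁ F.U0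
  word1 : F.a ∈ Subgroup.closure ((F.U0 : Set M) ∪ conjSub t₁ F.U0)
  word60 : F.a ∈ Subgroup.closure ((F.U0 : Set M) ∪
    ⋃ h ∈ [([] : List ℕ), [0], [1], [2], [3]], (conjSub (wordVal n h * t₆₀) F.U0 : Set M))
  stab : ∀ e ∈ M22D.stab60, ∀ v ∈ conjSub t₆₀ F.U0,
    u e.1 * wordVal n e.2 * v * (u e.1 * wordVal n e.2)⁻¹ ∈ conjSub t₆₀ F.U0
  A : M
  B : M
  A_eq : A = u M22D.splitA.1 * wordVal n M22D.splitA.2
  B_eq : B = u M22D.splitB.1 * wordVal n M22D.splitB.2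
  AA : A * A = 1
  BB : B * B = 1
  AB4 : (A * B) ^ 4 = 1
  A_norm : ∀ v ∈ conjSub t₁ F.U0, A * v * A⁻¹ ∈ conjSub t₁ F.U0
  B_norm : ∀ v ∈ conjSub t₁ F.U0, B * v * B⁻¹ ∈ conjSub t₁ F.U0
  δ : MulAut M
  δδ : δ * δ = 1
  δA : δ A = A
  δB : δ B = B
  δu : ∀ i, i < 16 → δ (u i) = u (M22D.deltaPerm.getD i 0)
  δ_norm : ∀ v ∈ conjSub t₁ F.U0, δ v ∈ conjSub t₁ F.U0
  δ_out : ∀ m : M, MulAut.conj m ≠ δ

end Cfsg.Agent.Lib.J4Two56
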