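import Cfsg.Agent.Lib.J4Type19.Main
import Cfsg.Agent.Lib.J4Two56.M22Plus

/-!
# Coordinates on the fixed space of the first plane
-/

set_option autoImplicit false

namespace Cfsg.Agent.Lib.J4Two56

open Cfsg Cfsg.Agent.Lib.J4Type19

/-- Multiplication in the field of order four. -/
def f4mul (a b : ℕ) : ℕ := ([[0, 0, 0, 0], [0, 1, 2, 3], [0, 2, 3, 1], [0, 3, 1, 2]].getD a []).getD b 0

/-- Scalar multiple of a coded vector. -/
def sc (s v : ℕ) : ℕ :=
  f4mul s (v % 4) ||| f4mul s (v / 4 % 4) <<< 2 ||| f4mul s (v / 16 % 4) <<< 4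

/-- The normal form of the point through a coded vector. -/
def pnt (v : ℕ) : ℕ := min v (min (sc 2 v) (sc 3 v))

/-- The action of a generator on points. -/
def pmap (k v : ℕ) : ℕ := (M22D.ptMaps.getD k []).getD v 0

/-- The action of a word on points. -/
def pW (w : List ℕ) (v : ℕ) : ℕ := w.foldr pmap (pnt v)

/-- Membership of a coded vector in the line of an index. -/
def inLine (i v : ℕ) : Bool := Nat.testBit (M22D.lineMasks.getD i 0) v

/-- Being on the hyperoval. -/
def isHy (v : ℕ) : Bool := Nat.testBit M22D.hyMask v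

variable {G : Type*} [Group G] [Finite G] {z : G} {P : Subgroup G} {D : HData z P} {X : Plus M22t}

/-- The coordinates. -/
structure Frame56 (D : HData z P) (X : Plus M22t) (L : Lifts D.toJMod X.F) : Type _ where
  vec : ℕ → cV z
  vec_mem : ∀ v, v < 64 → vec v ∈ D.toJMod.fix X.F.U0
  vec_surj : ∀ x ∈ D.toJMod.fix X.F.U0, ∃ v, v < 64 ∧ vec v = x
  vec_inj : ∀ v, v < 64 → ∀ w, w < 64 → vec v = vec w → v = w
  vec_xor : ∀ v, v < 64 → ∀ w, w < 64 → vec (v ^^^ w) = vec v + vec w
  vec_w : ∀ v, v < 64 → D.toJMod.ω ^ L.e • vec v = vec (sc 2 v)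
  act_gen : ∀ k, k < 4 → ∀ c : ↥(cC z P), D.π c = X.n k → ∀ v, v < 64 →
    ∃ v', v' < 64 ∧ c • vec v = vec v' ∧ pnt v' = pmap k v
  line : ∀ i, i < 16 → i ≠ 0 → ∀ c : ↥(cC z P), D.π c = X.u i → c ^ 4 = 1 → ∀ x : cV z,
    (∃ w : cV z, c • w + w = x) ↔ ∃ v, v < 64 ∧ inLine i v = true ∧ vec v = x

/-- The element of the extraspecial group over a vector that lies in the commutator with `p`. -/
def sec (D : HData z P) (e : ↥(cE z)) : ↥(cE z) :=
  cEAut D.p D.pH (cEAut D.p D.pH e) * cEAut D.p D.pH e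

/-- The section on vectors. -/
noncomputable def secV (D : HData z P) (v : cV z) : ↥(cE z) := sec D (Function.surjInv mk_surjective v)

end Cfsg.Agent.Lib.J4Two56
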