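import Cfsg.Agent.Lib.J4Two56.RankCore
import Cfsg.Agent.Lib.J4Two56.ModelFacts

/-!
# Fixed classes of involutions of the Mathieu group
-/

set_option autoImplicit false

namespace Cfsg.Agent.Lib.J4Two56

open Cfsg Cfsg.Agent.Lib

/-- Commuting involutions, the fixed classes of the first fixed by the second, are equal. -/
theorem fix_inj {σ τ : Equiv.Perm GolayPt} (hσ : σ ∈ Cfsg.M24) (hτ : τ ∈ Cfsg.M24)
    (hσ2 : orderOf σ = 2) (hτ2 : orderOf τ = 2) (hc : Commute σ τ)
    (h : ∀ n < 2048, act σ n = n → act τ n = n) : σ = τ :=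
  fix_inj_aux (fun {_} hs p q => act_pair hs p q)
    (fun {x y u v} a b e => by
      have h := congrArg (fun s : Finset GolayPt => (s : Set GolayPt)) (pair_inj a b e)
      simpa [Set.pair_eq_pair_iff] using h)
    (fun p q => xor_lt (cd_lt p) (cd_lt q)) hσ hτ hσ2 hτ2 hc h

/-- An involution of `M24` fixes at least 64 classes. -/
theorem fix_card {σ : Equiv.Perm GolayPt} (hσ : σ ∈ Cfsg.M24) (h2 : σ * σ = 1) :
    64 ≤ ((Finset.range 2048).filter fun n => act σ n = n).card :=
  fix_card_aux (fun {s} _ {n} _ => act_lt s n) (fun {s} _ {a b} _ _ => act_xor s a b)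
    (fun {s} hs he {n} hn => by rw [← act_mul hs s n, he, act_one hn]) hσ h2

end Cfsg.Agent.Lib.J4Two56
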