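import Cfsg.Agent.Lib.J4Two56.Model
import Cfsg.Agent.Lib.Golay.Transitive
import Cfsg.Agent.Lib.Golay.ClassFacts
import Cfsg.Agent.Lib.Compute.Mathieu.Outer
import Cfsg.Prelude.Def_KGroupFacts

/-!
The stabiliser of a pair of points in `M24` acts faithfully on the stabiliser of both points and is
its whole automorphism group.
-/

set_option autoImplicit false

namespace Cfsg.Agent.Lib.J4Two56

open Cfsg Cfsg.Agent.Lib
open scoped Pointwise

/-- The stabiliser of an unordered pair in `M24`. -/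
def duadStab (p q : GolayPt) : Subgroup (Equiv.Perm GolayPt) :=
  Cfsg.M24 ⊓ MulAction.stabilizer (Equiv.Perm GolayPt) ({p, q} : Finset GolayPt)

/-- The stabiliser of two points in `M24`. -/
def pointsStab (p q : GolayPt) : Subgroup (Equiv.Perm GolayPt) :=
  Cfsg.M24 ⊓ MulAction.stabilizer (Equiv.Perm GolayPt) p ⊓ MulAction.stabilizer (Equiv.Perm GolayPt) q

theorem mem_duadStab {p q : GolayPt} {σ : Equiv.Perm GolayPt} :
    σ ∈ duadStab p q ↔ σ ∈ Cfsg.M24 ∧ ((σ p = p ∧ σ q = q) ∨ (σ p = q ∧ σ q = p)) := by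
  rw [duadStab, Subgroup.mem_inf]
  refine and_congr_right fun _ => ?_
  rw [MulAction.mem_stabilizer_iff, Golay.smul_finset_eq_image, Finset.image_insert,
    Finset.image_singleton]
  refine ⟨fun h => ?_, ?_⟩
  · have h1 : σ p ∈ ({p, q} : Finset GolayPt) := h ▸ Finset.mem_insert_self _ _
    have h2 : σ q ∈ ({p, q} : Finset GolayPt) :=
      h ▸ Finset.mem_insert_of_mem (Finset.mem_singleton_self _)
    have h3 : p ∈ ({σ p, σ q} : Finset GolayPt) := h.symm ▸ Finset.mem_insert_self _ _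
    have h4 : q ∈ ({σ p, σ q} : Finset GolayPt) :=
      h.symm ▸ Finset.mem_insert_of_mem (Finset.mem_singleton_self _)
    simp only [Finset.mem_insert, Finset.mem_singleton] at h1 h2 h3 h4
    grind
  · rintro (⟨h1, h2⟩ | ⟨h1, h2⟩) <;> rw [h1, h2]
    exact Finset.pair_comm q p

theorem mem_pointsStab {p q : GolayPt} {σ : Equiv.Perm GolayPt} :
    σ ∈ pointsStab p q ↔ σ ∈ Cfsg.M24 ∧ σ p = p ∧ σ q = q := by
  rw [pointsStab, Subgroup.mem_inf, Subgroup.mem_inf, and_assoc]
  exact Iff.rfl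

theorem pointsStab_le (p q : GolayPt) : pointsStab p q ≤ duadStab p q := fun σ h => by
  rw [mem_duadStab]
  exact ⟨(mem_pointsStab.1 h).1, Or.inl (mem_pointsStab.1 h).2⟩

theorem pointsStab_normal (p q : GolayPt) :
    ((pointsStab p q).subgroupOf (duadStab p q)).Normal := by
  refine ⟨fun m hm s => ?_⟩
  rw [Subgroup.mem_subgroupOf] at hm ⊢
  obtain ⟨hm0, hm1, hm2⟩ := mem_pointsStab.1 hm
  have hs' := (duadStab p q).inv_mem s.2
  obtain ⟨hs0, hs⟩ := mem_duadStab.1 s.2
  rw [Subgroup.coe_mul, Subgroup.coe_mul, Subgroup.coe_inv, mem_pointsStab]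
  refine ⟨mul_mem (mul_mem hs0 hm0) (inv_mem hs0), ?_⟩
  simp only [Equiv.Perm.mul_apply]
  rcases hs with ⟨h1, h2⟩ | ⟨h1, h2⟩
  · rw [show (s : Equiv.Perm GolayPt)⁻¹ p = p from Equiv.Perm.inv_eq_iff_eq.2 h1.symm,
      show (s : Equiv.Perm GolayPt)⁻¹ q = q from Equiv.Perm.inv_eq_iff_eq.2 h2.symm, hm1, hm2]
    exact ⟨h1, h2⟩
  · rw [show (s : Equiv.Perm GolayPt)⁻¹ p = q from Equiv.Perm.inv_eq_iff_eq.2 h2.symm,
      show (s : Equiv.Perm GolayPt)⁻¹ q = p from Equiv.Perm.inv_eq_iff_eq.2 h1.symm, hm1, hm2]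
    exact ⟨h2, h1⟩

/-- The stabiliser of two points is `M22`. -/
theorem pointsStab_iso {p q : GolayPt} (hpq : p ≠ q) :
    Nonempty (↥(pointsStab p q) ≃* ↥Cfsg.Spor.M22) := by
  obtain ⟨g, hg, h⟩ := Golay.exists_map_list [(none : GolayPt), some 0] [p, q] rfl (by simp)
    (by simp) (by simp [hpq])
  simp only [List.map_cons, List.map_nil, List.cons.injEq, and_true] at h
  refine ⟨((Golay.conjEquiv g Cfsg.Spor.M22).trans (MulEquiv.subgroupCongr ?_)).symm⟩
  rw [Cfsg.Spor.M22, Cfsg.Spor.M23, Golay.map_conj_inf_stab hg, Golay.map_conj_inf_stab hg,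
    Golay.map_conj_M24 hg, Equiv.Perm.smul_def, Equiv.Perm.smul_def, h.1, h.2, pointsStab]

theorem card_M22_eq : Nat.card ↥Cfsg.Spor.M22 = 443520 := by
  rw [← Compute.Mathieu.m22_eq_spor, Compute.Mathieu.card_m22]

theorem card_mulAut_M22 : Nat.card (MulAut ↥Cfsg.Spor.M22) = 887040 := by
  have hs : IsSimpleGroup ↥Cfsg.Spor.M22 := by
    rw [← Compute.Mathieu.m22_eq_spor]
    exact Compute.Mathieu.isSimpleGroup_m22
  have hinj : Function.Injective (MulAut.conj : ↥Cfsg.Spor.M22 →* MulAut ↥Cfsg.Spor.M22) := by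
    rw [← MonoidHom.ker_eq_bot_iff]
    refine ((inferInstance : (MonoidHom.ker
      (MulAut.conj : ↥Cfsg.Spor.M22 →* MulAut ↥Cfsg.Spor.M22)).Normal).eq_bot_or_eq_top).resolve_right
        fun h => ?_
    have hcomm : ∀ a b : ↥Cfsg.Spor.M22, a * b = b * a := fun a b => by
      have := DFunLike.congr_fun (MonoidHom.mem_ker.1 (h ▸ Subgroup.mem_top a)) b
      simpa [MulAut.conj_apply, mul_inv_eq_iff_eq_mul] using this
    letI : CommGroup ↥Cfsg.Spor.M22 := { mul_comm := hcomm }
    have hp := IsSimpleGroup.prime_card (α := ↥Cfsg.Spor.M22)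
    rw [card_M22_eq] at hp
    norm_num at hp
  have h := Subgroup.card_mul_index (Cfsg.Inn ↥Cfsg.Spor.M22)
  rw [show (Cfsg.Inn ↥Cfsg.Spor.M22).index = 2 from Compute.Mathieu.card_out_M22,
    ← Nat.card_congr (MonoidHom.ofInjective hinj).toEquiv, card_M22_eq] at h
  omega

theorem eq_one_of_centralizes {p q : GolayPt} (hpq : p ≠ q) {σ : Equiv.Perm GolayPt}
    (hσ : σ ∈ duadStab p q) (h : ∀ m ∈ pointsStab p q, σ * m = m * σ) : σ = 1 := by
  classical
  obtain ⟨hσ0, hσ1⟩ := mem_duadStab.1 hσ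
  have hfix : ∀ r, r ≠ p → r ≠ q → σ r = r := by
    intro r hrp hrq
    by_contra hr
    have hp : σ r ≠ p := by
      rcases hσ1 with ⟨a, -⟩ | ⟨-, b⟩
      · exact fun e => hrp (σ.injective (e.trans a.symm))
      · exact fun e => hrq (σ.injective (e.trans b.symm))
    have hq : σ r ≠ q := by
      rcases hσ1 with ⟨-, b⟩ | ⟨a, -⟩
      · exact fun e => hrq (σ.injective (e.trans b.symm))
      · exact fun e => hrp (σ.injective (e.trans a.symm))
    obtain ⟨w, hw⟩ : ∃ w, w ∉ ({p, q, r, σ r} : Finset GolayPt) := by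
      by_contra hall
      push Not at hall
      have h24 : Fintype.card GolayPt ≤ 4 := by
        rw [← Finset.card_univ, ← Finset.eq_univ_of_forall hall]
        exact Finset.card_le_four
      revert h24
      decide
    simp only [Finset.mem_insert, Finset.mem_singleton, not_or] at hw
    obtain ⟨m, hm, e⟩ := Golay.exists_map_list [p, q, r, σ r] [p, q, r, w] rfl (by simp)
      (by simp [hpq, Ne.symm hrp, Ne.symm hrq, Ne.symm hp, Ne.symm hq, Ne.symm hr])
      (by simp [hpq, Ne.symm hrp, Ne.symm hrq, Ne.symm hw.1, Ne.symm hw.2.1, Ne.symm hw.2.2.1])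
    simp only [List.map_cons, List.map_nil, List.cons.injEq, and_true] at e
    obtain ⟨e1, e2, e3, e4⟩ := e
    have hc := Equiv.ext_iff.1 (h m (mem_pointsStab.2 ⟨hm, e1, e2⟩)) r
    simp only [Equiv.Perm.mul_apply, e3, e4] at hc
    exact hw.2.2.2 hc.symm
  rcases hσ1 with ⟨a, b⟩ | ⟨a, b⟩
  · refine Equiv.ext fun r => ?_
    by_cases hrp : r = p
    · subst hrp; exact a
    by_cases hrq : r = q
    · subst hrq; exact b
    exact hfix r hrp hrq
  · exfalso
    have hswap : σ = Equiv.swap p q := by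
      refine Equiv.ext fun r => ?_
      by_cases hrp : r = p
      · subst hrp; rw [a, Equiv.swap_apply_left]
      by_cases hrq : r = q
      · subst hrq; rw [b, Equiv.swap_apply_right]
      rw [hfix r hrp hrq, Equiv.swap_apply_of_ne_of_ne hrp hrq]
    have ho : orderOf σ = 2 := orderOf_eq_prime (by rw [hswap, pow_two, Equiv.swap_mul_self])
      (fun e => hpq (Equiv.swap_eq_one_iff.1 (hswap.symm.trans e)))
    obtain ⟨r, hr, k, hk, hkr⟩ := Golay.Classes.classify_two hσ0 ho
    have hcount : Golay.Classes.fixCount σ = 22 := by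
      have : (Finset.univ.filter fun x : GolayPt => σ x = x) = ({p, q} : Finset GolayPt)ᶜ := by
        ext x
        simp only [Finset.mem_filter, Finset.mem_univ, true_and, Finset.mem_compl,
          Finset.mem_insert, Finset.mem_singleton, not_or]
        exact ⟨fun hx => ⟨fun e => hpq (by subst e; rw [← hx, a]), fun e => hpq (by
          subst e; rw [← hx, b])⟩, fun hx => hfix x hx.1 hx.2⟩
      rw [Golay.Classes.fixCount, this, Finset.card_compl, Finset.card_pair hpq]
      decide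
    rw [← hkr, Golay.Classes.fixCount_conj, Golay.Classes.fixCount_toPerm
      (Golay.inM24.valid (List.all_eq_true.1 Golay.Classes.reps_valid r (by
        simp only [List.mem_cons, List.not_mem_nil, or_false] at hr ⊢; tauto)))] at hcount
    simp only [List.mem_cons, List.not_mem_nil, or_false] at hr
    rcases hr with rfl | rfl
    · rw [Golay.Classes.fixNum_reps.1] at hcount; norm_num at hcount
    · rw [Golay.Classes.fixNum_reps.2.1] at hcount; norm_num at hcount

/-- The stabiliser of a pair in `M24` is the automorphism group of `M22`. -/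
theorem duadStab_iso {p q : GolayPt} (hpq : p ≠ q) :
    Nonempty (↥(duadStab p q) ≃* MulAut ↥Cfsg.Spor.M22) := by
  classical
  haveI := pointsStab_normal p q
  obtain ⟨e0⟩ := pointsStab_iso hpq
  set N := (pointsStab p q).subgroupOf (duadStab p q)
  let e : ↥N ≃* ↥Cfsg.Spor.M22 := (Subgroup.subgroupOfEquivOfLe (pointsStab_le p q)).trans e0
  let φ : ↥(duadStab p q) →* MulAut ↥Cfsg.Spor.M22 :=
    (Compute.autCongr e).toMonoidHom.comp MulAut.conjNormal
  have hφ : Function.Injective φ := by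
    rw [← MonoidHom.ker_eq_bot_iff, eq_bot_iff]
    intro s hs
    rw [MonoidHom.mem_ker] at hs
    have h1 : MulAut.conjNormal (H := N) s = 1 :=
      (Compute.autCongr e).injective (by rw [map_one]; exact hs)
    refine Subgroup.mem_bot.2 (Subtype.ext (eq_one_of_centralizes hpq s.2 fun m hm => ?_))
    have h2 := congrArg (fun n : ↥N => ((n : ↥(duadStab p q)) : Equiv.Perm GolayPt))
      (DFunLike.congr_fun h1 ⟨⟨m, pointsStab_le p q hm⟩, hm⟩)
    simp only [MulAut.conjNormal_apply, MulAut.one_apply, Subgroup.coe_mul, Subgroup.coe_inv] at h2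
    exact mul_inv_eq_iff_eq_mul.1 h2
  have hN : Nat.card ↥N = 443520 := (Nat.card_congr e.toEquiv).trans card_M22_eq
  have hidx : 2 ≤ N.index := by
    by_contra hlt
    have hne := Subgroup.index_ne_zero_of_finite (H := N)
    have h1 : N = ⊤ := Subgroup.index_eq_one.1 (by omega)
    obtain ⟨s, hs, he⟩ := Golay.exists_map_list [p, q] [q, p] rfl (by simp) (by simp [hpq])
      (by simp [Ne.symm hpq])
    simp only [List.map_cons, List.map_nil, List.cons.injEq, and_true] at he
    have hmem : (⟨s, mem_duadStab.2 ⟨hs, Or.inr he⟩⟩ : ↥(duadStab p q)) ∈ N :=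
      h1 ▸ Subgroup.mem_top _
    rw [Subgroup.mem_subgroupOf, mem_pointsStab] at hmem
    exact hpq (hmem.2.1.symm.trans he.1)
  have hle : Nat.card (MulAut ↥Cfsg.Spor.M22) ≤ Nat.card ↥(duadStab p q) := by
    rw [card_mulAut_M22, ← Subgroup.card_mul_index N, hN]
    omega
  haveI : Finite (MulAut ↥Cfsg.Spor.M22) :=
    Nat.finite_of_card_ne_zero (by rw [card_mulAut_M22]; norm_num)
  exact ⟨MulEquiv.ofBijective φ (hφ.bijective_of_nat_card_le hle)⟩

end Cfsg.Agent.Lib.J4Two56
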