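import Cfsg.Agent.Lib.J4Two56.Todd
import Cfsg.Prelude.Def_JankoFourType

/-!
# Statements passed between the parts
-/

set_option autoImplicit false

universe u

namespace Cfsg.Agent.Lib.J4Two56

open Cfsg Cfsg.Agent.Lib

/-- No faithful group of order `138240 * 2047` on an elementary group of order `2048`. -/
def No2047Stmt : Prop :=
  ∀ (Q A : Type u) [Group Q] [CommGroup A] [MulDistribMulAction Q A], Nat.card A = 2048 →
    (∀ a : A, a * a = 1) → (∀ q : Q, (∀ a : A, q • a = a) → q = 1) → Nat.card Q ≠ 138240 * 2047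

/-- No orbit of length 961 spanning an elementary group of order `2048` in which four members multiply
to a member. -/
def No961Stmt : Prop :=
  ∀ (Q A : Type u) [Group Q] [CommGroup A] [MulDistribMulAction Q A] [Finite Q] (z : A), Nat.card A = 2048 →
    (∀ a : A, a * a = 1) → Nat.card Q = 138240 * 961 → (MulAction.orbit Q z).ncard = 961 →
    Subgroup.closure (MulAction.orbit Q z) = ⊤ →
    ∀ a ∈ MulAction.orbit Q z, ∀ b ∈ MulAction.orbit Q z, ∀ c ∈ MulAction.orbit Q z, ∀ d ∈ MulAction.orbit Q z,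
      a * b * (c * d) ≠ z

/-- A quadratic form with non-degenerate polar form on a space of order `4096` has at most 2080 zeros. -/
def QuadBoundStmt : Prop :=
  ∀ (V : Type u) [AddCommGroup V] [Finite V] (q : V → ZMod 2) (β : V →+ V →+ ZMod 2),
    Nat.card V = 4096 → (∀ v : V, v + v = 0) → (∀ u v, q (u + v) = q u + q v + β u v) →
    (∀ u, (∀ v, β u v = 0) → u = 0) → Nat.card {v : V // q v = 0} ≤ 2080

/-- What the local analysis at `z` hands to the global arguments. -/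
structure Split56 (G : Type u) [Group G] (z : G) (T : Todd G z) : Type u where
  K : Subgroup G
  le : K ≤ Subgroup.normalizer (T.V : Set G)
  inf : K ⊓ T.V = ⊥
  sup : K ⊔ T.V = Subgroup.normalizer (T.V : Set G)
  iso : ∀ σ : ↥Cfsg.M24, ∃ k : ↥(Subgroup.normalizer (T.V : Set G)), (k : G) ∈ K ∧ T.ρ k = σ
  hW : ∀ k : ↥(Subgroup.normalizer (T.V : Set G)), (k : G) ∈ K →
    InW ((T.ρ k : ↥Cfsg.M24) : Equiv.Perm GolayPt) → (k : G) ∈ twoCoreOfCentralizer z
  hX : ∀ a, a < 128 → T.el a ∈ twoCoreOfCentralizer z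
  hE : ∀ e ∈ twoCoreOfCentralizer z, e * e = 1 → ∃ g : G, g * e * g⁻¹ ∈ T.V
  hN : ∀ u : G, u * u = 1 → ∃ g : G, g * u * g⁻¹ ∈ Subgroup.normalizer (T.V : Set G)
  conj : ∀ V' : Subgroup G, Cfsg.IsElementaryAbelian 2 V' → Nat.card ↥V' = 2 ^ 11 →
    ∃ g : G, V' = T.V.map (MulAut.conj g).toMonoidHom

/-- The centraliser of a pair element lies in the normaliser. -/
def Todd.CentD {G : Type u} [Group G] {z : G} (T : Todd G z) : Prop :=
  ∀ b, b < 2048 → isD b = true → Subgroup.centralizer ({T.el b} : Set G) ≤ Subgroup.normalizer (T.V : Set G)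

/-- The two classes of involutions, and the centraliser in the second one. -/
def ClassesStmt : Prop :=
  ∀ (G : Type u) [Group G] [Finite G] (z : G) (T : Todd G z), Split56 G z T → T.CentD →
    ∀ t : G, orderOf t = 2 → ¬ IsConj z t →
      ∃ V K : Subgroup G, V ≤ Subgroup.centralizer ({t} : Set G) ∧ K ≤ Subgroup.centralizer ({t} : Set G) ∧
        Subgroup.centralizer ({t} : Set G) ≤ Subgroup.normalizer (V : Set G) ∧
        Cfsg.IsElementaryAbelian 2 V ∧ Nat.card ↥V = 2 ^ 11 ∧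
        K ⊓ V = ⊥ ∧ K ⊔ V = Subgroup.centralizer ({t} : Set G) ∧ Nonempty (↥K ≃* MulAut ↥Cfsg.Spor.M22)

/-- The orbits on the subgroup. -/
def OrbitsStmt : Prop :=
  ∀ (G : Type u) [Group G] [Finite G] (z : G) (T : Todd G z), Split56 G z T → T.CentD →
    ∀ V : Subgroup G, Cfsg.IsElementaryAbelian 2 V → Nat.card ↥V = 2 ^ 11 →
    (∃ z' t : G, z' ∈ V ∧ t ∈ V ∧ t ≠ 1 ∧ IsConj z z' ∧ ¬ IsConj z t ∧
      Set.ncard {v : G | ∃ n ∈ Subgroup.normalizer (V : Set G), n * z' * n⁻¹ = v} = 1771 ∧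
      Set.ncard {v : G | ∃ n ∈ Subgroup.normalizer (V : Set G), n * t * n⁻¹ = v} = 276 ∧
      Subgroup.centralizer ({t} : Set G) ≤ Subgroup.normalizer (V : Set G)) ∧
    Subgroup.centralizer (V : Set G) ≤ V ∧
      ∃ K : Subgroup G, K ≤ Subgroup.normalizer (V : Set G) ∧ K ⊓ V = ⊥ ∧
        K ⊔ V = Subgroup.normalizer (V : Set G) ∧ Cfsg.Spor.IsoM24 ↥K

end Cfsg.Agent.Lib.J4Two56
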