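import Mathlib
import Cfsg.Agent.Lib.J4Two56.Stmts
import Cfsg.Agent.Lib.J4Two56.ModelFacts
import Cfsg.Agent.Lib.J4Two56.DuadStab

/-!
# The two classes of involutions and the orbits on the subgroup of order `2¹¹`

Every involution is conjugate into the subgroup, the normaliser has two orbits on it, and the
centraliser of a pair element is the split extension by the automorphism group of `M22`.
-/

set_option autoImplicit false

universe u

namespace Cfsg.Agent.Lib.J4Two56

open Cfsg Cfsg.Agent.Lib Subgroup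

/-- Cosets of the involutions of `M24`: conjugation moves each into the distinguished part. -/
def CoverStmt : Prop :=
  ∀ {σ : Equiv.Perm GolayPt}, σ ∈ Cfsg.M24 → σ * σ = 1 → σ ≠ 1 → ∀ {c : ℕ}, c < 2048 → act σ c = c →
    ∃ g ∈ Cfsg.M24, ∃ d < 2048, InW (g * σ * g⁻¹) ∧ act g (c ^^^ d ^^^ act σ d) < 128

theorem isD_two : isD 2 = true := by decide +kernel

theorem pair_eq_cases {α : Type*} [DecidableEq α] {a b c d : α}
    (h : ({a, b} : Finset α) = {c, d}) : (a = c ∧ b = d) ∨ (a = d ∧ b = c) := by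
  have h1 : ({a, b} : Set α) = {c, d} := by
    have := congrArg (fun s : Finset α => (s : Set α)) h
    simpa using this
  exact Set.pair_eq_pair_iff.1 h1

namespace Todd

variable {G : Type u} [Group G] {z : G} (T : Todd G z)

theorem el_zero : T.el 0 = 1 := by
  have h := T.el_xor 0 (by norm_num) 0 (by norm_num)
  rw [Nat.xor_self] at h
  exact left_eq_mul.1 h

theorem el_mem {a : ℕ} (ha : a < 2048) : T.el a ∈ T.V := (T.mem_V _).2 ⟨a, ha, rfl⟩

theorem el_sq {a : ℕ} (ha : a < 2048) : T.el a * T.el a = 1 := by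
  rw [← T.el_xor a ha a ha, Nat.xor_self, T.el_zero]

theorem el_comm {a b : ℕ} (ha : a < 2048) (hb : b < 2048) : T.el a * T.el b = T.el b * T.el a := by
  rw [← T.el_xor a ha b hb, ← T.el_xor b hb a ha, Nat.xor_comm]

theorem el_inv {a : ℕ} (ha : a < 2048) : (T.el a)⁻¹ = T.el a := inv_eq_of_mul_eq_one_right (T.el_sq ha)

theorem eq_zero_of_el {a : ℕ} (ha : a < 2048) (h : T.el a = 1) : a = 0 :=
  T.el_inj a ha 0 (by norm_num) (by rw [h, T.el_zero])

theorem isElementary : Cfsg.IsElementaryAbelian 2 T.V := by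
  refine ⟨⟨⟨fun x y => ?_⟩⟩, fun x hx => ?_⟩
  · obtain ⟨a, ha, h1⟩ := (T.mem_V _).1 x.2
    obtain ⟨b, hb, h2⟩ := (T.mem_V _).1 y.2
    apply Subtype.ext
    rw [Subgroup.coe_mul, Subgroup.coe_mul, ← h1, ← h2, T.el_comm ha hb]
  · obtain ⟨a, ha, rfl⟩ := (T.mem_V _).1 hx
    rw [pow_two, T.el_sq ha]

theorem card_V : Nat.card ↥T.V = 2 ^ 11 := by
  let f : Fin 2048 → ↥T.V := fun a => ⟨T.el a, T.el_mem a.2⟩
  have hf : Function.Bijective f := by
    refine ⟨fun a b h => Fin.ext (T.el_inj _ a.2 _ b.2 (congrArg Subtype.val h)), fun x => ?_⟩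
    obtain ⟨a, ha, e⟩ := (T.mem_V _).1 x.2
    exact ⟨⟨a, ha⟩, Subtype.ext e⟩
  rw [← Nat.card_eq_of_bijective f hf, Nat.card_fin]
  norm_num

theorem mem_V_of_ρ {n : ↥(normalizer (T.V : Set G))} (h : T.ρ n = 1) : (n : G) ∈ T.V := by
  refine T.cent (mem_centralizer_iff.2 fun v hv => ?_)
  obtain ⟨a, ha, rfl⟩ := (T.mem_V v).1 hv
  have h1 := T.ρ_spec n a ha
  rw [h, Subgroup.coe_one, act_one ha] at h1
  exact (mul_inv_eq_iff_eq_mul.1 h1).symm

theorem ρ_of_mem {n : ↥(normalizer (T.V : Set G))} (h : (n : G) ∈ T.V) : T.ρ n = 1 := by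
  obtain ⟨c, hc, hn⟩ := (T.mem_V _).1 h
  refine Subtype.ext (act_inj (T.ρ n).2 Cfsg.M24.one_mem fun a ha => ?_)
  refine T.el_inj _ (act_lt _ _) _ (act_lt _ _) ?_
  rw [Subgroup.coe_one, act_one ha, ← T.ρ_spec n a ha, ← hn, T.el_comm hc ha, mul_inv_cancel_right]

/-- The conjugation formula, on the other side. -/
theorem el_mul_norm {n : ↥(normalizer (T.V : Set G))} {a : ℕ} (ha : a < 2048) :
    (n : G) * T.el a = T.el (act ((T.ρ n : ↥Cfsg.M24) : Equiv.Perm GolayPt) a) * (n : G) := by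
  rw [← T.ρ_spec n a ha, inv_mul_cancel_right]

end Todd

section Main

variable {G : Type u} [Group G] {z : G} {T : Todd G z}

theorem split_mem_K_inf (S : Split56 G z T) {k : G} (hk : k ∈ S.K) (hV : k ∈ T.V) : k = 1 := by
  have h : k ∈ S.K ⊓ T.V := ⟨hk, hV⟩
  rwa [S.inf, mem_bot] at h

theorem split_decomp (S : Split56 G z T) {x : G} (hx : x ∈ normalizer (T.V : Set G)) :
    ∃ k ∈ S.K, ∃ v ∈ T.V, x = k * v := by
  rw [← S.sup, ← SetLike.mem_coe, coe_mul_of_left_le_normalizer_right S.K T.V S.le] at hx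
  obtain ⟨k, hk, v, hv, e⟩ := hx
  exact ⟨k, hk, v, hv, e.symm⟩

/-- Every involution is conjugate to a member of the coordinate group. -/
theorem exists_conj_el (hC : CoverStmt) (S : Split56 G z T) {t : G} (ht : orderOf t = 2) :
    ∃ g : G, ∃ a, a < 2048 ∧ a ≠ 0 ∧ g * t * g⁻¹ = T.el a := by
  have ht2 : t * t = 1 := by rw [← pow_two, ← ht, pow_orderOf_eq_one]
  have ht1 : t ≠ 1 := fun h => by rw [h, orderOf_one] at ht; exact absurd ht (by norm_num)
  suffices h : ∃ g : G, g * t * g⁻¹ ∈ T.V by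
    obtain ⟨g, hg⟩ := h
    obtain ⟨a, ha, e⟩ := (T.mem_V _).1 hg
    refine ⟨g, a, ha, fun h0 => ht1 ?_, e.symm⟩
    rw [h0, T.el_zero] at e
    exact conj_eq_one_iff.1 e.symm
  obtain ⟨g0, hg0⟩ := S.hN t ht2
  set u := g0 * t * g0⁻¹ with hu
  have hu2 : u * u = 1 := by
    rw [hu]
    calc g0 * t * g0⁻¹ * (g0 * t * g0⁻¹) = g0 * (t * t) * g0⁻¹ := by group
      _ = 1 := by rw [ht2]; group
  suffices h : ∃ g : G, g * u * g⁻¹ ∈ T.V by
    obtain ⟨g, hg⟩ := h
    exact ⟨g * g0, by rw [hu] at hg; simpa [mul_assoc] using hg⟩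
  set un : ↥(normalizer (T.V : Set G)) := ⟨u, hg0⟩ with hun
  by_cases hσ : T.ρ un = 1
  · exact ⟨1, by simpa using T.mem_V_of_ρ hσ⟩
  obtain ⟨k, hkK, hkσ⟩ := S.iso (T.ρ un)
  set σ : Equiv.Perm GolayPt := ((T.ρ un : ↥Cfsg.M24) : Equiv.Perm GolayPt) with hσdef
  have hσM : σ ∈ Cfsg.M24 := (T.ρ un).2
  have hsq : T.ρ un * T.ρ un = 1 := by
    rw [← map_mul, show un * un = 1 from Subtype.ext hu2, map_one]
  have hσ2 : σ * σ = 1 := congrArg Subtype.val hsq
  have hσ1 : σ ≠ 1 := fun h => hσ (Subtype.ext h)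
  -- split off the coordinate part
  have hk2 : (k : G) * k = 1 := by
    refine split_mem_K_inf S (S.K.mul_mem hkK hkK) ?_
    have h1 : T.ρ (k * k) = 1 := by rw [map_mul, hkσ, hsq]
    exact T.mem_V_of_ρ h1
  obtain ⟨c, hc, hce⟩ := (T.mem_V _).1 (T.mem_V_of_ρ
    (show T.ρ (k⁻¹ * un) = 1 by rw [map_mul, map_inv, hkσ, inv_mul_cancel]))
  have huk : u = (k : G) * T.el c := by
    rw [hce]
    simp [hun]
  have hkel : ∀ {a}, a < 2048 → (k : G) * T.el a = T.el (act σ a) * (k : G) := by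
    intro a ha
    have h := T.el_mul_norm (n := k) ha
    rw [hkσ] at h
    exact h
  have helk : ∀ {a}, a < 2048 → T.el a * (k : G) = (k : G) * T.el (act σ a) := by
    intro a ha
    rw [hkel (act_lt σ a), ← act_mul hσM, hσ2, act_one ha]
  have hfix : act σ c = c := by
    have h1 : u * u = T.el (act σ c) * T.el c := by
      rw [huk]
      calc (k : G) * T.el c * ((k : G) * T.el c) = (k : G) * (T.el c * k) * T.el c := by group
        _ = (k : G) * k * T.el (act σ c) * T.el c := by rw [helk hc]; group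
        _ = _ := by rw [hk2, one_mul]
    rw [hu2, ← T.el_xor _ (act_lt σ c) _ hc] at h1
    exact Nat.xor_eq_zero_iff.1 (T.eq_zero_of_el (xor_lt (act_lt σ c) hc) h1.symm)
  obtain ⟨g, hgM, d, hd, hW, hlt⟩ := hC hσM hσ2 hσ1 hc hfix
  set c' := c ^^^ d ^^^ act σ d with hc'
  have hc'lt : c' < 2048 := xor_lt (xor_lt hc hd) (act_lt σ d)
  have hu1 : T.el d * u * (T.el d)⁻¹ = (k : G) * T.el c' := by
    rw [huk, T.el_inv hd]
    calc T.el d * ((k : G) * T.el c) * T.el d = (T.el d * k) * (T.el c * T.el d) := by group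
      _ = (k : G) * (T.el (act σ d) * (T.el c * T.el d)) := by rw [helk hd]; group
      _ = _ := by
        rw [← T.el_xor c hc d hd, ← T.el_xor _ (act_lt σ d) _ (xor_lt hc hd), hc', Nat.xor_comm]
  obtain ⟨m, hmK, hmσ⟩ := S.iso ⟨g, hgM⟩
  have hk' : (((m * k * m⁻¹ : ↥(normalizer (T.V : Set G))) : G)) ∈ S.K := by
    simp only [Subgroup.coe_mul, Subgroup.coe_inv]
    exact S.K.mul_mem (S.K.mul_mem hmK hkK) (S.K.inv_mem hmK)
  have hρk' : ((T.ρ (m * k * m⁻¹) : ↥Cfsg.M24) : Equiv.Perm GolayPt) = g * σ * g⁻¹ := by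
    rw [map_mul, map_mul, map_inv, hmσ, hkσ]
    rfl
  have hE1 := S.hW _ hk' (by rw [hρk']; exact hW)
  have hE2 := S.hX _ hlt
  set e := (m : G) * ((k : G) * T.el c') * (m : G)⁻¹ with he
  have hee : e = ((m * k * m⁻¹ : ↥(normalizer (T.V : Set G))) : G) * T.el (act g c') := by
    have h := T.ρ_spec m c' hc'lt
    rw [hmσ] at h
    change (m : G) * T.el c' * (m : G)⁻¹ = T.el (act g c') at h
    rw [← h, he]
    simp [mul_assoc]
  have heE : e ∈ twoCoreOfCentralizer z := by
    rw [hee]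
    exact Subgroup.mul_mem _ hE1 hE2
  have he2 : e * e = 1 := by
    rw [he, ← hu1]
    calc _ = (m : G) * T.el d * (u * u) * (T.el d)⁻¹ * (m : G)⁻¹ := by group
      _ = 1 := by rw [hu2]; group
  obtain ⟨w, hw⟩ := S.hE e heE he2
  refine ⟨w * m * T.el d, ?_⟩
  rw [he, ← hu1] at hw
  simpa [mul_assoc] using hw

/-- A member outside the class of `z` is the element of a pair. -/
theorem isD_of_not_conj {a : ℕ} (ha : a < 2048) (h0 : a ≠ 0) (h : ¬ IsConj z (T.el a)) :
    isD a = true := by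
  rcases Bool.eq_false_or_eq_true (isD a) with hD | hD
  · exact hD
  · exact absurd ((T.cls a ha).2 ⟨h0, hD⟩) h

/-- The complement in the centraliser of a member. -/
theorem cent_split (S : Split56 G z T) {b : ℕ} (hb : b < 2048)
    (hle : centralizer ({T.el b} : Set G) ≤ normalizer (T.V : Set G)) :
    T.V ≤ centralizer ({T.el b} : Set G) ∧
    (S.K ⊓ centralizer ({T.el b} : Set G)) ⊓ T.V = ⊥ ∧
    (S.K ⊓ centralizer ({T.el b} : Set G)) ⊔ T.V = centralizer ({T.el b} : Set G) := by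
  have hV : T.V ≤ centralizer ({T.el b} : Set G) := by
    intro v hv
    obtain ⟨a, ha, rfl⟩ := (T.mem_V v).1 hv
    exact mem_centralizer_singleton_iff.2 (T.el_comm ha hb)
  refine ⟨hV, ?_, le_antisymm (sup_le inf_le_right hV) fun x hx => ?_⟩
  · rw [_root_.eq_bot_iff]
    exact fun k hk => mem_bot.2 (split_mem_K_inf S hk.1.1 hk.2)
  · obtain ⟨k, hk, v, hv, rfl⟩ := split_decomp S (hle hx)
    have hkc : k ∈ centralizer ({T.el b} : Set G) := by
      have h := (centralizer ({T.el b} : Set G)).mul_mem hx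
        ((centralizer ({T.el b} : Set G)).inv_mem (hV hv))
      rwa [mul_inv_cancel_right] at h
    exact Subgroup.mul_mem_sup ⟨hk, hkc⟩ hv

/-- The permutation induced by a member of the complement. -/
def permHom (S : Split56 G z T) : ↥S.K →* ↥Cfsg.M24 := T.ρ.comp (inclusion S.le)

theorem permHom_injective (S : Split56 G z T) : Function.Injective (permHom S) := by
  refine (injective_iff_map_eq_one _).2 fun k hk => Subtype.ext ?_
  exact split_mem_K_inf S k.2 (T.mem_V_of_ρ hk)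

theorem permHom_surjective (S : Split56 G z T) : Function.Surjective (permHom S) := fun σ => by
  obtain ⟨k, hk, e⟩ := S.iso σ
  exact ⟨⟨k, hk⟩, e⟩

/-- The complement in the centraliser of a pair element is the stabiliser of the pair. -/
theorem cent_iso (S : Split56 G z T) {b : ℕ} (hb : b < 2048) (hD : isD b = true) :
    Nonempty (↥(S.K ⊓ centralizer ({T.el b} : Set G)) ≃* MulAut ↥Cfsg.Spor.M22) := by
  obtain ⟨p, q, hpq, hbe⟩ := isD_iff.1 hD
  set Kb := S.K ⊓ centralizer ({T.el b} : Set G) with hKb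
  let f : ↥Kb →* Equiv.Perm GolayPt :=
    Cfsg.M24.subtype.comp ((permHom S).comp (inclusion (inf_le_left : Kb ≤ S.K)))
  have hinj : Function.Injective f :=
    Cfsg.M24.subtype_injective.comp ((permHom_injective S).comp (inclusion_injective _))
  have hfix : ∀ k : ↥S.K, act ((permHom S k : ↥Cfsg.M24) : Equiv.Perm GolayPt) b = b ↔
      (k : G) ∈ centralizer ({T.el b} : Set G) := by
    intro k
    have h := T.ρ_spec (inclusion S.le k) b hb
    change (k : G) * T.el b * (k : G)⁻¹ =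
      T.el (act ((permHom S k : ↥Cfsg.M24) : Equiv.Perm GolayPt) b) at h
    rw [mem_centralizer_singleton_iff]
    constructor
    · intro he
      rw [he] at h
      exact mul_inv_eq_iff_eq_mul.1 h
    · intro he
      refine T.el_inj _ (act_lt _ _) _ hb ?_
      rw [← h, he, mul_inv_cancel_right]
  have hmem : ∀ σ : Equiv.Perm GolayPt,
      σ ∈ duadStab p q ↔ σ ∈ Cfsg.M24 ∧ act σ b = b := by
    intro σ
    rw [mem_duadStab, ← hbe]
    refine and_congr_right fun hσ => ?_
    rw [act_pair hσ]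
    constructor
    · rintro (⟨h1, h2⟩ | ⟨h1, h2⟩) <;> rw [h1, h2]
      exact Nat.xor_comm _ _
    · intro h
      exact pair_eq_cases (pair_inj (fun e => hpq (σ.injective e)) hpq h)
  have hrange : f.range = duadStab p q := by
    ext σ
    rw [hmem, MonoidHom.mem_range]
    constructor
    · rintro ⟨k, rfl⟩
      exact ⟨(permHom S (inclusion inf_le_left k)).2, (hfix (inclusion inf_le_left k)).2 k.2.2⟩
    · rintro ⟨hσ, he⟩
      obtain ⟨k, hk⟩ := permHom_surjective S ⟨σ, hσ⟩
      refine ⟨⟨k, k.2, (hfix k).1 (by rw [hk]; exact he)⟩, ?_⟩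
      show ((permHom S k : ↥Cfsg.M24) : Equiv.Perm GolayPt) = σ
      rw [hk]
  obtain ⟨e⟩ := duadStab_iso hpq
  exact ⟨((MonoidHom.ofInjective hinj).trans (MulEquiv.subgroupCongr hrange)).trans e⟩

theorem mem_map_conj {X : Subgroup G} {g x : G} :
    x ∈ X.map (MulAut.conj g).toMonoidHom ↔ g⁻¹ * x * g ∈ X := by
  constructor
  · rintro ⟨y, hy, rfl⟩
    simpa [mul_assoc] using hy
  · intro h
    exact ⟨_, h, by simp [mul_assoc]⟩

theorem normalizer_map_conj (X : Subgroup G) (g : G) :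
    normalizer ((X.map (MulAut.conj g).toMonoidHom : Subgroup G) : Set G) =
      (normalizer (X : Set G)).map (MulAut.conj g).toMonoidHom := by
  ext x
  rw [mem_map_conj, mem_normalizer_iff, mem_normalizer_iff]
  constructor
  · intro h y
    have h1 := h (g * y * g⁻¹)
    rw [mem_map_conj, mem_map_conj] at h1
    simpa [mul_assoc] using h1
  · intro h y
    have h1 := h (g⁻¹ * y * g)
    rw [mem_map_conj, mem_map_conj]
    simpa [mul_assoc] using h1

theorem centralizer_conj (g t : G) :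
    centralizer ({g * t * g⁻¹} : Set G) =
      (centralizer ({t} : Set G)).map (MulAut.conj g).toMonoidHom := by
  ext x
  rw [mem_map_conj, mem_centralizer_singleton_iff, mem_centralizer_singleton_iff]
  constructor
  · intro h
    calc g⁻¹ * x * g * t = g⁻¹ * (x * (g * t * g⁻¹)) * g := by group
      _ = g⁻¹ * (g * t * g⁻¹ * x) * g := by rw [h]
      _ = t * (g⁻¹ * x * g) := by group
  · intro h
    calc x * (g * t * g⁻¹) = g * (g⁻¹ * x * g * t) * g⁻¹ := by group
      _ = g * (t * (g⁻¹ * x * g)) * g⁻¹ := by rw [h]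
      _ = g * t * g⁻¹ * x := by group

theorem centralizer_set_map_conj (X : Subgroup G) (g : G) :
    centralizer ((X.map (MulAut.conj g).toMonoidHom : Subgroup G) : Set G) =
      (centralizer (X : Set G)).map (MulAut.conj g).toMonoidHom := by
  ext x
  rw [mem_map_conj, mem_centralizer_iff, mem_centralizer_iff]
  constructor
  · intro h y hy
    have h1 := h (g * y * g⁻¹) (mem_map_conj.2 (by simpa [mul_assoc] using hy))
    calc y * (g⁻¹ * x * g) = g⁻¹ * (g * y * g⁻¹ * x) * g := by group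
      _ = g⁻¹ * (x * (g * y * g⁻¹)) * g := by rw [h1]
      _ = g⁻¹ * x * g * y := by group
  · intro h y hy
    have h1 := h _ (mem_map_conj.1 hy)
    calc y * x = g * (g⁻¹ * y * g * (g⁻¹ * x * g)) * g⁻¹ := by group
      _ = g * (g⁻¹ * x * g * (g⁻¹ * y * g)) * g⁻¹ := by rw [h1]
      _ = x * y := by group

/-- Conjugation as an isomorphism of a subgroup with its conjugate. -/
noncomputable def conjIso (X : Subgroup G) (g : G) :
    ↥X ≃* ↥(X.map (MulAut.conj g).toMonoidHom) :=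
  X.equivMapOfInjective _ (MulAut.conj g).injective

theorem isElementary_map {X : Subgroup G} (h : Cfsg.IsElementaryAbelian 2 X) (g : G) :
    Cfsg.IsElementaryAbelian 2 (X.map (MulAut.conj g).toMonoidHom) := by
  refine ⟨⟨⟨fun x y => ?_⟩⟩, fun x hx => ?_⟩
  · obtain ⟨x', rfl⟩ := (conjIso X g).surjective x
    obtain ⟨y', rfl⟩ := (conjIso X g).surjective y
    rw [← map_mul, ← map_mul, h.1.is_comm.comm]
  · obtain ⟨y, hy, rfl⟩ := hx
    rw [← map_pow, h.2 y hy, map_one]

/-- **The centraliser of an involution outside the class of `z`.** -/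
theorem classes_of_facts (hC : CoverStmt) : ClassesStmt.{u} := by
  intro G _ _ z T S hCD t ht hnz
  obtain ⟨g, a, ha, h0, he⟩ := exists_conj_el hC S ht
  have hnc : ¬ IsConj z (T.el a) := fun h => hnz (h.trans (isConj_iff.2 ⟨g⁻¹, by rw [← he]; group⟩))
  have hD := isD_of_not_conj ha h0 hnc
  have hle := hCD a ha hD
  obtain ⟨hVC, hinf, hsup⟩ := cent_split S ha hle
  obtain ⟨eK⟩ := cent_iso S ha hD
  set Kb := S.K ⊓ centralizer ({T.el a} : Set G) with hKb
  have hinj : Function.Injective (MulAut.conj g⁻¹).toMonoidHom := (MulAut.conj g⁻¹).injective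
  have hct : centralizer ({t} : Set G) =
      (centralizer ({T.el a} : Set G)).map (MulAut.conj g⁻¹).toMonoidHom := by
    rw [← centralizer_conj, ← he]
    congr 2
    group
  refine ⟨T.V.map (MulAut.conj g⁻¹).toMonoidHom, Kb.map (MulAut.conj g⁻¹).toMonoidHom,
    hct ▸ map_mono hVC, hct ▸ map_mono inf_le_right, ?_, isElementary_map T.isElementary _, ?_, ?_,
    ?_, ⟨(conjIso Kb g⁻¹).symm.trans eK⟩⟩
  · rw [hct, normalizer_map_conj]
    exact map_mono hle
  · rw [← Nat.card_congr (conjIso T.V g⁻¹).toEquiv, T.card_V]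
  · rw [← Subgroup.map_inf _ _ _ hinj, hinf, Subgroup.map_bot]
  · rw [← Subgroup.map_sup, hsup, hct]

theorem conj_injective (g : G) : Function.Injective fun x : G => g * x * g⁻¹ :=
  fun _ _ h => (MulAut.conj g).injective h

theorem setOf_orbit_conj (N : Subgroup G) (a g : G) :
    {v : G | ∃ n ∈ N.map (MulAut.conj g).toMonoidHom, n * (g * a * g⁻¹) * n⁻¹ = v} =
      (fun x => g * x * g⁻¹) '' {v : G | ∃ n ∈ N, n * a * n⁻¹ = v} := by
  ext v
  constructor
  · rintro ⟨n, hn, rfl⟩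
    refine ⟨_, ⟨g⁻¹ * n * g, mem_map_conj.1 hn, rfl⟩, ?_⟩
    group
  · rintro ⟨_, ⟨n, hn, rfl⟩, rfl⟩
    exact ⟨g * n * g⁻¹, mem_map_conj.2 (by simpa [mul_assoc] using hn), by group⟩

/-- An orbit of the normaliser on the coordinate group, transitive on a set of coordinates. -/
theorem ncard_orbit (P : ℕ → Prop) {a : ℕ} (ha : a < 2048)
    (hclosed : ∀ σ ∈ Cfsg.M24, P (act σ a))
    (htrans : ∀ c, c < 2048 → P c → ∃ σ ∈ Cfsg.M24, act σ c = a) :
    Set.ncard {v : G | ∃ n ∈ normalizer (T.V : Set G), n * T.el a * n⁻¹ = v} =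
      Set.ncard {n | n < 2048 ∧ P n} := by
  have he : {v : G | ∃ n ∈ normalizer (T.V : Set G), n * T.el a * n⁻¹ = v} =
      T.el '' {n | n < 2048 ∧ P n} := by
    ext v
    simp only [Set.mem_image, Set.mem_ofPred_eq]
    constructor
    · rintro ⟨n, hn, rfl⟩
      exact ⟨_, ⟨act_lt _ _, hclosed _ (T.ρ ⟨n, hn⟩).2⟩, (T.ρ_spec ⟨n, hn⟩ a ha).symm⟩
    · rintro ⟨c, ⟨hc, hP⟩, rfl⟩
      obtain ⟨σ, hσ, hσc⟩ := htrans c hc hP
      obtain ⟨n, hn⟩ := T.ρ_surj ⟨σ⁻¹, Cfsg.M24.inv_mem hσ⟩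
      refine ⟨n, n.2, ?_⟩
      rw [T.ρ_spec n a ha, hn]
      show T.el (act σ⁻¹ a) = T.el c
      rw [← hσc, act_inv_act hσ hc]
  rw [he, Set.InjOn.ncard_image]
  intro x hx y hy hxy
  exact T.el_inj x hx.1 y hy.1 hxy

/-- **The orbits on a subgroup of order `2¹¹`, and its normaliser.** -/
theorem orbits : OrbitsStmt.{u} := by
  intro G _ _ z T S hCD V hV hcard
  obtain ⟨g, rfl⟩ := S.conj V hV hcard
  have hinj : Function.Injective (MulAut.conj g).toMonoidHom := (MulAut.conj g).injective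
  have h2D : isD 2 = true := isD_two
  have hnc : ¬ IsConj z (T.el 2) := fun h =>
    absurd ((T.cls 2 (by norm_num)).1 h).2 (by rw [h2D]; decide)
  refine ⟨⟨g * z * g⁻¹, g * T.el 2 * g⁻¹, ?_, ?_, ?_, isConj_iff.2 ⟨g, rfl⟩, fun h => hnc
    (h.trans (isConj_iff.2 ⟨g⁻¹, by group⟩)), ?_, ?_, ?_⟩, ?_, ?_⟩
  · refine mem_map_conj.2 ?_
    have := T.el_mem (a := 1) (by norm_num)
    rw [T.el_z] at this
    simpa [mul_assoc] using this
  · exact mem_map_conj.2 (by simpa [mul_assoc] using T.el_mem (a := 2) (by norm_num))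
  · intro h
    exact absurd (T.eq_zero_of_el (by norm_num) (conj_eq_one_iff.1 h)) (by norm_num)
  · rw [normalizer_map_conj, setOf_orbit_conj,
      Set.ncard_image_of_injective _ (conj_injective g)]
    have h := ncard_orbit (T := T) IsQ (a := 1) (by norm_num)
      (fun σ hσ => (isQ_act hσ (by norm_num)).2 isQ_one) (fun c hc hP => trans_Q hc hP)
    simp only [T.el_z] at h
    rw [h, ncard_Q]
  · rw [normalizer_map_conj, setOf_orbit_conj,
      Set.ncard_image_of_injective _ (conj_injective g),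
      ncard_orbit (fun n => isD n = true) (by norm_num), ncard_D]
    · intro σ hσ
      rw [isD_act hσ (by norm_num)]
      exact h2D
    · exact fun c hc hP => trans_D hP h2D
  · rw [centralizer_conj, normalizer_map_conj]
    exact map_mono (hCD 2 (by norm_num) h2D)
  · rw [centralizer_set_map_conj]
    exact map_mono T.cent
  · refine ⟨S.K.map (MulAut.conj g).toMonoidHom, ?_, ?_, ?_,
      ⟨(conjIso S.K g).symm.trans (MulEquiv.ofBijective (permHom S)
        ⟨permHom_injective S, permHom_surjective S⟩)⟩⟩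
    · rw [normalizer_map_conj]
      exact map_mono S.le
    · rw [← Subgroup.map_inf _ _ _ hinj, S.inf, Subgroup.map_bot]
    · rw [← Subgroup.map_sup, S.sup, normalizer_map_conj]

end Main

end Cfsg.Agent.Lib.J4Two56
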