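import Cfsg.Agent.Lib.J4Two56.Frame
import Cfsg.Agent.Lib.J4Two56.Local

/-!
# Finite checks on points, lines and indices of the first plane
-/

set_option autoImplicit false
set_option maxRecDepth 100000

namespace Cfsg.Agent.Lib.J4Two56

/-- Adjoin the images under a list of maps, a given number of times. -/
def reach56 (g : List (ℕ → ℕ)) : ℕ → List ℕ → List ℕ :=
  fun n l => Nat.rec l (fun _ r => (r ++ g.flatMap fun h => r.map h).dedup) n

theorem reach56_const {g : List (ℕ → ℕ)} {C : ℕ → Prop} (hC : ∀ h ∈ g, ∀ x, C x → C (h x)) :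
    ∀ n l, (∀ x ∈ l, C x) → ∀ x ∈ reach56 g n l, C x := by
  intro n
  induction n with
  | zero => exact fun l hl => hl
  | succ n ih =>
    intro l hl x hx
    change x ∈ (reach56 g n l ++ g.flatMap fun h => (reach56 g n l).map h).dedup at hx
    rw [List.mem_dedup, List.mem_append, List.mem_flatMap] at hx
    rcases hx with hx | ⟨h, hh, hx⟩
    · exact ih l hl x hx
    · obtain ⟨w, hw, rfl⟩ := List.mem_map.1 hx
      exact hC h hh w (ih l hl w hw)

/-- The multiples of a coded vector. -/
def mults (v : ℕ) : List ℕ := [v, sc 2 v, sc 2 (sc 2 v)]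

theorem pnt_mults_ok : ((List.range 64).all fun v => decide (pnt v ∈ mults v) && decide (v ∈ mults (pnt v)) &&
    decide (pnt v < 64) && decide (sc 2 v < 64) && decide (pnt (sc 2 v) = pnt v) &&
    decide (v = 0 ↔ pnt v = 0)) = true := by decide +kernel

theorem pnt_spec {v : ℕ} (hv : v < 64) :
    pnt v ∈ mults v ∧ v ∈ mults (pnt v) ∧ pnt v < 64 ∧ sc 2 v < 64 ∧ pnt (sc 2 v) = pnt v ∧ (v = 0 ↔ pnt v = 0) := by
  have h := List.all_eq_true.1 pnt_mults_ok v (List.mem_range.2 hv)
  simp only [Bool.and_eq_true, decide_eq_true_eq] at h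
  obtain ⟨⟨⟨⟨⟨h1, h2⟩, h3⟩, h4⟩, h5⟩, h6⟩ := h
  exact ⟨h1, h2, h3, h4, h5, h6⟩

/-- Maps on points. -/
def ptGens : List (ℕ → ℕ) := (List.range 4).map pmap

theorem ptOrbit_ok : ((List.range 64).all fun v => Nat.beq v 0 ||
    (decide (pnt v ∈ reach56 ptGens 8 [if isHy v then 1 else 5]))) = true := by decide +kernel

theorem ptBase_ok : (isHy 1 && !isHy 5 && decide (pnt 1 = 1) && decide (pnt 5 = 5)) = true := by decide +kernel

/-- Maps on indices. -/
def idxGens : List (ℕ → ℕ) := (List.range 4).map M22D.uP

theorem idxOrbit_ok : ((List.range 16).all fun i => Nat.beq i 0 || decide (i ∈ reach56 idxGens 8 [1])) = true := by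
  decide +kernel

theorem uP_ok : ((List.range 4).all fun k => (List.range 16).all fun i =>
    decide (M22D.uP k i < 16) && decide (i = 0 ↔ M22D.uP k i = 0)) = true := by decide +kernel

theorem line_map_ok : ((List.range 4).all fun k => (List.range 16).all fun i => (List.range 64).all fun v =>
    Nat.beq i 0 || ((mults (pmap k v)).all fun v' =>
      decide (inLine (M22D.uP k i) v' = inLine i v))) = true := by decide +kernel

theorem line_closed_ok : ((List.range 16).all fun i => Nat.beq i 0 || (inLine i 0 && (List.range 64).all fun v =>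
    (decide (inLine i (sc 2 v) = inLine i v)) && (List.range 64).all fun w =>
      !inLine i v || !inLine i w || inLine i (v ^^^ w))) = true := by decide +kernel

/-- A coded vector outside the line of an index. -/
def outPt (i : ℕ) : ℕ := ((List.range 64).find? fun v => !inLine i v).getD 0

theorem line_out_ok : ((List.range 16).all fun i => Nat.beq i 0 ||
    (!inLine i (outPt i) && decide (outPt i < 64) && (List.range 64).all fun v => inLine i v ||
      decide (v ∈ reach56 (sc 2 :: ((List.range 64).filter (inLine i)).map fun w x => x ^^^ w) 4 [outPt i]))) = true := by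
  decide +kernel

end Cfsg.Agent.Lib.J4Two56
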