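import Cfsg.Agent.Lib.J4Two56.BCoord
import Cfsg.Agent.Lib.J4Two56.Cert56

/-!
# Classes on the elementary subgroup
-/

set_option autoImplicit false
set_option linter.unusedSectionVars false

universe u

namespace Cfsg.Agent.Lib.J4Two56

open Cfsg Cfsg.Agent.Lib.J4Type19 Cfsg.Agent.Lib.J4Fusion14

attribute [local instance] m22_finite

theorem xor_inj_bool {a b : Bool} (h : (a ^^ b) = false) : a = b := by cases a <;> cases b <;> simp_all

variable {G : Type u} [Group G] [Finite G] {z : G} {P : Subgroup G}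
variable {D : HData z P} {X : Plus M22t}

namespace Base

variable (S : Base D X)
include S

/-- Being conjugate to `z`. -/
def Z1 (b : G) : Prop := (fun _ : Base D X => IsConj z b) S

theorem Z1_conj (h b : G) : S.Z1 (h * b * h⁻¹) ↔ S.Z1 b :=
  ⟨fun hh => IsConj.trans hh (isConj_iff.2 ⟨h⁻¹, by group⟩), fun hh => IsConj.trans hh (isConj_iff.2 ⟨h, rfl⟩)⟩

theorem sv_z {v : ℕ} (hv : v < 64) (hv0 : v ≠ 0) (e : Bool) : S.Z1 (zb z e * S.sv v) ↔ S.Z1 (S.sv v) := by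
  cases e
  · simp [zb]
  · have hne : S.f.vec v ≠ 0 := fun h => hv0 (S.f.vec_inj v hv 0 (by norm_num) (h.trans S.vec_zero.symm))
    obtain ⟨f, hf⟩ : ∃ f : ↥(cE z), ¬ Commute (f : G) (S.sv v) := by
      by_contra hno
      push Not at hno
      apply hne
      rw [← S.sv_mk v hv, mk_eq_zero D.hJ, ← center_iff D.hJ, Subgroup.mem_center_iff]
      exact fun f => Subtype.ext (hno f).eq
    have hfz : (f : G) * S.sv v * (f : G)⁻¹ = z * S.sv v := by
      rcases comm_or D.hJ f ⟨S.sv v, S.sv_mem_cE v⟩ with h | h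
      · exact absurd (mul_inv_eq_iff_eq_mul.1 (mul_inv_eq_one.1 h)) hf
      · exact mul_inv_eq_iff_eq_mul.1 h
    rw [show zb z true = z from rfl, ← hfz, S.Z1_conj]

theorem w_conj {v : ℕ} (hv : v < 64) : (D.p ^ S.L.e) * S.sv v * (D.p ^ S.L.e)⁻¹ = S.sv (sc 2 v) := by
  have hpH : D.p ^ S.L.e ∈ cH z := pow_mem D.pH _
  have hact : J4Fusion14.act ⟨D.p ^ S.L.e, hpH⟩ (S.f.vec v) = S.f.vec (sc 2 v) := by
    rw [← S.f.vec_w v hv]
    obtain ⟨e, he⟩ := mk_surjective (S.f.vec v)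
    rw [← he, J4Fusion14.act_mk, smul_mk]
    rfl
  rw [sv, S.secV_conj hpH (Or.inl (by group)) (S.f.vec_mem v hv)
    (by rw [hact]; exact S.f.vec_mem _ (pnt_spec hv).2.2.2.1), hact]
  rfl

theorem gen_conj {k : ℕ} (hk : k < 4) : ∃ c : ↥(cC z P), D.π c = X.n k ∧ ∀ v, v < 64 →
    ∃ v', v' < 64 ∧ pnt v' = pmap k v ∧ (c : G) * S.sv v * (c : G)⁻¹ = S.sv v' := by
  obtain ⟨c, hc⟩ := D.πsurj (X.n k)
  refine ⟨c, hc, fun v hv => ?_⟩
  obtain ⟨v', hv', hcv, hp⟩ := S.f.act_gen k hk c hc v hv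
  refine ⟨v', hv', hp, ?_⟩
  rw [sv, S.secV_conj c.2.1 (Or.inl (by rw [← D.comm_p c, mul_inv_cancel_right])) (S.f.vec_mem v hv)
    (by rw [act_smul, hcv]; exact S.f.vec_mem _ hv'), act_smul, hcv]
  rfl

theorem Z1_mult {v : ℕ} (hv : v < 64) : ∀ w ∈ mults v, w < 64 ∧ (S.Z1 (S.sv w) ↔ S.Z1 (S.sv v)) := by
  intro w hw
  have h1 := (pnt_spec hv).2.2.2.1
  have h2 := (pnt_spec h1).2.2.2.1
  have e1 : S.Z1 (S.sv (sc 2 v)) ↔ S.Z1 (S.sv v) := by rw [← S.w_conj hv, S.Z1_conj]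
  have e2 : S.Z1 (S.sv (sc 2 (sc 2 v))) ↔ S.Z1 (S.sv v) := by rw [← S.w_conj h1, S.Z1_conj, e1]
  simp only [mults, List.mem_cons, List.not_mem_nil, or_false] at hw
  rcases hw with rfl | rfl | rfl
  exacts [⟨hv, Iff.rfl⟩, ⟨h1, e1⟩, ⟨h2, e2⟩]

theorem Z1_sv {v : ℕ} (hv : v < 64) (hv0 : v ≠ 0) :
    S.Z1 (S.sv v) ↔ S.Z1 (S.sv (if isHy v then 1 else 5)) := by
  obtain ⟨b, hb⟩ : ∃ b, b = (if isHy v then 1 else 5) := ⟨_, rfl⟩
  rw [← hb]
  let C : ℕ → Prop := fun x => x < 64 ∧ pnt x = x ∧ (S.Z1 (S.sv x) ↔ S.Z1 (S.sv b))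
  have hC : ∀ h ∈ ptGens, ∀ x, C x → C (h x) := by
    intro h hh x ⟨hx, _, hxb⟩
    obtain ⟨k, hk, rfl⟩ := List.mem_map.1 hh
    obtain ⟨c, -, hc⟩ := S.gen_conj (List.mem_range.1 hk)
    obtain ⟨v', hv', hp, he⟩ := hc x hx
    obtain ⟨hq, hz'⟩ := S.Z1_mult hv' _ (pnt_spec hv').1
    refine ⟨hp ▸ hq, ?_, ?_⟩
    · rw [← hp]
      obtain ⟨h1, -, -, -, h5, -⟩ := pnt_spec hv'
      simp only [mults, List.mem_cons, List.not_mem_nil, or_false] at h1
      rcases h1 with h1 | h1 | h1 <;> conv_lhs => rw [h1]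
      · rw [h5]
      · rw [(pnt_spec (pnt_spec hv').2.2.2.1).2.2.2.2.1, h5]
    · rw [← hp, hz', ← he, S.Z1_conj, hxb]
  have hb64 : b < 64 ∧ pnt b = b := by
    have h := ptBase_ok
    simp only [Bool.and_eq_true, decide_eq_true_eq] at h
    rw [hb]
    split
    · exact ⟨by norm_num, h.1.2⟩
    · exact ⟨by norm_num, h.2⟩
  have h := List.all_eq_true.1 ptOrbit_ok v (List.mem_range.2 hv)
  simp only [Bool.or_eq_true, decide_eq_true_eq] at h
  rw [← hb] at h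
  have h' := (reach56_const hC 8 [b] (by simp [C, hb64]) _ (h.resolve_left fun e => hv0 (Nat.eq_of_beq_eq_true e))).2.2
  rw [← h', (S.Z1_mult hv _ (pnt_spec hv).1).2]

variable {l : ℕ → ↥(cC z P)} (hl : ∀ i, i < 16 → D.π (l i) = X.u i ∧ l i * l i = 1)
include hl

theorem comm_l_of_fix {i : ℕ} (hi : i < 16) {f : ↥(cE z)} (h : (l i : ↥(cC z P)) • J4Type19.mk f = J4Type19.mk f) :
    Commute (l i : G) (f : G) := by
  obtain ⟨f1, hf1⟩ : ∃ f1, f1 = cEAut D.p D.pH f := ⟨_, rfl⟩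
  obtain ⟨f2, hf2⟩ : ∃ f2, f2 = cEAut D.p D.pH f1 := ⟨_, rfl⟩
  have hcz : Commute (l i : G) z := (D.comm_z (l i)).symm
  have hlp : Commute (l i : G) D.p := (D.comm_p (l i)).symm
  rw [smul_mk] at h
  obtain ⟨t, ht⟩ : ∃ t : Bool, (l i : G) * f * (l i : G)⁻¹ = zb z t * f := by
    rcases (mk_eq D.hJ).1 h.symm with e | e
    · exact ⟨false, by simp only [zb, Bool.false_eq_true, if_false, one_mul]; exact e⟩
    · exact ⟨true, by
        rw [show zb z true = z from rfl, ← Subgroup.mem_centralizer_singleton_iff.1 (cE_le z f.2)]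
        exact e⟩
  have hconj : ∀ x : ↥(cE z), (l i : G) * x * (l i : G)⁻¹ = zb z t * x →
      (l i : G) * (D.p * x * D.p⁻¹) * (l i : G)⁻¹ = zb z t * (D.p * x * D.p⁻¹) := by
    intro x hx
    have hzp : Commute D.p (zb z t) := S.commBE D.pH t
    calc (l i : G) * (D.p * x * D.p⁻¹) * (l i : G)⁻¹
        = ((l i : G) * D.p) * x * (D.p⁻¹ * (l i : G)⁻¹) := by group
      _ = (D.p * (l i : G)) * x * ((l i : G)⁻¹ * D.p⁻¹) := by
          rw [hlp.eq, show D.p⁻¹ * (l i : G)⁻¹ = (l i : G)⁻¹ * D.p⁻¹ from (hlp.inv_inv).eq.symm]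
      _ = D.p * ((l i : G) * x * (l i : G)⁻¹) * D.p⁻¹ := by group
      _ = zb z t * (D.p * x * D.p⁻¹) := by rw [hx, ← mul_assoc, hzp.eq]; group
  have e1 : (l i : G) * f1 * (l i : G)⁻¹ = zb z t * f1 := by rw [hf1]; exact hconj f ht
  have e2 : (l i : G) * f2 * (l i : G)⁻¹ = zb z t * f2 := by rw [hf2]; exact hconj f1 e1
  have hc21 : Commute (l i : G) ((f2 : G) * f1) := by
    refine mul_inv_eq_iff_eq_mul.1 ?_
    calc (l i : G) * ((f2 : G) * f1) * (l i : G)⁻¹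
        = ((l i : G) * f2 * (l i : G)⁻¹) * ((l i : G) * f1 * (l i : G)⁻¹) := by group
      _ = zb z t * ((f2 : G) * zb z t) * f1 := by rw [e1, e2]; group
      _ = (zb z t * zb z t) * ((f2 : G) * f1) := by rw [S.commBE (cE_le z f2.2)]; group
      _ = (f2 : G) * f1 := by rw [← S.zb_mul, Bool.xor_self]; simp [zb]
  have hsum : J4Type19.mk (f2 * f1) = J4Type19.mk f := by
    rw [mk_mul, hf2, ← D.smul_p_mk, hf1, ← D.smul_p_mk]
    have h3 := D.toJMod.ω_sum (J4Type19.mk f)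
    rw [add_assoc, add_eq_zero_iff_eq_neg, D.toJMod.neg_eq] at h3
    conv_rhs => rw [h3]
    exact add_comm _ _
  rcases (mk_eq D.hJ).1 hsum with e | e
  · rw [show (f : G) = f2 * f1 from e]; exact hc21
  · rw [show (f : G) = f2 * f1 * z from e]; exact hc21.mul_right hcz

theorem line_move {i : ℕ} (hi : i < 16) (hi0 : i ≠ 0) (f : ↥(cE z)) :
    ∃ t w, w < 64 ∧ inLine i w = true ∧ (l i : G) * f * (l i : G)⁻¹ = zb z t * S.sv w * f := by
  obtain ⟨w, hw, hwl, he⟩ :=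
    (S.f.line i hi hi0 (l i) (hl i hi).1 (S.l_four hl i hi) _).1 ⟨J4Type19.mk f, rfl⟩
  have hmem : (l i : G) * f * (l i : G)⁻¹ * (f : G)⁻¹ ∈ cE z := mul_mem (cE_conj (l i).2.1 f.2) (inv_mem f.2)
  obtain ⟨t, ht⟩ := S.over_vec (e := ⟨_, hmem⟩) hw (by
    rw [he, smul_mk, show (⟨_, hmem⟩ : ↥(cE z)) = cEAut (l i : G) (l i).2.1 f * f⁻¹ from rfl, mk_mul]
    congr 1
    refine eq_neg_of_add_eq_zero_left (by rw [← mk_mul, inv_mul_cancel, mk_one]) |>.trans ?_
    exact D.toJMod.neg_eq _)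
  refine ⟨t, w, hw, hwl, ?_⟩
  rw [← show (l i : G) * f * (l i : G)⁻¹ * (f : G)⁻¹ = zb z t * S.sv w from ht, inv_mul_cancel_right]

theorem conj_fibre {i : ℕ} (hi : i < 16) (f : ↥(cE z)) {t : Bool} {w : ℕ} (hw : w < 64)
    (hf : (l i : G) * f * (l i : G)⁻¹ = zb z t * S.sv w * f) :
    (f : G) * (l i : G) * (f : G)⁻¹ = zb z t * S.sv w * (l i : G) := by
  have hA : zb z t * S.sv w ∈ S.B := mul_mem (S.zb_mem t) (S.sv_mem w hw)
  have h1 : (l i : G) * f = zb z t * S.sv w * f * (l i : G) := mul_inv_eq_iff_eq_mul.1 hf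
  have h2 : (zb z t * S.sv w) * (zb z t * S.sv w) = 1 := S.hB.2.1 _ hA
  rw [mul_inv_eq_iff_eq_mul, mul_assoc (zb z t * S.sv w), h1, ← mul_assoc, ← mul_assoc, h2, one_mul]

theorem flip_out {i v : ℕ} (hi : i < 16) (hi0 : i ≠ 0) (hv : v < 64) (hvl : inLine i v = false) (e : Bool) :
    S.Z1 (S.el0 l e v i) ↔ S.Z1 (S.el0 l false v i) := by
  cases e
  · rfl
  · have hnot : S.f.vec v ∉ perpOf D.toJMod.β (fixElt (V := cV z) (l i)) := by
      have := D.toJMod.finiteV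
      intro hper
      obtain ⟨I, hI⟩ : ∃ I : AddSubgroup (cV z), I = (DistribSMul.toAddMonoidHom (cV z) (l i) +
          AddMonoidHom.id (cV z)).range := ⟨_, rfl⟩
      have hle : I ≤ perpOf D.toJMod.β (fixElt (V := cV z) (l i)) := by
        rw [hI]
        rintro _ ⟨x, rfl⟩ s hs
        show D.toJMod.β ((l i : ↥(cC z P)) • x + x) s = 0
        have h0 : D.toJMod.β ((l i : ↥(cC z P)) • x) s = D.toJMod.β x s := by
          conv_lhs => rw [← show (l i : ↥(cC z P)) • s = s from hs]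
          exact D.toJMod.inv _ _ _
        rw [map_add, AddMonoidHom.add_apply, h0]
        exact CharTwo.add_self_eq_zero _
      have hu1 : X.u i ≠ 1 := fun h => hi0 (X.u_inj i hi 0 (by norm_num) (by
        rw [h]
        have h0 := X.u_xor 0 (by norm_num) 0 (by norm_num)
        rw [Nat.xor_self] at h0
        exact (left_eq_mul.1 h0).symm))
      have hfix : Nat.card ↥(fixElt (V := cV z) (l i)) = 2 ^ 8 := by
        refine D.toJMod.card_fixElt S.L ?_ ?_ (S.l_four hl i hi)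
        · rw [show D.toJMod.π (l i) = X.u i from (hl i hi).1]; exact X.F.sq0 _ (X.u_mem i hi)
        · rw [show D.toJMod.π (l i) = X.u i from (hl i hi).1]; exact hu1
      have hk : (DistribSMul.toAddMonoidHom (cV z) (l i) + AddMonoidHom.id (cV z)).ker =
          fixElt (V := cV z) (l i) := by
        ext x
        show (l i : ↥(cC z P)) • x + x = 0 ↔ (l i : ↥(cC z P)) • x = x
        rw [add_eq_zero_iff_eq_neg, D.toJMod.neg_eq]
      have hIc : Nat.card ↥I = 2 ^ 4 := by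
        have h := AddSubgroup.card_mul_index (DistribSMul.toAddMonoidHom (cV z) (l i) + AddMonoidHom.id (cV z)).ker
        rw [AddSubgroup.index_ker, hk, hfix, D.toJMod.cardV, ← hI] at h
        omega
      have heq : I = perpOf D.toJMod.β (fixElt (V := cV z) (l i)) :=
        D.toJMod.eq_of_card hle (by rw [D.toJMod.card_perp_of (a := 8) (b := 4) rfl hfix, hIc])
      rw [← heq, hI] at hper
      obtain ⟨x, hx⟩ := hper
      obtain ⟨w, hw, hwl, he⟩ :=
        (S.f.line i hi hi0 (l i) (hl i hi).1 (S.l_four hl i hi) (S.f.vec v)).1 ⟨x, hx⟩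
      rw [S.f.vec_inj w hw v hv he] at hwl
      rw [hvl] at hwl
      exact Bool.false_ne_true hwl
    obtain ⟨f, hf, hfv⟩ : ∃ f : ↥(cE z), (l i : ↥(cC z P)) • J4Type19.mk f = J4Type19.mk f ∧
        ¬ Commute (f : G) (S.sv v) := by
      by_contra hno
      push Not at hno
      apply hnot
      intro s hs
      obtain ⟨f, rfl⟩ := mk_surjective s
      rw [← S.sv_mk v hv]
      exact (inE_beta D).2 (hno f hs).symm
    have hcl : Commute (l i : G) (f : G) := S.comm_l_of_fix hl hi hf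
    have hfz : (f : G) * S.sv v * (f : G)⁻¹ = z * S.sv v := by
      rcases comm_or D.hJ f ⟨S.sv v, S.sv_mem_cE v⟩ with h | h
      · exact absurd (mul_inv_eq_iff_eq_mul.1 (mul_inv_eq_one.1 h)) hfv
      · exact mul_inv_eq_iff_eq_mul.1 h
    rw [show S.el0 l true v i = (f : G) * S.el0 l false v i * (f : G)⁻¹ from ?_, S.Z1_conj]
    simp only [el0, zb, if_true, if_false, one_mul, Bool.false_eq_true]
    rw [show (f : G) * (S.sv v * (l i : G)) * (f : G)⁻¹ =
      (f : G) * S.sv v * (f : G)⁻¹ * ((f : G) * (l i : G) * (f : G)⁻¹) by group, hfz,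
      show (f : G) * (l i : G) * (f : G)⁻¹ = l i from mul_inv_eq_iff_eq_mul.2 hcl.eq.symm]

theorem shift {i : ℕ} (hi : i < 16) (hi0 : i ≠ 0) {w : ℕ} (hw : w < 64) (hwl : inLine i w = true) :
    ∃ t : Bool, ∀ v, v < 64 → ∃ s : Bool, ∀ e, S.Z1 (S.el0 l (e ^^ t ^^ s) (v ^^^ w) i) ↔ S.Z1 (S.el0 l e v i) := by
  obtain ⟨x, hx⟩ := (S.f.line i hi hi0 (l i) (hl i hi).1 (S.l_four hl i hi) (S.f.vec w)).2 ⟨w, hw, hwl, rfl⟩
  obtain ⟨f, rfl⟩ := mk_surjective x
  obtain ⟨t, w', hw', -, hm⟩ := S.line_move hl hi hi0 f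
  have hww : w' = w := by
    refine S.f.vec_inj w' hw' w hw ?_
    rw [← hx, ← S.sv_mk w' hw', smul_mk]
    have hmk : J4Type19.mk (cEAut (l i : G) (l i).2.1 f) =
        J4Type19.mk (⟨zb z t * S.sv w', mul_mem (by cases t; exacts [one_mem _, z_mem D.hJ]) (S.sv_mem_cE w')⟩ * f) :=
      congrArg J4Type19.mk (Subtype.ext hm)
    rw [hmk, mk_mul, add_assoc, D.toJMod.two, add_zero]
    refine ((mk_eq D.hJ).2 ?_)
    cases t
    · left; simp [zb]
    · right
      show zb z true * S.sv w' = S.sv w' * z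
      rw [show zb z true = z from rfl]
      exact (Subgroup.mem_centralizer_singleton_iff.1 (cE_le z (S.sv_mem_cE w'))).symm
  rw [hww] at hm
  refine ⟨t, fun v hv => ?_⟩
  have hsv : ∃ s : Bool, (f : G) * S.sv v * (f : G)⁻¹ = zb z s * S.sv v := by
    rcases comm_or D.hJ f ⟨S.sv v, S.sv_mem_cE v⟩ with h | h
    · exact ⟨false, by simpa [zb] using mul_inv_eq_one.1 h⟩
    · exact ⟨true, by simpa [zb] using mul_inv_eq_iff_eq_mul.1 h⟩
  obtain ⟨s, hs⟩ := hsv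
  refine ⟨s, fun e => ?_⟩
  rw [← S.Z1_conj (f : G) (S.el0 l e v i)]
  refine iff_of_eq (congrArg S.Z1 ?_)
  rw [el0, el0, show (f : G) * (zb z e * S.sv v * (l i : G)) * (f : G)⁻¹ =
    (f : G) * zb z e * (f : G)⁻¹ * ((f : G) * S.sv v * (f : G)⁻¹) * ((f : G) * (l i : G) * (f : G)⁻¹) by group,
    hs, S.conj_fibre hl hi f hw hm, S.commBE (cE_le z f.2), mul_inv_cancel_right, S.sv_xor hv hw, S.zb_mul, S.zb_mul]
  have hc := S.commBE (cE_le z (S.sv_mem_cE v)) t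
  rw [show zb z e * (zb z s * S.sv v) * (zb z t * S.sv w * (l i : G)) =
    zb z e * zb z s * ((S.sv v * zb z t) * S.sv w) * (l i : G) by group, hc]
  have hcs : zb z s * zb z t = zb z t * zb z s := by rw [← S.zb_mul, ← S.zb_mul, Bool.xor_comm]
  rw [show zb z e * zb z s * (zb z t * S.sv v * S.sv w) * (l i : G) =
    zb z e * (zb z s * zb z t) * (S.sv v * S.sv w) * (l i : G) by group, hcs]
  group

theorem w_fibre {i v : ℕ} (hi : i < 16) (hv : v < 64) (e : Bool) :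
    S.Z1 (S.el0 l e (sc 2 v) i) ↔ S.Z1 (S.el0 l e v i) := by
  rw [← S.Z1_conj (D.p ^ S.L.e) (S.el0 l e v i)]
  refine iff_of_eq (congrArg S.Z1 ?_)
  have hc : Commute (D.p ^ S.L.e) (l i : G) := (show Commute D.p (l i : G) from D.comm_p (l i)).pow_left _
  have hz : Commute (D.p ^ S.L.e) (zb z e) := S.commBE (pow_mem D.pH _) e
  rw [el0, el0, show D.p ^ S.L.e * (zb z e * S.sv v * (l i : G)) * (D.p ^ S.L.e)⁻¹ =
    (D.p ^ S.L.e * zb z e * (D.p ^ S.L.e)⁻¹) * (D.p ^ S.L.e * S.sv v * (D.p ^ S.L.e)⁻¹) *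
      (D.p ^ S.L.e * (l i : G) * (D.p ^ S.L.e)⁻¹) by group, S.w_conj hv, hc.eq, mul_inv_cancel_right, hz.eq,
    mul_inv_cancel_right]

theorem out_const {i : ℕ} (hi : i < 16) (hi0 : i ≠ 0) {v : ℕ} (hv : v < 64) (hvl : inLine i v = false) (e : Bool) :
    S.Z1 (S.el0 l e v i) ↔ S.Z1 (S.el0 l false (outPt i) i) := by
  have hcl : ∀ v, v < 64 → inLine i v = inLine i (sc 2 v) ∧ ∀ w, w < 64 → inLine i v = true → inLine i w = true →
      inLine i (v ^^^ w) = true := by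
    intro v hv
    have h := List.all_eq_true.1 line_closed_ok i (List.mem_range.2 hi)
    simp only [Bool.or_eq_true, Bool.and_eq_true, List.all_eq_true, decide_eq_true_eq, Bool.not_eq_true'] at h
    have h' := ((h.resolve_left fun e => hi0 (Nat.eq_of_beq_eq_true e)).2 v (List.mem_range.2 hv))
    refine ⟨h'.1.symm, fun w hw h1 h2 => ?_⟩
    rcases h'.2 w (List.mem_range.2 hw) with (h3 | h3) | h3
    · rw [h1] at h3; exact absurd h3 (by simp)
    · rw [h2] at h3; exact absurd h3 (by simp)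
    · exact h3
  let C : ℕ → Prop := fun x => x < 64 ∧ inLine i x = false ∧
    (S.Z1 (S.el0 l false x i) ↔ S.Z1 (S.el0 l false (outPt i) i))
  have h := List.all_eq_true.1 line_out_ok i (List.mem_range.2 hi)
  simp only [Bool.or_eq_true, Bool.and_eq_true, List.all_eq_true, decide_eq_true_eq, Bool.not_eq_true'] at h
  obtain ⟨⟨ho, ho64⟩, hreach⟩ := h.resolve_left fun e => hi0 (Nat.eq_of_beq_eq_true e)
  have hC : ∀ g ∈ sc 2 :: ((List.range 64).filter (inLine i)).map (fun w x => x ^^^ w), ∀ x, C x → C (g x) := by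
    intro g hg x ⟨hx, hxl, hxo⟩
    rw [List.mem_cons, List.mem_map] at hg
    rcases hg with rfl | ⟨w, hw, rfl⟩
    · exact ⟨(pnt_spec hx).2.2.2.1, by rw [← (hcl x hx).1, hxl], (S.w_fibre hl hi hx false).trans hxo⟩
    · obtain ⟨hw, hwl⟩ := List.mem_filter.1 hw
      rw [List.mem_range] at hw
      have hxw : x ^^^ w < 64 := Nat.xor_lt_two_pow (n := 6) hx hw
      have hxwl : inLine i (x ^^^ w) = false := by
        by_contra hne
        rw [Bool.not_eq_false] at hne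
        have := (hcl _ hxw).2 w hw hne hwl
        rw [Nat.xor_xor_cancel_right, hxl] at this
        exact Bool.false_ne_true this
      obtain ⟨t, ht⟩ := S.shift hl hi hi0 hw hwl
      obtain ⟨s, hs⟩ := ht x hx
      exact ⟨hxw, hxwl, ((S.flip_out hl hi hi0 hxw hxwl _).symm.trans (hs false)).trans hxo⟩
  have hmem := (hreach v (List.mem_range.2 hv)).resolve_left (by rw [hvl]; exact Bool.false_ne_true)
  exact (S.flip_out hl hi hi0 hv hvl e).trans
    (reach56_const hC 4 [outPt i] (by simp [C, ho, ho64]) v hmem).2.2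

theorem gen_lift {k i : ℕ} (hk : k < 4) (hi : i < 16) {c : ↥(cC z P)} (hc : D.π c = X.n k) :
    ∃ t, (c : G) * (l i : G) * (c : G)⁻¹ = zb z t * (l (M22D.uP k i) : G) := by
  have hui : M22D.uP k i < 16 := by
    have h := uP_ok
    simp only [List.all_eq_true, Bool.and_eq_true, decide_eq_true_eq] at h
    exact (h k (List.mem_range.2 hk) i (List.mem_range.2 hi)).1
  exact S.lift_unique hl hui (c := c * l i * c⁻¹)
    (by rw [map_mul, map_mul, map_inv, hc, (hl i hi).1, X.nu k hk i hi])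
    (D.toJMod.conj_four (S.l_four hl i hi))

theorem gen_el0 {k i v : ℕ} (hk : k < 4) (hi : i < 16) (hv : v < 64) :
    ∃ t v', v' < 64 ∧ pnt v' = pmap k v ∧
      (∀ e, S.Z1 (S.el0 l (e ^^ t) v' (M22D.uP k i)) ↔ S.Z1 (S.el0 l e v i)) ∧
      ∀ e, S.Z1 (S.el0 l (e ^^ t) 0 (M22D.uP k i)) ↔ S.Z1 (S.el0 l e 0 i) := by
  obtain ⟨c, hc, hcv⟩ := S.gen_conj hk
  obtain ⟨v', hv', hp, he⟩ := hcv v hv
  obtain ⟨t, ht⟩ := S.gen_lift hl hk hi hc
  have key : ∀ x x', (c : G) * S.sv x * (c : G)⁻¹ = S.sv x' → ∀ e,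
      (S.Z1 (S.el0 l (e ^^ t) x' (M22D.uP k i)) ↔ S.Z1 (S.el0 l e x i)) := by
    intro x x' hx e
    rw [← S.Z1_conj (c : G) (S.el0 l e x i)]
    refine iff_of_eq (congrArg S.Z1 ?_)
    rw [el0, el0, show (c : G) * (zb z e * S.sv x * (l i : G)) * (c : G)⁻¹ =
      ((c : G) * zb z e * (c : G)⁻¹) * ((c : G) * S.sv x * (c : G)⁻¹) * ((c : G) * (l i : G) * (c : G)⁻¹) by group,
      hx, ht, S.commBE c.2.1, mul_inv_cancel_right, S.zb_mul]
    have hcm := S.commBE (cE_le z (S.sv_mem_cE x')) t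
    rw [show zb z e * S.sv x' * (zb z t * (l (M22D.uP k i) : G)) =
      zb z e * (S.sv x' * zb z t) * (l (M22D.uP k i) : G) by group, hcm]
    group
  exact ⟨t, v', hv', hp, key v v' he, key 0 0 (by rw [S.sv_zero, mul_one, mul_inv_cancel])⟩

end Base

end Cfsg.Agent.Lib.J4Two56
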