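import Cfsg.Agent.Lib.J4Two56.Local
import Cfsg.Agent.Lib.J4Two56.Stmts

/-!
# Statements of the parts at `z`
-/

set_option autoImplicit false

universe u

namespace Cfsg.Agent.Lib.J4Two56

open Cfsg Cfsg.Agent.Lib.J4Type19

/-- The coordinates exist. -/
def FrameStmt : Prop :=
  ∀ (G : Type u) [Group G] [Finite G] (z : G) (P : Subgroup G) (D : HData z P) (X : Plus M22t)
    (L : Lifts D.toJMod X.F), Nonempty (Frame56 D X L)

/-- The section. -/
def SecStmt : Prop :=
  ∀ (G : Type u) [Group G] [Finite G] (z : G) (P : Subgroup G) (D : HData z P) (X : Plus M22t)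
    (_L : Lifts D.toJMod X.F) (U : Subgroup M22t), D.toJMod.Good U →
    (∀ e : ↥(cE z), mk e ∈ D.toJMod.fix U → mk (sec D e) = mk e ∧ ((sec D e : ↥(cE z)) : G) * sec D e = 1) ∧
    (∀ e e' : ↥(cE z), mk e ∈ D.toJMod.fix U → mk e' ∈ D.toJMod.fix U → mk e = mk e' → sec D e = sec D e') ∧
    (∀ e e' : ↥(cE z), mk e ∈ D.toJMod.fix U → mk e' ∈ D.toJMod.fix U → sec D (e * e') = sec D e * sec D e') ∧
    (∀ (h : G) (hh : h ∈ cH z), (h * D.p * h⁻¹ = D.p ∨ h * D.p * h⁻¹ = D.p⁻¹) → ∀ e : ↥(cE z),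
      mk e ∈ D.toJMod.fix U → sec D (cEAut h hh e) = cEAut h hh (sec D e))

/-- The planes meet the first plane outside the hyperoval. -/
def PlanesStmt : Prop :=
  ∀ (G : Type u) [Group G] [Finite G] (z : G) (P : Subgroup G) (D : HData z P) (X : Plus M22t)
    (L : Lifts D.toJMod X.F) (f : Frame56 D X L),
    (∀ U : Subgroup M22t, D.toJMod.Good U → ∀ v, v < 64 → v ≠ 0 → isHy v = true →
      f.vec v ∈ D.toJMod.fix U → U = X.F.U0) ∧
    (∀ v, v ∈ D.toJMod.fix X.F.U0 → v ∈ D.toJMod.fix (conjSub X.t₁ X.F.U0) → v = 0) ∧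
    (∀ e : ↥(cE z), e * e = 1 → ∃ U : Subgroup M22t, D.toJMod.Good U ∧ mk e ∈ D.toJMod.fix U)

/-- The normalisers split, and the data for the classes. -/
def SplitStmt : Prop :=
  ∀ (G : Type u) [Group G] [Finite G] [IsSimpleGroup G] (z : G) (P : Subgroup G) (D : HData z P) (X : Plus M22t)
    (L : Lifts D.toJMod X.F) (l : Loc D X L), Nonempty (Split56 G z l.T)

/-- Centralising a sextet element and a pair element. -/
def CentQDStmt : Prop :=
  ∀ (G : Type u) [Group G] [Finite G] (z : G) (P : Subgroup G) (D : HData z P) (X : Plus M22t)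
    (L : Lifts D.toJMod X.F) (l : Loc D X L), l.T.CentQD

end Cfsg.Agent.Lib.J4Two56
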