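import Cfsg.Agent.Lib.J4Two56.BCount
import Cfsg.Agent.Lib.J4Two56.Stmts2

/-!
# The section, and the decomposition of the elementary subgroup
-/

set_option autoImplicit false
set_option linter.unusedSectionVars false

universe u

namespace Cfsg.Agent.Lib.J4Two56

open Cfsg Cfsg.Agent.Lib.J4Type19 Cfsg.Agent.Lib.J4Fusion14

attribute [local instance] m22_finite

variable {G : Type u} [Group G] [Finite G] {z : G} {P : Subgroup G}
variable {D : HData z P} {X : Plus M22t}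

/-- What is used about the first plane: the subgroup and the coordinates. -/
structure Base (D : HData z P) (X : Plus M22t) : Type u where
  L : Lifts D.toJMod X.F
  f : Frame56 D X L
  B : Subgroup G
  hB : Elem11 z B
  hmem : ∀ b, b ∈ B ↔ D.InSpan X.F.U0 b
  hsec : SecStmt.{u}

/-- A power of `z` by a bit. -/
def zb (z : G) (e : Bool) : G := if e then z else 1

namespace Base

variable (S : Base D X)
include S

/-- The section on coded vectors. -/
noncomputable def sv (v : ℕ) : G := (secV D (S.f.vec v) : G)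

theorem vec_zero : S.f.vec 0 = 0 := by
  have h := S.f.vec_xor 0 (by norm_num) 0 (by norm_num)
  simpa using h

theorem secV_spec {x : cV z} (hx : x ∈ D.toJMod.fix X.F.U0) :
    J4Type19.mk (secV D x) = x ∧ ((secV D x : ↥(cE z)) : G) * secV D x = 1 := by
  obtain ⟨h1, -, -, -⟩ := S.hsec G z P D X S.L X.F.U0 (D.toJMod.good_U0 S.L)
  have he : J4Type19.mk (Function.surjInv mk_surjective x) = x := Function.surjInv_eq mk_surjective x
  obtain ⟨h, h'⟩ := h1 (Function.surjInv mk_surjective x) (he.symm ▸ hx)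
  exact ⟨h.trans he, h'⟩

theorem secV_eq {e : ↥(cE z)} (he : J4Type19.mk e ∈ D.toJMod.fix X.F.U0) : secV D (J4Type19.mk e) = sec D e := by
  obtain ⟨-, h2, -, -⟩ := S.hsec G z P D X S.L X.F.U0 (D.toJMod.good_U0 S.L)
  have h : J4Type19.mk (Function.surjInv mk_surjective (J4Type19.mk e)) = J4Type19.mk e := Function.surjInv_eq mk_surjective _
  exact h2 _ _ (h.symm ▸ he) he h

theorem secV_add {x y : cV z} (hx : x ∈ D.toJMod.fix X.F.U0) (hy : y ∈ D.toJMod.fix X.F.U0) :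
    (secV D (x + y) : G) = secV D x * secV D y := by
  obtain ⟨-, -, h3, -⟩ := S.hsec G z P D X S.L X.F.U0 (D.toJMod.good_U0 S.L)
  obtain ⟨e, rfl⟩ := mk_surjective x
  obtain ⟨f, rfl⟩ := mk_surjective y
  rw [← mk_mul, S.secV_eq (by rw [mk_mul]; exact add_mem hx hy), S.secV_eq hx, S.secV_eq hy, h3 e f hx hy]
  rfl

theorem secV_conj {h : G} (hh : h ∈ cH z) (hp : h * D.p * h⁻¹ = D.p ∨ h * D.p * h⁻¹ = D.p⁻¹) {x : cV z}
    (hx : x ∈ D.toJMod.fix X.F.U0) (hx' : J4Fusion14.act ⟨h, hh⟩ x ∈ D.toJMod.fix X.F.U0) :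
    h * (secV D x : G) * h⁻¹ = secV D (J4Fusion14.act ⟨h, hh⟩ x) := by
  obtain ⟨-, -, -, h4⟩ := S.hsec G z P D X S.L X.F.U0 (D.toJMod.good_U0 S.L)
  obtain ⟨e, rfl⟩ := mk_surjective x
  rw [J4Fusion14.act_mk] at hx' ⊢
  rw [S.secV_eq hx, S.secV_eq hx', h4 h hh hp e hx]
  rfl

theorem sv_mem (v : ℕ) (hv : v < 64) : S.sv v ∈ S.B :=
  pre_mem_B S.L S.hB S.hmem (by rw [(S.secV_spec (S.f.vec_mem v hv)).1]; exact S.f.vec_mem v hv)

theorem sv_mem_cE (v : ℕ) : S.sv v ∈ cE z := (secV D (S.f.vec v)).2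

theorem sv_xor {v w : ℕ} (hv : v < 64) (hw : w < 64) : S.sv (v ^^^ w) = S.sv v * S.sv w := by
  rw [sv, S.f.vec_xor v hv w hw]
  exact S.secV_add (S.f.vec_mem v hv) (S.f.vec_mem w hw)

theorem sv_zero : S.sv 0 = 1 := by
  have h := S.sv_xor (v := 0) (w := 0) (by norm_num) (by norm_num)
  rw [Nat.xor_self] at h
  exact left_eq_mul.1 h

theorem sv_mk (v : ℕ) (hv : v < 64) : J4Type19.mk (⟨S.sv v, S.sv_mem_cE v⟩ : ↥(cE z)) = S.f.vec v :=
  (S.secV_spec (S.f.vec_mem v hv)).1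

theorem zb_mem (e : Bool) : zb z e ∈ S.B := by
  cases e
  · exact one_mem _
  · exact z_mem_B S.L S.hB S.hmem

theorem zb_mul (e e' : Bool) : zb z (e ^^ e') = zb z e * zb z e' := by
  cases e <;> cases e' <;> simp [zb, z_sq D.hJ]

theorem commB {a b : G} (ha : a ∈ S.B) (hb : b ∈ S.B) : a * b = b * a := comm_of_sq_all S.hB.2.1 ha hb

theorem commBE {a : G} (ha : a ∈ cH z) (e : Bool) : a * zb z e = zb z e * a := by
  cases e
  · simp [zb]
  · exact Subgroup.mem_centralizer_singleton_iff.1 ha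

theorem over_vec {e : ↥(cE z)} {v : ℕ} (hv : v < 64) (he : J4Type19.mk e = S.f.vec v) :
    ∃ t, (e : G) = zb z t * S.sv v := by
  have h := (mk_eq D.hJ).1 ((S.sv_mk v hv).trans he.symm)
  rcases h with h | h
  · exact ⟨false, by simpa [zb] using h⟩
  · exact ⟨true, by rw [h, S.commB (S.sv_mem v hv) (z_mem_B S.L S.hB S.hmem)]; simp [zb]⟩

theorem exists_lifts : ∃ l : ℕ → ↥(cC z P), l 0 = 1 ∧
    ∀ i, i < 16 → D.π (l i) = X.u i ∧ l i * l i = 1 := by
  classical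
  have h : ∀ i, ∃ c : ↥(cC z P), i < 16 → D.π c = X.u i ∧ c * c = 1 := fun i => by
    by_cases hi : i < 16
    · obtain ⟨c, hc, h4⟩ := D.toJMod.exists_two_lift (X.F.sq0 _ (X.u_mem i hi))
      have hc' : D.π c = X.u i := hc
      exact ⟨c, fun _ => ⟨hc', D.lift_sq_U0 (hc'.symm ▸ X.u_mem i hi) h4⟩⟩
    · exact ⟨1, fun h => absurd h hi⟩
  choose l hl using h
  refine ⟨Function.update l 0 1, Function.update_self .., fun i hi => ?_⟩
  rcases eq_or_ne i 0 with rfl | hne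
  · refine ⟨?_, by rw [Function.update_self, mul_one]⟩
    rw [Function.update_self, map_one]
    have h := X.u_xor 0 (by norm_num) 0 (by norm_num)
    rw [Nat.xor_self] at h
    exact (left_eq_mul.1 h).symm
  · rw [Function.update_of_ne hne]
    exact hl i hi

variable {l : ℕ → ↥(cC z P)} (hl : ∀ i, i < 16 → D.π (l i) = X.u i ∧ l i * l i = 1)
include hl

theorem l_four (i : ℕ) (hi : i < 16) : l i ^ 4 = 1 := by
  rw [show (4 : ℕ) = 2 * 2 from rfl, pow_mul, pow_two (l i), (hl i hi).2, one_pow]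

theorem l_mem (i : ℕ) (hi : i < 16) : (l i : G) ∈ S.B :=
  lift_mem_B S.L S.hB S.hmem ((hl i hi).1.symm ▸ X.u_mem i hi) (S.l_four hl i hi)

theorem lift_unique {c : ↥(cC z P)} {i : ℕ} (hi : i < 16) (hc : D.π c = X.u i) (h4 : c ^ 4 = 1) :
    ∃ t, (c : G) = zb z t * (l i : G) := by
  have hk : D.π (c * (l i)⁻¹) = 1 := by rw [map_mul, map_inv, hc, (hl i hi).1, mul_inv_cancel]
  have hcomm : Commute (c * (l i)⁻¹) (l i) := D.toJMod.ker_comm _ hk _
  have hk4 : (c * (l i)⁻¹) ^ 4 = 1 := by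
    have := hcomm.mul_pow 4
    rwa [inv_mul_cancel_right, h4, S.l_four hl i hi, mul_one, eq_comm] at this
  rcases D.ker_two hk (D.ker_four hk hk4) with h | h
  · rw [Subgroup.coe_mul, Subgroup.coe_inv, mul_inv_eq_one] at h
    exact ⟨false, by simp [zb, h]⟩
  · rw [Subgroup.coe_mul, Subgroup.coe_inv, mul_inv_eq_iff_eq_mul] at h
    exact ⟨true, by simpa [zb] using h⟩

/-- The element of given coordinates. -/
noncomputable def el0 (l : ℕ → ↥(cC z P)) (e : Bool) (v i : ℕ) : G := zb z e * S.sv v * (l i : G)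

theorem el0_mem (e : Bool) {v i : ℕ} (hv : v < 64) (hi : i < 16) : S.el0 l e v i ∈ S.B :=
  mul_mem (mul_mem (S.zb_mem e) (S.sv_mem v hv)) (S.l_mem hl i hi)

theorem el0_surj {b : G} (hb : b ∈ S.B) : ∃ e v i, v < 64 ∧ i < 16 ∧ b = S.el0 l e v i := by
  obtain ⟨d, hd, c, hc, h4, rfl⟩ := (S.hmem b).1 hb
  obtain ⟨i, hi, hui⟩ := X.u_surj _ hc
  obtain ⟨t, ht⟩ := S.lift_unique hl hi hui.symm h4
  obtain ⟨v, hv, hvd⟩ := S.f.vec_surj _ hd
  obtain ⟨s, hs⟩ := S.over_vec hv hvd.symm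
  refine ⟨s ^^ t, v, i, hv, hi, ?_⟩
  rw [hs, ht, el0, S.zb_mul, ← mul_assoc, mul_assoc (zb z s), S.commBE (cE_le z (S.sv_mem_cE v))]
  group

theorem el0_inj {e e' : Bool} {v v' i i' : ℕ} (hv : v < 64) (hv' : v' < 64) (hi : i < 16) (hi' : i' < 16)
    (h : S.el0 l e v i = S.el0 l e' v' i') : e = e' ∧ v = v' ∧ i = i' := by
  have hz : ∀ s, zb z s ∈ cE z := fun s => by
    cases s
    · exact one_mem _
    · exact z_mem D.hJ
  have hE : ∀ s w, zb z s * S.sv w ∈ cE z := fun s w => mul_mem (hz s) (S.sv_mem_cE w)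
  have hii : i = i' := by
    refine X.u_inj i hi i' hi' ?_
    rw [← (hl i hi).1, ← (hl i' hi').1]
    apply m22_conj_injective
    rw [← D.φ_inner (h := ⟨_, mul_mem (cE_le z (hE e v)) (l i).2.1⟩) (hE e v) (l i) rfl,
      ← D.φ_inner (h := ⟨_, mul_mem (cE_le z (hE e v)) (l i).2.1⟩) (hE e' v') (l i') h]
  subst hii
  have h2 : zb z e * S.sv v = zb z e' * S.sv v' := mul_right_cancel h
  have hm : ∀ s w, w < 64 → J4Type19.mk (⟨zb z s * S.sv w, hE s w⟩ : ↥(cE z)) = S.f.vec w := fun s w hw => by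
    rw [show (⟨zb z s * S.sv w, hE s w⟩ : ↥(cE z)) = ⟨zb z s, hz s⟩ * ⟨S.sv w, S.sv_mem_cE w⟩ from rfl,
      mk_mul, S.sv_mk w hw, (mk_eq_zero D.hJ).2 (by cases s <;> simp [zb]), zero_add]
  have hvv : v = v' := S.f.vec_inj v hv v' hv' (by
    rw [← hm e v hv, ← hm e' v' hv']
    congr 1
    exact Subtype.ext h2)
  subst hvv
  refine ⟨?_, rfl, rfl⟩
  have h3 := mul_right_cancel h2
  cases e <;> cases e' <;> simp [zb] at h3 ⊢
  · exact z_ne D.hJ h3.symm
  · exact z_ne D.hJ h3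

end Base

end Cfsg.Agent.Lib.J4Two56
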