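import Cfsg.Agent.Lib.J4Two56.BSub
import Cfsg.Agent.Lib.J4Fusion14.Pair

/-!
# The centraliser and normalisers of the elementary subgroup
-/

set_option autoImplicit false
set_option linter.unusedSectionVars false

universe u

namespace Cfsg.Agent.Lib.J4Two56

open Cfsg Cfsg.Agent.Lib.J4Type19 Cfsg.Agent.Lib.J4Fusion14

attribute [local instance] m22_finite

variable {G : Type u} [Group G] [Finite G] {z : G} {P : Subgroup G}
variable {D : HData z P} {X : Plus M22t} (L : Lifts D.toJMod X.F)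
variable {B : Subgroup G} (hB : Elem11 z B) (hmem : ∀ b, b ∈ B ↔ D.InSpan X.F.U0 b)
include L hB hmem

theorem z_mem_B : z ∈ B :=
  (hmem z).2 ⟨⟨z, z_mem D.hJ⟩, by rw [(mk_eq_zero D.hJ (e := ⟨z, z_mem D.hJ⟩)).2 (Or.inr rfl)]; exact zero_mem _,
    1, by rw [map_one]; exact one_mem _, one_pow 4, by simp⟩

theorem pre_mem_B {e : ↥(cE z)} (he : mk e ∈ D.toJMod.fix X.F.U0) : (e : G) ∈ B :=
  (hmem _).2 ⟨e, he, 1, by rw [map_one]; exact one_mem _, one_pow 4, by simp⟩

theorem lift_mem_B {c : ↥(cC z P)} (hc : D.π c ∈ X.F.U0) (h4 : c ^ 4 = 1) : (c : G) ∈ B :=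
  (hmem _).2 ⟨1, by rw [mk_one]; exact zero_mem _, c, hc, h4, by simp⟩

theorem fix_ne : ∃ v ∈ D.toJMod.fix X.F.U0, v ≠ 0 := by
  by_contra hno
  push Not at hno
  have h := (D.toJMod.fix_U0 L).1
  rw [(AddSubgroup.eq_bot_iff_forall _).2 hno, AddSubgroup.card_bot] at h
  norm_num at h

theorem cent_le_B : Subgroup.centralizer (B : Set G) ≤ B := by
  intro h hc
  have hcomm : ∀ b ∈ B, b * h = h * b := Subgroup.mem_centralizer_iff.1 hc
  have hh : h ∈ cH z := Subgroup.mem_centralizer_singleton_iff.2 (hcomm z (z_mem_B L hB hmem)).symm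
  have htriv : ∀ v ∈ D.toJMod.fix X.F.U0, J4Fusion14.act ⟨h, hh⟩ v = v := by
    intro v hv
    obtain ⟨e, rfl⟩ := mk_surjective v
    rw [J4Fusion14.act_mk]
    congr 1
    apply Subtype.ext
    show h * (e : G) * h⁻¹ = e
    rw [← hcomm _ (pre_mem_B L hB hmem hv), mul_inv_cancel_right]
  have hφ : ∀ u ∈ X.F.U0, D.φ ⟨h, hh⟩ u = u := by
    intro u hu
    obtain ⟨c, hc', h4⟩ := D.toJMod.exists_two_lift (X.F.sq0 u hu)
    have hc'' : D.π c = u := hc'
    have hcB := lift_mem_B L hB hmem (c := c) (hc''.symm ▸ hu) h4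
    apply m22_conj_injective
    rw [← conj_φ L hB hmem, ← hc'', D.π_eq, ← map_inv, ← map_mul, ← map_mul]
    congr 1
    apply Subtype.ext
    show h * (c : G) * h⁻¹ = c
    rw [← hcomm _ hcB, mul_inv_cancel_right]
  obtain ⟨v0, hv0, hv0'⟩ := fix_ne L hB hmem
  obtain ⟨e, he, c, hcC, hh' | hh'⟩ := D.decomp ⟨h, hh⟩
  · have hhe : h = e * c := hh'
    have hact : ∀ v, J4Fusion14.act ⟨h, hh⟩ v = (⟨c, hcC⟩ : ↥(cC z P)) • v := inE_act_inner D he ⟨c, hcC⟩ hh'
    have hπU : D.π ⟨c, hcC⟩ ∈ X.F.U0 := by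
      refine X.cent_le _ fun u hu => ?_
      have := hφ u hu
      rw [D.φ_inner he ⟨c, hcC⟩ hh'] at this
      exact mul_inv_eq_iff_eq_mul.1 this
    obtain ⟨l, hl, hl4⟩ := D.toJMod.exists_two_lift (X.F.sq0 _ hπU)
    have hl' : D.π l = D.π ⟨c, hcC⟩ := hl
    have hk : D.π (l⁻¹ * ⟨c, hcC⟩) = 1 := by rw [map_mul, map_inv, hl', inv_mul_cancel]
    obtain ⟨j, hj⟩ := D.toJMod.ker_act _ hk
    have hj' : D.toJMod.ω ^ j • v0 = v0 := by
      rw [← hj, mul_smul, show (⟨c, hcC⟩ : ↥(cC z P)) • v0 = v0 from (hact v0).symm.trans (htriv v0 hv0),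
        inv_smul_eq_iff]
      exact (hv0 l (show D.π l ∈ _ from hl'.symm ▸ hπU) hl4).symm
    have hj3 : j % 3 = 0 := by
      by_contra hne
      apply hv0'
      refine D.toJMod.ωfix v0 ?_
      rcases (by omega : j % 3 = 1 ∨ j % 3 = 2) with e' | e'
      · rwa [D.toJMod.ωpow_congr (m := 1) e', pow_one] at hj'
      · rw [D.toJMod.ωpow_congr (m := 2) e', pow_two, mul_smul] at hj'
        conv_lhs => rw [← hj']
        exact D.toJMod.ω3_smul v0
    obtain ⟨i, hi⟩ := (D.ker_iff _).1 hk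
    have hi3 : D.p ^ i = 1 := by
      have hact' : ∀ v : cV z, (l⁻¹ * ⟨c, hcC⟩ : ↥(cC z P)) • v = D.toJMod.ω ^ i • v := fun v => by
        obtain ⟨f, rfl⟩ := mk_surjective v
        rw [smul_mk, smul_mk]
        congr 1
        apply Subtype.ext
        show ((l⁻¹ * ⟨c, hcC⟩ : ↥(cC z P)) : G) * f * ((l⁻¹ * ⟨c, hcC⟩ : ↥(cC z P)) : G)⁻¹ = D.p ^ i * f * (D.p ^ i)⁻¹
        rcases hi with h' | h'
        · rw [h']
        · rw [h', show z * D.p ^ i * (f : G) * (z * D.p ^ i)⁻¹ = z * (D.p ^ i * f * (D.p ^ i)⁻¹) * z⁻¹ by group,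
            ← Subgroup.mem_centralizer_singleton_iff.1 (cE_le z (cE_conj (pow_mem D.pH i) f.2)), mul_inv_cancel_right]
      have hi0 : D.toJMod.ω ^ i • v0 = v0 := by
        rw [← hact', mul_smul, show (⟨c, hcC⟩ : ↥(cC z P)) • v0 = v0 from (hact v0).symm.trans (htriv v0 hv0),
          inv_smul_eq_iff]
        exact (hv0 l (show D.π l ∈ _ from hl'.symm ▸ hπU) hl4).symm
      have : i % 3 = 0 := by
        by_contra hne
        apply hv0'
        refine D.toJMod.ωfix v0 ?_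
        rcases (by omega : i % 3 = 1 ∨ i % 3 = 2) with e' | e'
        · rwa [D.toJMod.ωpow_congr (m := 1) e', pow_one] at hi0
        · rw [D.toJMod.ωpow_congr (m := 2) e', pow_two, mul_smul] at hi0
          conv_lhs => rw [← hi0]
          exact D.toJMod.ω3_smul v0
      rw [← Nat.mod_add_div i 3, this, zero_add, pow_mul, D.p3, one_pow]
    have hlB := lift_mem_B L hB hmem (c := l) (hl'.symm ▸ hπU) hl4
    have hzB := z_mem_B L hB hmem
    have hcB : c ∈ B := by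
      have hck : c = (l : G) * ((l⁻¹ * ⟨c, hcC⟩ : ↥(cC z P)) : G) := by
        rw [Subgroup.coe_mul, Subgroup.coe_inv, mul_inv_cancel_left]
      rw [hck]
      refine mul_mem hlB ?_
      rcases hi with h' | h'
      · rw [h', hi3]; exact one_mem _
      · rw [h', hi3, mul_one]; exact hzB
    have heB : e ∈ B := by
      refine pre_mem_B L hB hmem (e := ⟨e, he⟩) ?_
      rw [← D.toJMod.perp_self (D.toJMod.fix_U0 L).1 (D.toJMod.fix_U0 L).2]
      intro s hs
      obtain ⟨f, rfl⟩ := mk_surjective s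
      refine (inE_beta D).2 ?_
      show e * (f : G) = f * e
      have hf := pre_mem_B L hB hmem hs
      have h1 := hcomm _ hf
      have h2 := comm_of_sq_all hB.2.1 hcB hf
      rw [hhe, mul_assoc e c, h2, ← mul_assoc, ← mul_assoc] at h1
      exact (mul_right_cancel h1).symm
    rw [hhe]
    exact mul_mem heB hcB
  · exfalso
    apply hv0'
    have hne : ¬ D.Inner14 h := fun hi =>
      D.φ_outer he ⟨c, hcC⟩ hh' ((D.inner14_iff ⟨h, hh⟩).1 hi)
    have h1 := inE_act_ω_outer D (d := ⟨h, hh⟩) hne v0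
    have hωS : ∀ v ∈ D.toJMod.fix X.F.U0, D.toJMod.ω • v ∈ D.toJMod.fix X.F.U0 := fun v hv => D.toJMod.ω_mem_fix hv
    rw [htriv _ (hωS _ hv0), htriv _ hv0] at h1
    refine D.toJMod.ωfix v0 ?_
    exact (smul_left_cancel _ h1).symm

end Cfsg.Agent.Lib.J4Two56
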