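import Cfsg.Agent.Lib.J4Fusion14.InEBase
import Cfsg.Agent.Lib.J4Two56.Frame
import Cfsg.Agent.Lib.J4Two56.DuadStab

/-!
# The elementary subgroup of order `2 ^ 11` over the first plane
-/

set_option autoImplicit false
set_option linter.unusedSectionVars false

universe u

namespace Cfsg.Agent.Lib.J4Two56

open Cfsg Cfsg.Agent.Lib.J4Type19 Cfsg.Agent.Lib.J4Fusion14

attribute [local instance] m22_finite

variable {G : Type u} [Group G] [Finite G] {z : G} {P : Subgroup G}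

/-- An elementary subgroup of order `2 ^ 11` of the centraliser. -/
def Elem11 (z : G) (B : Subgroup G) : Prop := B ≤ cH z ∧ (∀ b ∈ B, b * b = 1) ∧ Nat.card ↥B = 2 ^ 11

theorem elem11_conj {B : Subgroup G} (hB : Elem11 z B) {h : G} (hh : h ∈ cH z) :
    Elem11 z (conjSub h B) := by
  refine ⟨?_, ?_, ?_⟩
  · rintro _ ⟨b, hb, rfl⟩
    show h * b * h⁻¹ ∈ cH z
    exact mul_mem (mul_mem hh (hB.1 hb)) (inv_mem hh)
  · rintro _ ⟨b, hb, rfl⟩
    rw [← map_mul, hB.2.1 b hb, map_one]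
  · rw [← hB.2.2]
    exact (Nat.card_congr (Subgroup.equivMapOfInjective B _ (MulAut.conj h).injective).toEquiv).symm

theorem mem_conjSub {M : Type*} [Group M] {x v : M} {U : Subgroup M} :
    v ∈ conjSub x U ↔ x⁻¹ * v * x ∈ U := by
  constructor
  · rintro ⟨w, hw, rfl⟩
    show x⁻¹ * (x * w * x⁻¹) * x ∈ U
    rwa [show x⁻¹ * (x * w * x⁻¹) * x = w by group]
  · intro h
    exact ⟨_, h, show x * (x⁻¹ * v * x) * x⁻¹ = v by group⟩

theorem mem_normalizer_of_conjSub {B : Subgroup G} {h : G} (e : conjSub h B = B) :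
    h ∈ Subgroup.normalizer (B : Set G) := by
  rw [Subgroup.mem_normalizer_iff]
  intro x
  constructor
  · intro hx
    exact e.le ⟨x, hx, rfl⟩
  · intro hx
    have := mem_conjSub.1 (e.ge hx)
    rwa [show h⁻¹ * (h * x * h⁻¹) * h = x by group] at this

theorem conjSub_of_mem_normalizer {B : Subgroup G} {h : G} (hh : h ∈ Subgroup.normalizer (B : Set G)) :
    conjSub h B = B := by
  ext x
  rw [mem_conjSub]
  exact (Subgroup.mem_normalizer_iff''.1 hh x).symm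

variable {D : HData z P} {X : Plus M22t} (L : Lifts D.toJMod X.F)
include L

theorem exists_B : ∃ B : Subgroup G, Elem11 z B ∧ ∀ b, b ∈ B ↔ D.InSpan X.F.U0 b := by
  obtain ⟨B, hB, hsq, hc, hmem⟩ := D.exists_span14 L
  refine ⟨B, ⟨hB, hsq, hc⟩, fun b => ⟨fun hb => ?_, hmem b⟩⟩
  obtain ⟨U, hU, hin, -, hE⟩ := D.key L hB hsq hc
  have hle : X.F.U0 ≤ U := by
    intro u hu
    obtain ⟨c, hc', h4⟩ := D.toJMod.exists_two_lift (X.F.sq0 u hu)
    have hc'' : D.π c = u := hc'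
    have hcB : (c : G) ∈ B := hmem _ ⟨1, by rw [mk_one]; exact zero_mem _, c, hc''.symm ▸ hu, h4, by simp⟩
    obtain ⟨w, hw, e⟩ := hin _ hcB
    have h1 : D.φ ⟨(c : G), hB hcB⟩ = MulAut.conj u := by
      rw [D.φ_inner (one_mem _) c (one_mul _).symm, hc'']
    exact m22_conj_injective (h1.symm.trans e) ▸ hw
  obtain rfl : X.F.U0 = U := Subgroup.eq_of_le_of_card_ge hle (by rw [hU.1, X.F.card0])
  exact D.le_span L hB hsq hU hin hE hb

variable {B : Subgroup G} (hB : Elem11 z B) (hmem : ∀ b, b ∈ B ↔ D.InSpan X.F.U0 b)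
include hB hmem

theorem eq_B_of_images {B' : Subgroup G} (hB' : Elem11 z B')
    (h : ∀ b (hb : b ∈ B'), ∃ u ∈ X.F.U0, D.φ ⟨b, hB'.1 hb⟩ = MulAut.conj u) : B' = B := by
  obtain ⟨U, hU, hin, hout, hE⟩ := D.key L hB'.1 hB'.2.1 hB'.2.2
  have hle : U ≤ X.F.U0 := by
    intro u hu
    obtain ⟨b, hb, e⟩ := hout u hu
    obtain ⟨w, hw, e'⟩ := h b hb
    exact m22_conj_injective (e'.symm.trans e) ▸ hw
  obtain rfl : U = X.F.U0 := Subgroup.eq_of_le_of_card_ge hle (by rw [hU.1, X.F.card0])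
  refine Subgroup.eq_of_le_of_card_ge (fun b hb => (hmem b).2 (D.le_span L hB'.1 hB'.2.1 hU hin hE hb)) ?_
  rw [hB.2.2, hB'.2.2]

theorem exists_conj_B {B' : Subgroup G} (hB' : Elem11 z B') :
    ∃ c : ↥(cC z P), conjSub (c : G) B' = B := by
  obtain ⟨U, hU, hin, -, -⟩ := D.key L hB'.1 hB'.2.1 hB'.2.2
  obtain ⟨g, -, hg⟩ := D.toJMod.good_conj L hU (IsPGroup.of_card (n := 4) (by rw [hU.1]; norm_num)) le_rfl
  obtain ⟨c, rfl⟩ := D.πsurj g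
  refine ⟨c, eq_B_of_images L hB hmem (elem11_conj hB' c.2.1) ?_⟩
  rintro _ ⟨b, hb, rfl⟩
  obtain ⟨u, hu, e⟩ := hin b hb
  refine ⟨D.π c * u * (D.π c)⁻¹, hg.le ⟨u, hu, rfl⟩, ?_⟩
  rw [show (⟨(MulAut.conj (c : G)).toMonoidHom b, _⟩ : ↥(cH z)) =
    ⟨(c : G), c.2.1⟩ * ⟨b, hB'.1 hb⟩ * ⟨(c : G), c.2.1⟩⁻¹ from Subtype.ext rfl,
    map_mul, map_mul, map_inv, ← D.π_eq, e, ← map_inv MulAut.conj, ← map_mul, ← map_mul]

theorem conj_φ (α : MulAut M22t) (u : M22t) : α * MulAut.conj u * α⁻¹ = MulAut.conj (α u) := by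
  apply MulEquiv.ext
  intro x
  simp [MulAut.mul_apply, MulAut.inv_apply]

theorem mem_normalizer_iff_φ {h : G} (hh : h ∈ cH z) :
    h ∈ Subgroup.normalizer (B : Set G) ↔ ∀ u ∈ X.F.U0, D.φ ⟨h, hh⟩ u ∈ X.F.U0 := by
  constructor
  · intro hn u hu
    obtain ⟨c, hc, h4⟩ := D.toJMod.exists_two_lift (X.F.sq0 u hu)
    have hc' : D.π c = u := hc
    have hcB : (c : G) ∈ B := (hmem _).2 ⟨1, by rw [mk_one]; exact zero_mem _, c, hc'.symm ▸ hu, h4, by simp⟩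
    have hb2 : h * (c : G) * h⁻¹ ∈ B := (Subgroup.mem_normalizer_iff.1 hn _).1 hcB
    obtain ⟨e, -, d, hd, -, he⟩ := (hmem _).1 hb2
    have e1 : D.φ ⟨h * (c : G) * h⁻¹, hB.1 hb2⟩ = MulAut.conj (D.π d) := D.φ_inner e.2 d he
    have e2 : D.φ ⟨h * (c : G) * h⁻¹, hB.1 hb2⟩ = MulAut.conj (D.φ ⟨h, hh⟩ u) := by
      rw [show (⟨h * (c : G) * h⁻¹, hB.1 hb2⟩ : ↥(cH z)) = ⟨h, hh⟩ * ⟨(c : G), c.2.1⟩ * ⟨h, hh⟩⁻¹ from rfl,
        map_mul, map_mul, map_inv, ← D.π_eq, hc', conj_φ L hB hmem]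
    exact m22_conj_injective (e2.symm.trans e1) ▸ hd
  · intro hu
    refine mem_normalizer_of_conjSub (eq_B_of_images L hB hmem (elem11_conj hB hh) ?_)
    rintro _ ⟨b, hb, rfl⟩
    obtain ⟨e, -, d, hd, -, he⟩ := (hmem _).1 hb
    refine ⟨D.φ ⟨h, hh⟩ (D.π d), hu _ hd, ?_⟩
    rw [show (⟨(MulAut.conj h).toMonoidHom b, _⟩ : ↥(cH z)) = ⟨h, hh⟩ * ⟨b, hB.1 hb⟩ * ⟨h, hh⟩⁻¹ from Subtype.ext rfl,
      map_mul, map_mul, map_inv, D.φ_inner (h := ⟨b, hB.1 hb⟩) e.2 d he, conj_φ L hB hmem]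

theorem fusion_control {g : G} (hg : g * z * g⁻¹ ∈ B) :
    ∃ m ∈ Subgroup.normalizer (B : Set G), m * z * m⁻¹ = g * z * g⁻¹ := by
  have hB' : Elem11 z (conjSub g⁻¹ B) := by
    refine ⟨?_, ?_, ?_⟩
    · rintro _ ⟨b, hb, rfl⟩
      have h := comm_of_sq_all hB.2.1 hb hg
      refine Subgroup.mem_centralizer_singleton_iff.2 ?_
      show g⁻¹ * b * g⁻¹⁻¹ * z = z * (g⁻¹ * b * g⁻¹⁻¹)
      rw [inv_inv]
      calc g⁻¹ * b * g * z = g⁻¹ * (b * (g * z * g⁻¹)) * g := by group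
        _ = g⁻¹ * (g * z * g⁻¹ * b) * g := by rw [h]
        _ = z * (g⁻¹ * b * g) := by group
    · rintro _ ⟨b, hb, rfl⟩
      rw [← map_mul, hB.2.1 b hb, map_one]
    · rw [← hB.2.2]
      exact (Nat.card_congr (Subgroup.equivMapOfInjective B _ (MulAut.conj g⁻¹).injective).toEquiv).symm
  obtain ⟨c, hc⟩ := exists_conj_B L hB hmem hB'
  have hm : (c : G) * g⁻¹ ∈ Subgroup.normalizer (B : Set G) := by
    refine mem_normalizer_of_conjSub ?_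
    conv_rhs => rw [← hc]
    ext x
    simp [mem_conjSub, mul_assoc]
  refine ⟨((c : G) * g⁻¹)⁻¹, inv_mem hm, ?_⟩
  have hcz : (c : G)⁻¹ * z * (c : G) = z := by rw [mul_assoc, D.comm_z c, ← mul_assoc, inv_mul_cancel, one_mul]
  rw [show ((c : G) * g⁻¹)⁻¹ * z * ((c : G) * g⁻¹)⁻¹⁻¹ = g * ((c : G)⁻¹ * z * (c : G)) * g⁻¹ by group, hcz]

end Cfsg.Agent.Lib.J4Two56
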