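import Cfsg.Agent.Lib.J4Two56.Stmts

/-!
# Two orders that a group acting on an elementary group of order `2¹¹` cannot have
-/

set_option autoImplicit false
set_option linter.style.haveILetI false

universe u

namespace Cfsg.Agent.Lib.J4Two56

open MulAction

theorem card_sylow_of_eq56 {Q : Type u} [Group Q] [Finite Q] {p : ℕ} [hp : Fact p.Prime] {k m : ℕ}
    (hQ : Nat.card Q = p ^ k * m) (hm : ¬ p ∣ m) (S : Sylow p Q) : Nat.card (S : Subgroup Q) = p ^ k := by
  have hm0 : m ≠ 0 := fun h => hm (h ▸ dvd_zero p)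
  rw [S.card_eq_multiplicity, hQ, Nat.factorization_mul (pow_ne_zero _ hp.out.ne_zero) hm0, Finsupp.add_apply,
    Nat.Prime.factorization_pow hp.out, Nat.factorization_eq_zero_of_not_dvd hm]
  simp

/-- `No961Stmt` holds. -/
theorem no961 : No961Stmt.{u} := by
  intro Q A _ _ _ _ z hA hsq hQ horb hspan a ha b hb c hc d hd heq
  classical
  haveI hf : Fact (Nat.Prime 31) := ⟨by norm_num⟩
  haveI hAfin : Finite A := Nat.finite_of_card_ne_zero (by rw [hA]; norm_num)
  obtain ⟨S⟩ : Nonempty (Sylow 31 Q) := inferInstance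
  have hS : Nat.card (S : Subgroup Q) = 31 ^ 2 :=
    card_sylow_of_eq56 (k := 2) (m := 138240) (by rw [hQ]; norm_num) (by norm_num) S
  -- the Sylow subgroup is regular on the orbit
  have hfree : ∀ s : ↥(S : Subgroup Q), (s : Q) • z = z → s = 1 := by
    intro s hs
    have hst : Nat.card (MulAction.stabilizer Q z) = 138240 := by
      have h := (MulAction.stabilizer Q z).card_mul_index
      rw [MulAction.index_stabilizer, horb, hQ] at h
      omega
    have h1 : orderOf (s : Q) ∣ 138240 := hst ▸ Subgroup.orderOf_dvd_natCard _ (mem_stabilizer_iff.2 hs)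
    have h2 : orderOf (s : Q) ∣ 31 ^ 2 := hS ▸ Subgroup.orderOf_dvd_natCard _ s.2
    exact Subtype.ext (orderOf_eq_one_iff.1 (Nat.eq_one_of_dvd_coprimes (by norm_num) h1 h2))
  have htrans : ∀ x ∈ orbit Q z, ∃ s : ↥(S : Subgroup Q), (s : Q) • z = x := by
    haveI := Fintype.ofFinite ↥(S : Subgroup Q)
    have hinj : Function.Injective fun s : ↥(S : Subgroup Q) => (s : Q) • z := fun s t h => by
      refine (inv_mul_eq_one.1 (hfree (t⁻¹ * s) ?_)).symm
      rw [Subgroup.coe_mul, mul_smul, Subgroup.coe_inv]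
      exact inv_smul_eq_iff.2 h
    have heq' : Set.range (fun s : ↥(S : Subgroup Q) => (s : Q) • z) = orbit Q z :=
      Set.eq_of_subset_of_ncard_le (by rintro _ ⟨s, rfl⟩; exact mem_orbit z _)
        (by rw [horb, ← Nat.card_coe_set_eq, Nat.card_range_of_injective hinj, hS]; norm_num) (Set.toFinite _)
    intro x hx
    rw [← heq'] at hx
    exact hx
  -- the norm
  haveI := Fintype.ofFinite ↥(S : Subgroup Q)
  let Nm : A →* A :=
    { toFun := fun v => ∏ s : ↥(S : Subgroup Q), (s : Q) • v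
      map_one' := by simp
      map_mul' := fun v w => by simp only [smul_mul', Finset.prod_mul_distrib] }
  have hconst : ∀ x ∈ orbit Q z, Nm x = Nm z := by
    intro x hx
    obtain ⟨t, rfl⟩ := htrans x hx
    show (∏ s : ↥(S : Subgroup Q), (s : Q) • (t : Q) • z) = ∏ s : ↥(S : Subgroup Q), (s : Q) • z
    rw [← Equiv.prod_comp (Equiv.mulRight t) fun s : ↥(S : Subgroup Q) => (s : Q) • z]
    simp [mul_smul]
  have hNz : Nm z = 1 := by
    have h := congrArg Nm heq
    rw [map_mul, map_mul, map_mul, hconst a ha, hconst b hb, hconst c hc, hconst d hd, hsq] at h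
    exact h.symm
  have hN1 : ∀ v, Nm v = 1 := by
    intro v
    have hv : v ∈ Subgroup.closure (orbit Q z) := hspan ▸ Subgroup.mem_top v
    induction hv using Subgroup.closure_induction with
    | mem x hx => rw [hconst x hx, hNz]
    | one => exact map_one _
    | mul x y _ _ hx hy => rw [map_mul, hx, hy, one_mul]
    | inv x _ hx => rw [map_inv, hx, inv_one]
  -- but there is a fixed element
  have hfix : ∀ v : A, v ∈ fixedPoints ↥(S : Subgroup Q) A → v = 1 := by
    intro v hv
    have h : Nm v = v ^ (31 ^ 2) := by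
      show (∏ s : ↥(S : Subgroup Q), (s : Q) • v) = _
      refine (Finset.prod_congr (g := fun _ => v) rfl fun (s : ↥(S : Subgroup Q)) _ => hv s).trans ?_
      rw [Finset.prod_const, Finset.card_univ,
        ← Nat.card_eq_fintype_card, hS]
    rw [hN1, show (31 ^ 2 : ℕ) = 2 * 480 + 1 by norm_num, pow_succ, pow_mul, pow_two, hsq, one_pow, one_mul] at h
    exact h.symm
  have hcard : Nat.card (fixedPoints ↥(S : Subgroup Q) A) = 1 := by
    rw [Nat.card_eq_one_iff_unique]
    exact ⟨⟨fun x y => Subtype.ext ((hfix _ x.2).trans (hfix _ y.2).symm)⟩,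
      ⟨⟨1, fun s => smul_one _⟩⟩⟩
  have hmod := (IsPGroup.of_card hS).card_modEq_card_fixedPoints A
  rw [hA, hcard] at hmod
  exact absurd hmod (by decide)

/-- `No2047Stmt` holds. -/
theorem no2047 : No2047Stmt.{u} := by
  intro Q A _ _ _ hA hsq hfaith hQ
  classical
  haveI hf : Fact (Nat.Prime 89) := ⟨by norm_num⟩
  haveI : Finite A := Nat.finite_of_card_ne_zero (by rw [hA]; norm_num)
  haveI : Finite Q := Nat.finite_of_card_ne_zero (by rw [hQ]; norm_num)
  obtain ⟨S⟩ : Nonempty (Sylow 89 Q) := inferInstance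
  have hS : Nat.card (S : Subgroup Q) = 89 :=
    (card_sylow_of_eq56 (k := 1) (m := 138240 * 23) (by rw [hQ]; norm_num) (by norm_num) S).trans (pow_one _)
  obtain ⟨P, hP⟩ : ∃ P : Subgroup Q, P = (S : Subgroup Q) := ⟨_, rfl⟩
  rw [← hP] at hS
  have hPg : IsPGroup 89 ↥P := IsPGroup.of_card (n := 1) (by rw [hS, pow_one])
  -- invariant subgroups
  have hinv : ∀ B : Subgroup A, (∀ s : Q, s ∈ P → ∀ v ∈ B, s • v ∈ B) →
      (∀ v ∈ B, (∀ s : ↥P, (s : Q) • v = v) → v = 1) → B = ⊥ ∨ B = ⊤ := by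
    intro B hB hf1
    let SB : SubMulAction ↥P A := { carrier := B, smul_mem' := fun s v hv => hB s s.2 v hv }
    have hc1 : Nat.card (fixedPoints ↥P ↥SB) = 1 := by
      rw [Nat.card_eq_one_iff_unique]
      refine ⟨⟨fun x y => ?_⟩, ⟨⟨⟨1, one_mem B⟩, fun s => Subtype.ext (smul_one _)⟩⟩⟩
      have h : ∀ w : fixedPoints ↥P ↥SB, ((w : ↥SB) : A) = 1 := fun w =>
        hf1 _ w.1.2 fun s => congrArg Subtype.val (w.2 s)
      exact Subtype.ext (Subtype.ext ((h x).trans (h y).symm))
    have hmod := hPg.card_modEq_card_fixedPoints ↥SB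
    rw [hc1, show Nat.card ↥SB = Nat.card ↥B from rfl] at hmod
    have hd : Nat.card ↥B ∣ 2 ^ 11 := by rw [show (2 : ℕ) ^ 11 = 2048 by norm_num, ← hA]; exact Subgroup.card_subgroup_dvd_card B
    obtain ⟨k, hk, hk'⟩ := (Nat.dvd_prime_pow Nat.prime_two).1 hd
    rw [hk'] at hmod
    have : k = 0 ∨ k = 11 := by
      have hall : ∀ k < 12, 2 ^ k % 89 = 1 % 89 → k = 0 ∨ k = 11 := by decide
      exact hall k (by omega) hmod
    rcases this with rfl | rfl
    · exact Or.inl (Subgroup.eq_bot_of_card_eq B (by rw [hk', pow_zero]))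
    · exact Or.inr (Subgroup.eq_top_of_card_eq B (by rw [hk', hA]; norm_num))
  let Fx : Q → Subgroup A := fun c =>
    { carrier := {v | c • v = v}
      one_mem' := smul_one c
      mul_mem' := fun {v w} (hv : c • v = v) (hw : c • w = w) => by show c • (v * w) = v * w; rw [smul_mul', hv, hw]
      inv_mem' := fun {v} (hv : c • v = v) => by show c • v⁻¹ = v⁻¹; rw [smul_inv', hv] }
  have hfix : ∀ v : A, (∀ s : ↥P, (s : Q) • v = v) → v = 1 := by
    let B : Subgroup A := ⨅ s : ↥P, Fx (s : Q)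
    have hmem : ∀ v : A, v ∈ B ↔ ∀ s : ↥P, (s : Q) • v = v := fun v => Subgroup.mem_iInf
    have hmod := hPg.card_modEq_card_fixedPoints A
    have hcB : Nat.card (fixedPoints ↥P A) = Nat.card ↥B :=
      Nat.card_congr (Equiv.subtypeEquivRight fun v => by rw [hmem]; rfl)
    rw [hcB, hA] at hmod
    have hd : Nat.card ↥B ∣ 2 ^ 11 := by rw [show (2 : ℕ) ^ 11 = 2048 by norm_num, ← hA]; exact Subgroup.card_subgroup_dvd_card B
    obtain ⟨k, hk, hk'⟩ := (Nat.dvd_prime_pow Nat.prime_two).1 hd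
    rw [hk'] at hmod
    have : k = 0 ∨ k = 11 := by
      have hall : ∀ k < 12, 2048 % 89 = 2 ^ k % 89 → k = 0 ∨ k = 11 := by decide
      exact hall k (by omega) hmod
    rcases this with rfl | rfl
    · intro v hv
      have hB : B = ⊥ := Subgroup.eq_bot_of_card_eq B (by rw [hk', pow_zero])
      exact Subgroup.mem_bot.1 (hB ▸ (hmem v).2 hv)
    · exfalso
      have hB : B = ⊤ := Subgroup.eq_top_of_card_eq B (by rw [hk', hA]; norm_num)
      have hbot : P = ⊥ := by
        rw [Subgroup.eq_bot_iff_forall]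
        exact fun s hs => hfaith s fun v => (hmem v).1 (hB ▸ Subgroup.mem_top v) ⟨s, hs⟩
      rw [hbot, Subgroup.card_bot] at hS
      norm_num at hS
  -- the centraliser is semiregular
  obtain ⟨C, hC⟩ : ∃ C, C = Subgroup.centralizer (P : Set Q) := ⟨_, rfl⟩
  have hsemi : ∀ c : ↥C, ∀ v : A, v ≠ 1 → (c : Q) • v = v → c = 1 := by
    intro c v hv hcv
    have hcP : ∀ s ∈ P, s * (c : Q) = (c : Q) * s := fun s hs =>
      Subgroup.mem_centralizer_iff.1 (hC ▸ c.2) s hs
    rcases hinv (Fx (c : Q)) (fun s hs w hw => by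
        show (c : Q) • s • w = s • w
        rw [← mul_smul, ← hcP s hs, mul_smul, show (c : Q) • w = w from hw]) (fun w _ hw => hfix w hw) with h | h
    · exact absurd (Subgroup.mem_bot.1 (h ▸ (show v ∈ Fx (c : Q) from hcv))) hv
    · exact Subtype.ext (hfaith _ fun w => (h ▸ Subgroup.mem_top w : w ∈ Fx (c : Q)))
  let X : SubMulAction ↥C A :=
    { carrier := {v | v ≠ 1}
      smul_mem' := fun c v (hv : v ≠ 1) (h : (c : Q) • v = 1) => hv (by
        have h' := congrArg (fun w => (c : Q)⁻¹ • w) h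
        simpa using h') }
  have hX : Nat.card ↥X = 2047 := by
    have h1 : Nat.card ↥X = Nat.card {v : A // v ≠ 1} := rfl
    haveI := Fintype.ofFinite A
    rw [h1, Nat.card_eq_fintype_card, Fintype.card_subtype_compl, Fintype.card_subtype_eq,
      ← Nat.card_eq_fintype_card, hA]
  have hstab : ∀ x : ↥X, MulAction.stabilizer ↥C x = ⊥ := fun x => by
    rw [Subgroup.eq_bot_iff_forall]
    exact fun c hc => hsemi c _ x.2 (congrArg Subtype.val (mem_stabilizer_iff.1 hc))
  have hCdvd : Nat.card ↥C ∣ 2047 := by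
    rw [← hX, Nat.card_congr (MulAction.selfEquivOrbitsQuotientProd hstab), Nat.card_prod]
    exact Dvd.intro_left _ rfl
  haveI hcyc : IsCyclic ↥P := isCyclic_of_prime_card hS
  have hPC : P ≤ C := by
    intro x hx
    rw [hC, Subgroup.mem_centralizer_iff]
    intro y hy
    exact congrArg Subtype.val (IsCyclic.isMulCommutative.is_comm.comm (⟨y, hy⟩ : ↥P) ⟨x, hx⟩)
  have hC89 : 89 ∣ Nat.card ↥C := hS ▸ Subgroup.card_dvd_of_le hPC
  -- the normaliser
  obtain ⟨N, hN⟩ : ∃ N, N = Subgroup.normalizer (P : Set Q) := ⟨_, rfl⟩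
  subst hN
  have hker := (P.normalizerMonoidHom).ker.card_mul_index
  rw [Subgroup.normalizerMonoidHom_ker, ← hC] at hker
  have hCN : C ≤ Subgroup.normalizer (P : Set Q) := hC ▸ Subgroup.centralizer_le_normalizer (s := (P : Set Q))
  rw [Nat.card_congr (Subgroup.subgroupOfEquivOfLe hCN).toEquiv] at hker
  obtain ⟨e, he⟩ : ∃ e, e = (C.subgroupOf (Subgroup.normalizer (P : Set Q))).index := ⟨_, rfl⟩
  have he88 : e ∣ 88 := by
    have h := Subgroup.card_range_dvd P.normalizerMonoidHom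
    have h1 : Nat.card ↥P.normalizerMonoidHom.range = e := by
      rw [← Subgroup.index_ker, Subgroup.normalizerMonoidHom_ker, ← hC, he]
    have h2 : Nat.card ↥P.normalizerMonoidHom.range ∣ Nat.card (MulAut ↥P) :=
      Subgroup.card_subgroup_dvd_card _
    rw [h1, IsCyclic.card_mulAut, hS, Nat.totient_prime (by norm_num)] at h2
    exact h2
  rw [← he] at hker
  have hn : Nat.card (Sylow 89 Q) * Nat.card ↥(Subgroup.normalizer (P : Set Q)) = Nat.card Q := by
    subst hP
    rw [Sylow.card_eq_index_normalizer S, mul_comm]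
    exact Subgroup.card_mul_index _
  have hmod : Nat.card (Sylow 89 Q) % 89 = 1 := card_sylow_modEq_one 89 Q
  obtain ⟨n, hn'⟩ : ∃ n, Nat.card (Sylow 89 Q) = 89 * n + 1 :=
    ⟨Nat.card (Sylow 89 Q) / 89, by omega⟩
  rw [← hker, hn', hQ] at hn
  have heb : e ≤ 88 := Nat.le_of_dvd (by norm_num) he88
  have hfin : ∀ e ≤ 88, e ∣ 88 → e % 89 ≠ 23 ∧ e % 89 ≠ 84 := by decide
  obtain ⟨hf1, hf2⟩ := hfin e heb he88
  obtain ⟨j, hj⟩ := hC89
  have hj' : j ∣ 23 := by
    rw [hj, show (2047 : ℕ) = 89 * 23 by norm_num] at hCdvd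
    exact Nat.dvd_of_mul_dvd_mul_left (by norm_num) hCdvd
  rw [hj] at hn
  rcases (Nat.dvd_prime (by norm_num)).1 hj' with rfl | rfl <;> ring_nf at hn <;> omega

end Cfsg.Agent.Lib.J4Two56
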