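import Cfsg.Agent.Lib.J4Two56.BClass
import Cfsg.Agent.Lib.J4Two56.No961

/-!
# The conjugates of `z` in the elementary subgroup are 1771
-/

set_option autoImplicit false
set_option linter.unusedSectionVars false
set_option maxRecDepth 100000

universe u

namespace Cfsg.Agent.Lib.J4Two56

open Cfsg Cfsg.Agent.Lib.J4Type19 Cfsg.Agent.Lib.J4Fusion14
open scoped Classical

attribute [local instance] m22_finite

/-- Twice a bit. -/
def two56 (b : Bool) : ℕ := if b then 2 else 0

/-- The number of conjugates of `z` over an index and a coded vector. -/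
def cntTab (h r c : Bool) (d i v : ℕ) : ℕ :=
  if i = 0 then (if v = 0 then 1 else if isHy v then two56 h else two56 r)
  else (if inLine i v then d else two56 c)

/-- The total. -/
def cntAll (h r c : Bool) (d : ℕ) : ℕ :=
  ((List.range 16).map fun i => ((List.range 64).map fun v => cntTab h r c d i v).sum).sum

/-- The order of `GL(11, 2)`. -/
def gl11 : ℕ := ((List.range 11).map fun i => 2 ^ 11 - 2 ^ i).prod

theorem cnt_options : ([false, true].all fun h => [false, true].all fun r => [false, true].all fun c =>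
    [1, 2].all fun d => decide (¬ (cntAll h r c d * 138240 ∣ gl11)) || decide (cntAll h r c d = 2047) ||
      (!h && r && c && decide (d = 1))) = true := by decide +kernel

/-- Faithful actions on an elementary group of order `2 ^ 11`. -/
theorem card_dvd_gl11 {H W : Type u} [Group H] [Finite H] [AddCommGroup W] [Finite W]
    [DistribMulAction H W] [FaithfulSMul H W] (hexp : ∀ w : W, w + w = 0) (hcard : Nat.card W = 2 ^ 11) :
    Nat.card H ∣ gl11 := by
  have : Fact (Nat.Prime 2) := ⟨Nat.prime_two⟩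
  let _ : Module (ZMod 2) W := AddCommGroup.zmodModule fun w => by rw [two_nsmul]; exact hexp w
  have : Module.Finite (ZMod 2) W := Module.Finite.of_finite
  have hfin : Module.finrank (ZMod 2) W = 11 := by
    have h := Module.natCard_eq_pow_finrank (K := ZMod 2) (V := W)
    rw [hcard, Nat.card_zmod] at h
    exact (Nat.pow_right_injective le_rfl h).symm
  let b : Module.Basis (Fin 11) (ZMod 2) W := (Module.finBasis (ZMod 2) W).reindex (finCongr hfin)
  let f0 : H →* Module.End (ZMod 2) W :=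
    { toFun := fun h => (DistribSMul.toAddMonoidHom W h).toZModLinearMap 2
      map_one' := by ext w; simp
      map_mul' := fun x y => by ext w; simp [mul_smul] }
  let f : H →* GL (Fin 11) (ZMod 2) :=
    (Units.map (LinearMap.toMatrixAlgEquiv b).toMonoidHom).comp f0.toHomUnits
  have hinj : Function.Injective f := fun x y hxy =>
    FaithfulSMul.eq_of_smul_eq_smul fun w : W => LinearMap.congr_fun
      ((LinearMap.toMatrixAlgEquiv b).injective (congrArg Units.val hxy) : f0 x = f0 y) w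
  have h := Subgroup.card_dvd_of_injective f hinj
  rw [Matrix.card_GL_field, ZMod.card] at h
  convert h using 1
  decide +kernel

variable {G : Type u} [Group G] [Finite G] {z : G} {P : Subgroup G}
variable {D : HData z P} {X : Plus M22t}

namespace Base

variable (S : Base D X)
include S

/-- The number of conjugates of `z` among two elements differing by `z`. -/
noncomputable def pairCnt (l : ℕ → ↥(cC z P)) (v i : ℕ) : ℕ :=
  (if S.Z1 (S.el0 l false v i) then 1 else 0) + (if S.Z1 (S.el0 l true v i) then 1 else 0)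

theorem Z1_one : ¬ S.Z1 (1 : G) := by
  intro h
  obtain ⟨c, hc⟩ := isConj_iff.1 h
  exact z_ne D.hJ (conj_eq_one_iff.1 hc)

variable {l : ℕ → ↥(cC z P)} (hl : ∀ i, i < 16 → D.π (l i) = X.u i ∧ l i * l i = 1)
include hl

theorem pairCnt_shift {i w : ℕ} (hi : i < 16) (hi0 : i ≠ 0) (hw : w < 64) (hwl : inLine i w = true) :
    S.pairCnt l w i = S.pairCnt l 0 i := by
  obtain ⟨t, ht⟩ := S.shift hl hi hi0 hw hwl
  obtain ⟨s, hs⟩ := ht 0 (by norm_num)
  rw [Nat.zero_xor] at hs
  have h0 := hs false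
  have h1 := hs true
  simp only [pairCnt]
  cases t <;> cases s <;> simp only [Bool.false_xor, Bool.true_xor, Bool.not_true, Bool.not_false] at h0 h1 <;>
    simp only [h0, h1, add_comm]

theorem invariants {i : ℕ} (hi : i < 16) (hi0 : i ≠ 0) :
    S.pairCnt l 0 i = S.pairCnt l 0 1 ∧
      (S.Z1 (S.el0 l false (outPt i) i) ↔ S.Z1 (S.el0 l false (outPt 1) 1)) := by
  let C : ℕ → Prop := fun x => x < 16 ∧ x ≠ 0 ∧ S.pairCnt l 0 x = S.pairCnt l 0 1 ∧
    (S.Z1 (S.el0 l false (outPt x) x) ↔ S.Z1 (S.el0 l false (outPt 1) 1))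
  have hC : ∀ g ∈ idxGens, ∀ x, C x → C (g x) := by
    intro g hg x ⟨hx, hx0, hcn, hou⟩
    obtain ⟨k, hk, rfl⟩ := List.mem_map.1 hg
    rw [List.mem_range] at hk
    have h := uP_ok
    simp only [List.all_eq_true, Bool.and_eq_true, decide_eq_true_eq] at h
    obtain ⟨hu, hu0⟩ := h k (List.mem_range.2 hk) x (List.mem_range.2 hx)
    have hne : M22D.uP k x ≠ 0 := fun e => hx0 (hu0.2 e)
    have ho := List.all_eq_true.1 line_out_ok x (List.mem_range.2 hx)
    simp only [Bool.or_eq_true, Bool.and_eq_true, decide_eq_true_eq, Bool.not_eq_true'] at ho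
    obtain ⟨⟨hol, ho64⟩, -⟩ := ho.resolve_left fun e => hx0 (Nat.eq_of_beq_eq_true e)
    obtain ⟨t, v', hv', hp, hz, hz0⟩ := S.gen_el0 hl hk hx ho64
    refine ⟨hu, hne, hcn ▸ ?_, Iff.trans ?_ hou⟩
    · have h0 := hz0 false
      have h1 := hz0 true
      simp only [pairCnt]
      cases t <;> simp only [Bool.false_xor, Bool.true_xor, Bool.not_true, Bool.not_false] at h0 h1 <;>
        simp only [h0, h1, add_comm]
    · have hout : inLine (M22D.uP k x) v' = false := by
        have hm := line_map_ok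
        simp only [List.all_eq_true, Bool.or_eq_true, decide_eq_true_eq] at hm
        have := ((hm k (List.mem_range.2 hk) x (List.mem_range.2 hx) (outPt x) (List.mem_range.2 ho64)).resolve_left
          fun e => hx0 (Nat.eq_of_beq_eq_true e)) v' (hp ▸ (pnt_spec hv').2.1)
        rw [this, hol]
      exact (S.out_const hl hu hne hv' hout _).symm.trans (hz false)
  have h := List.all_eq_true.1 idxOrbit_ok i (List.mem_range.2 hi)
  simp only [Bool.or_eq_true, decide_eq_true_eq] at h
  exact (reach56_const hC 8 [1] (by simp [C]) i (h.resolve_left fun e => hi0 (Nat.eq_of_beq_eq_true e))).2.2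

/-- The three kinds of classes. -/
theorem pairCnt_eq {i v : ℕ} (hi : i < 16) (hv : v < 64) (hl0 : l 0 = 1) :
    S.pairCnt l v i = cntTab (decide (S.Z1 (S.sv 1))) (decide (S.Z1 (S.sv 5)))
      (decide (S.Z1 (S.el0 l false (outPt 1) 1))) (S.pairCnt l 0 1) i v := by
  rcases eq_or_ne i 0 with rfl | hi0
  · have he : ∀ e, S.el0 l e v 0 = zb z e * S.sv v := fun e => by
      rw [el0, hl0, OneMemClass.coe_one, mul_one]
    rw [pairCnt, he, he, cntTab, if_pos rfl]
    rcases eq_or_ne v 0 with rfl | hv0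
    · rw [S.sv_zero, mul_one, mul_one, if_pos rfl, if_neg (by simpa [zb] using S.Z1_one),
        if_pos (show S.Z1 (zb z true) from IsConj.refl z)]
    · rw [if_neg hv0]
      simp only [S.sv_z hv hv0, S.Z1_sv hv hv0]
      cases isHy v <;>
        simp only [Bool.false_eq_true, if_false, if_true, two56, decide_eq_true_eq] <;> split <;> rfl
  · rw [cntTab, if_neg hi0]
    cases hvl : inLine i v
    · have e := S.out_const hl hi hi0 hv hvl
      simp only [pairCnt, e, (S.invariants hl hi hi0).2, Bool.false_eq_true, if_false, two56, decide_eq_true_eq]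
      split <;> rfl
    · rw [if_pos rfl, S.pairCnt_shift hl hi hi0 hv hvl, (S.invariants hl hi hi0).1]

/-- The number of conjugates of `z`. -/
theorem ncard_Z (hl0 : l 0 = 1) :
    Set.ncard {b : G | b ∈ S.B ∧ S.Z1 b} = cntAll (decide (S.Z1 (S.sv 1))) (decide (S.Z1 (S.sv 5)))
      (decide (S.Z1 (S.el0 l false (outPt 1) 1))) (S.pairCnt l 0 1) := by
  let m : Fin 16 × Fin 64 × Bool → G := fun q => S.el0 l q.2.2 q.2.1 q.1
  have hm : Function.Injective m := fun q q' h => by
    obtain ⟨h1, h2, h3⟩ := S.el0_inj hl q.2.1.2 q'.2.1.2 q.1.2 q'.1.2 h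
    exact Prod.ext (Fin.ext h3) (Prod.ext (Fin.ext h2) h1)
  have hset : {b : G | b ∈ S.B ∧ S.Z1 b} = m '' {q | S.Z1 (m q)} := by
    ext b
    constructor
    · rintro ⟨hb, hz⟩
      obtain ⟨e, v, i, hv, hi, rfl⟩ := S.el0_surj hl hb
      exact ⟨(⟨i, hi⟩, ⟨v, hv⟩, e), hz, rfl⟩
    · rintro ⟨q, hq, rfl⟩
      exact ⟨S.el0_mem hl _ q.2.1.2 q.1.2, hq⟩
  rw [hset, Set.ncard_image_of_injective _ hm, Set.ncard_eq_toFinset_card', Set.toFinset_setOf, Finset.card_filter,
    Fintype.sum_prod_type, cntAll]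
  have hsum : ∀ (k : ℕ) (f : ℕ → ℕ), ∑ i : Fin k, f i = ((List.range k).map f).sum := fun k f => by
    rw [Fin.sum_univ_eq_sum_range (f := f)]
    induction k with
    | zero => simp
    | succ k ih => rw [Finset.sum_range_succ, ih, List.range_succ, List.map_append, List.sum_append]; simp
  rw [← hsum]
  refine Finset.sum_congr rfl fun i _ => ?_
  rw [Fintype.sum_prod_type, ← hsum]
  refine Finset.sum_congr rfl fun v _ => ?_
  rw [Fintype.sum_bool, ← S.pairCnt_eq hl i.2 v.2 hl0, pairCnt, add_comm]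

theorem pos_of_main (hmain : ∃ g : G, g * z * g⁻¹ ∈ cC z P ∧ g * z * g⁻¹ ≠ z) : 1 ≤ S.pairCnt l 0 1 := by
  obtain ⟨g, hg, hne⟩ := hmain
  obtain ⟨w, hw⟩ : ∃ w : ↥(cC z P), w = ⟨g * z * g⁻¹, hg⟩ := ⟨_, rfl⟩
  have hww : w * w = 1 := by
    rw [hw]
    apply Subtype.ext
    show g * z * g⁻¹ * (g * z * g⁻¹) = 1
    rw [show g * z * g⁻¹ * (g * z * g⁻¹) = g * (z * z) * g⁻¹ by group, z_sq D.hJ]; group
  have hπ1 : D.π w ≠ 1 := fun h => by
    rcases D.ker_two h hww with e | e
    · exact z_ne D.hJ (conj_eq_one_iff.1 (show g * z * g⁻¹ = 1 by rw [hw] at e; exact e))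
    · exact hne (by rw [hw] at e; exact e)
  have hu1 : X.u 1 ≠ 1 := fun h => by
    have h0 := X.u_xor 0 (by norm_num) 0 (by norm_num)
    rw [Nat.xor_self] at h0
    have := X.u_inj 1 (by norm_num) 0 (by norm_num) (h.trans (left_eq_mul.1 h0).symm)
    norm_num at this
  have hord : ∀ x : M22t, x * x = 1 → x ≠ 1 → orderOf x = 2 := fun x hx hx1 =>
    orderOf_eq_prime (by rw [pow_two]; exact hx) hx1
  obtain ⟨m, hm⟩ := isConj_iff.1 (X.F.inv_conj _ _ (hord _ (by rw [← map_mul, hww, map_one]) hπ1)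
    (hord _ (X.F.sq0 _ (X.u_mem 1 (by norm_num))) hu1))
  obtain ⟨c, rfl⟩ := D.πsurj m
  obtain ⟨t, ht⟩ := S.lift_unique hl (i := 1) (by norm_num) (c := c * w * c⁻¹)
    (by rw [map_mul, map_mul, map_inv, hm]) (D.toJMod.conj_four (by
      rw [show (4 : ℕ) = 2 * 2 from rfl, pow_mul, pow_two w, hww, one_pow]))
  have hz : S.Z1 (S.el0 l t 0 1) := by
    rw [el0, S.sv_zero, mul_one, ← ht]
    show IsConj z ((c : G) * (w : G) * (c : G)⁻¹)
    rw [hw]
    exact isConj_iff.2 ⟨(c : G) * g, by group⟩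
  unfold pairCnt
  cases t
  · rw [if_pos hz]; omega
  · rw [if_pos hz]; omega

theorem classes_B (hl0 : l 0 = 1) (hmain : ∃ g : G, g * z * g⁻¹ ∈ cC z P ∧ g * z * g⁻¹ ≠ z) :
    ¬ S.Z1 (S.sv 1) ∧ S.Z1 (S.sv 5) ∧ S.Z1 (S.el0 l false (outPt 1) 1) ∧ S.pairCnt l 0 1 = 1 := by
  obtain ⟨n, hn⟩ : ∃ n, n = Set.ncard {b : G | b ∈ S.B ∧ S.Z1 b} := ⟨_, rfl⟩
  obtain ⟨N, hN⟩ : ∃ N, N = Subgroup.normalizer (S.B : Set G) := ⟨_, rfl⟩
  let ι : Subgroup.centralizer ({z} : Set G) ⊓ N ≤ N := inf_le_right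
  -- the orbit
  let orb : ↥N → G := fun m => (m : G) * z * (m : G)⁻¹
  have hNcard : Nat.card ↥N = n * (138240 * 2 ^ 11) := by
    have h := ((Subgroup.normalizer (S.B : Set G) ⊓ cH z).subgroupOf N).card_mul_index
    rw [Nat.card_congr (Subgroup.subgroupOfEquivOfLe (hN ▸ inf_le_left)).toEquiv, card_stab S.L S.hB S.hmem] at h
    have hidx : ((Subgroup.normalizer (S.B : Set G) ⊓ cH z).subgroupOf N).index = n := by
      rw [Subgroup.index, hn, ← Nat.card_coe_set_eq]
      have hmem : ∀ a b : ↥N, a⁻¹ * b ∈ (Subgroup.normalizer (S.B : Set G) ⊓ cH z).subgroupOf N ↔ orb a = orb b := by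
        intro a b
        rw [Subgroup.mem_subgroupOf, Subgroup.mem_inf, Subgroup.mem_centralizer_singleton_iff]
        constructor
        · rintro ⟨-, h⟩
          have h' : (a : G)⁻¹ * b * z = z * ((a : G)⁻¹ * b) := h
          calc (a : G) * z * (a : G)⁻¹ = (a : G) * (z * ((a : G)⁻¹ * b)) * (b : G)⁻¹ := by group
            _ = (b : G) * z * (b : G)⁻¹ := by rw [← h']; group
        · intro h
          refine ⟨by rw [← hN]; exact SetLike.coe_mem _, ?_⟩
          show (a : G)⁻¹ * b * z = z * ((a : G)⁻¹ * b)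
          calc (a : G)⁻¹ * b * z = (a : G)⁻¹ * ((b : G) * z * (b : G)⁻¹) * b := by group
            _ = (a : G)⁻¹ * ((a : G) * z * (a : G)⁻¹) * b := by rw [show (b : G) * z * (b : G)⁻¹ = _ from h.symm]
            _ = z * ((a : G)⁻¹ * b) := by group
      let F : ↥N ⧸ ((Subgroup.normalizer (S.B : Set G) ⊓ cH z).subgroupOf N) → {b : G | b ∈ S.B ∧ S.Z1 b} :=
        Quotient.lift (fun a => (⟨orb a, (Subgroup.mem_normalizer_iff.1 (hN.le a.2) z).1 (z_mem_B S.L S.hB S.hmem),
          isConj_iff.2 ⟨a, rfl⟩⟩ : {b : G | b ∈ S.B ∧ S.Z1 b})) fun a b hab =>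
          Subtype.ext ((hmem a b).1 (QuotientGroup.leftRel_apply.1 hab))
      refine Nat.card_eq_of_bijective F ⟨?_, ?_⟩
      · intro q q'
        refine Quotient.inductionOn₂ q q' fun a b hab => ?_
        exact Quotient.sound (QuotientGroup.leftRel_apply.2 ((hmem a b).2 (congrArg Subtype.val hab)))
      · rintro ⟨b, hb, hz⟩
        obtain ⟨g, rfl⟩ := isConj_iff.1 hz
        obtain ⟨m, hm, hmz⟩ := fusion_control S.L S.hB S.hmem hb
        exact ⟨Quotient.mk _ ⟨m, hN.ge hm⟩, Subtype.ext hmz⟩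
    rw [hidx] at h
    rw [← h]; ring
  -- the action on the subgroup
  have hcm : ∀ a b : ↥S.B, a * b = b * a := fun a b => Subtype.ext (S.commB a.2 b.2)
  let _ : CommGroup ↥S.B := { (inferInstance : Group ↥S.B) with mul_comm := hcm }
  let ψ : ↥N →* MulAut ↥S.B :=
    { toFun := fun m =>
        { toFun := fun b => ⟨(m : G) * b * (m : G)⁻¹, (Subgroup.mem_normalizer_iff.1 (hN.le m.2) b).1 b.2⟩
          invFun := fun b => ⟨(m : G)⁻¹ * b * m, (Subgroup.mem_normalizer_iff''.1 (hN.le m.2) b).1 b.2⟩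
          left_inv := fun b => Subtype.ext (by show (m : G)⁻¹ * ((m : G) * b * (m : G)⁻¹) * m = b; group)
          right_inv := fun b => Subtype.ext (by show (m : G) * ((m : G)⁻¹ * b * m) * (m : G)⁻¹ = b; group)
          map_mul' := fun a b => Subtype.ext (by
            show (m : G) * ((a : G) * b) * (m : G)⁻¹ = (m : G) * a * (m : G)⁻¹ * ((m : G) * b * (m : G)⁻¹); group) }
      map_one' := MulEquiv.ext fun b => Subtype.ext (by
        show ((1 : ↥N) : G) * b * ((1 : ↥N) : G)⁻¹ = b; simp)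
      map_mul' := fun a b => MulEquiv.ext fun x => Subtype.ext (by
        show ((a * b : ↥N) : G) * x * ((a * b : ↥N) : G)⁻¹ = (a : G) * ((b : G) * x * (b : G)⁻¹) * (a : G)⁻¹
        rw [Subgroup.coe_mul]; group) }
  have hker : Nat.card ↥ψ.ker = 2 ^ 11 := by
    have hBN : S.B ≤ N := hN ▸ Subgroup.le_normalizer
    rw [show ψ.ker = S.B.subgroupOf N from ?_, Nat.card_congr (Subgroup.subgroupOfEquivOfLe hBN).toEquiv, S.hB.2.2]
    ext m
    rw [Subgroup.mem_subgroupOf, MonoidHom.mem_ker]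
    constructor
    · intro h
      refine cent_le_B S.L S.hB S.hmem (Subgroup.mem_centralizer_iff.2 fun b hb => ?_)
      have := congrArg Subtype.val (MulEquiv.congr_fun h (⟨b, hb⟩ : ↥S.B))
      exact (mul_inv_eq_iff_eq_mul.1 this).symm
    · intro h
      refine MulEquiv.ext fun b => Subtype.ext ?_
      show (m : G) * b * (m : G)⁻¹ = b
      rw [S.commB h b.2, mul_inv_cancel_right]
  have hQ : Nat.card ↥ψ.range = n * 138240 := by
    have h := ψ.ker.card_mul_index
    rw [Subgroup.index_ker, hker, hNcard] at h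
    omega
  let _ : MulDistribMulAction ↥ψ.range ↥S.B :=
    MulDistribMulAction.compHom ↥S.B ψ.range.subtype
  have hsq : ∀ a : ↥S.B, a * a = 1 := fun a => Subtype.ext (S.hB.2.1 a a.2)
  have hfaith : ∀ q : ↥ψ.range, (∀ a : ↥S.B, q • a = a) → q = 1 := fun q hq =>
    Subtype.ext (MulEquiv.ext hq)
  have hdvd : n * 138240 ∣ gl11 := by
    rw [← hQ]
    let _ : DistribMulAction ↥ψ.range (Additive ↥S.B) :=
      { smul := fun q a => Additive.ofMul (q • Additive.toMul a)
        one_smul := fun a => congrArg Additive.ofMul (one_smul ↥ψ.range (Additive.toMul a))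
        mul_smul := fun q q' a => congrArg Additive.ofMul (mul_smul q q' (Additive.toMul a))
        smul_zero := fun q => congrArg Additive.ofMul (smul_one q)
        smul_add := fun q a b => congrArg Additive.ofMul (smul_mul' q (Additive.toMul a) (Additive.toMul b)) }
    have : FaithfulSMul ↥ψ.range (Additive ↥S.B) := ⟨fun {q q'} h =>
      Subtype.ext (MulEquiv.ext fun a => Additive.ofMul.injective (h (Additive.ofMul a)))⟩
    exact card_dvd_gl11 (W := Additive ↥S.B) (fun w => congrArg Additive.ofMul (hsq (Additive.toMul w)))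
      ((Nat.card_congr Additive.toMul).trans S.hB.2.2)
  have h2047 : n ≠ 2047 := fun e =>
    no2047 ↥ψ.range ↥S.B (by rw [S.hB.2.2]; norm_num) hsq hfaith (by rw [hQ, e])
  rw [hn, S.ncard_Z hl hl0] at hdvd h2047
  have hd : S.pairCnt l 0 1 ∈ [1, 2] := by
    have h1 := S.pos_of_main hl hmain
    have h2 : S.pairCnt l 0 1 ≤ 2 := by unfold pairCnt; split <;> split <;> omega
    simp only [List.mem_cons, List.not_mem_nil, or_false]
    omega
  have hb : ∀ b : Bool, b ∈ [false, true] := fun b => by cases b <;> simp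
  have h := cnt_options
  simp only [List.all_eq_true, Bool.or_eq_true, decide_eq_true_eq, Bool.and_eq_true, Bool.not_eq_true'] at h
  rcases h _ (hb (decide (S.Z1 (S.sv 1)))) _ (hb (decide (S.Z1 (S.sv 5)))) _
      (hb (decide (S.Z1 (S.el0 l false (outPt 1) 1)))) _ hd with (h' | h') | ⟨⟨⟨a, b⟩, c⟩, d⟩
  · exact absurd hdvd h'
  · exact absurd h' h2047
  · exact ⟨decide_eq_false_iff_not.1 a, decide_eq_true_iff.1 b, decide_eq_true_iff.1 c, d⟩

end Base

end Cfsg.Agent.Lib.J4Two56
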