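import Cfsg.Agent.Lib.J4Two56.DuadStab
import Cfsg.Agent.Lib.J4Two56.ModelFacts

/-!
The stabiliser in `M24` of the class of a pair, acting on the numbers below 2048, is the automorphism
group of `M22`.
-/

set_option autoImplicit false

namespace Cfsg.Agent.Lib.J4Two56

open Cfsg Cfsg.Agent.Lib

/-- The stabiliser of the number `b` in `M24`. -/
def actStab (b : ℕ) : Set (Equiv.Perm GolayPt) := {σ | σ ∈ Cfsg.M24 ∧ act σ b = b}

theorem actStab_eq_duadStab {p q : GolayPt} (hpq : p ≠ q) :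
    actStab (cd p ^^^ cd q) = (duadStab p q : Set (Equiv.Perm GolayPt)) := by
  ext σ
  rw [SetLike.mem_coe, mem_duadStab]
  refine and_congr_right fun hσ => ?_
  rw [act_pair hσ]
  constructor
  · intro h
    have hs := pair_inj (fun e => hpq (σ.injective e)) hpq h
    have m1 : σ p ∈ ({p, q} : Finset GolayPt) := hs ▸ Finset.mem_insert_self _ _
    have m2 : σ q ∈ ({p, q} : Finset GolayPt) :=
      hs ▸ Finset.mem_insert_of_mem (Finset.mem_singleton_self _)
    simp only [Finset.mem_insert, Finset.mem_singleton] at m1 m2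
    rcases m1 with h1 | h1 <;> rcases m2 with h2 | h2
    · exact absurd (σ.injective (h1.trans h2.symm)) hpq
    · exact Or.inl ⟨h1, h2⟩
    · exact Or.inr ⟨h1, h2⟩
    · exact absurd (σ.injective (h1.trans h2.symm)) hpq
  · rintro (⟨h1, h2⟩ | ⟨h1, h2⟩) <;> rw [h1, h2]
    exact Nat.xor_comm _ _

/-- For the class of a pair the stabiliser is a subgroup isomorphic to `MulAut M22`. -/
theorem actStab_iso {b : ℕ} (_hb : b < 2048) (hD : isD b = true) :
    ∃ S : Subgroup (Equiv.Perm GolayPt), (S : Set (Equiv.Perm GolayPt)) = actStab b ∧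
      S ≤ Cfsg.M24 ∧ Nonempty (↥S ≃* MulAut ↥Cfsg.Spor.M22) := by
  obtain ⟨p, q, hpq, rfl⟩ := isD_iff.1 hD
  exact ⟨duadStab p q, (actStab_eq_duadStab hpq).symm, inf_le_left, duadStab_iso hpq⟩

end Cfsg.Agent.Lib.J4Two56
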