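import Cfsg.Agent.Lib.J4Two56.SpecDef
import Cfsg.Agent.Lib.J4Two56.Classes
import Cfsg.Agent.Lib.Golay.M24

/-!
# The coordinates exist, given the numbering
-/

set_option autoImplicit false
set_option linter.unusedSectionVars false

universe u

namespace Cfsg.Agent.Lib.J4Two56

open Cfsg Cfsg.Agent.Lib Cfsg.Agent.Lib.J4Type19

attribute [local instance] m22_finite

variable {G : Type u} [Group G] [Finite G] {z : G} {P : Subgroup G}
variable {D : HData z P} {X : Plus M22t}

namespace SpecData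

variable {S : Base D X} (d : SpecData S)
include d

theorem el_one : elx S d.x 1 = z := by
  rw [elx, d.x_zero, show (1 : ℕ) % 2 = 1 from rfl, show (1 : ℕ) / 2 % 64 = 0 from rfl, S.sv_zero, pow_one,
    show (1 : ℕ) / 128 = 0 from rfl]
  simp [epsW]

theorem exists_img {n : G} (hn : n ∈ Subgroup.normalizer (S.B : Set G)) (a : ℕ) :
    ∃ b, b < 2048 ∧ (a < 2048 → n * elx S d.x a * n⁻¹ = elx S d.x b) := by
  by_cases ha : a < 2048
  · obtain ⟨b, hb, e⟩ := d.el_surj _ ((Subgroup.mem_normalizer_iff.1 hn _).1 (d.el_mem a ha))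
    exact ⟨b, hb, fun _ => e.symm⟩
  · exact ⟨0, by norm_num, fun h => absurd h ha⟩

theorem exists_σ (n : ↥(Subgroup.normalizer (S.B : Set G))) :
    ∃ σ : ↥Cfsg.M24, ∀ a, a < 2048 →
      (n : G) * elx S d.x a * (n : G)⁻¹ = elx S d.x (act (σ : Equiv.Perm GolayPt) a) := by
  choose f hlt hf using fun a => d.exists_img n.2 a
  have hadd : ∀ a, a < 2048 → ∀ b, b < 2048 → f (a ^^^ b) = f a ^^^ f b := by
    intro a ha b hb
    refine d.el_inj _ (hlt _) _ (xor_lt (hlt a) (hlt b)) ?_
    rw [← hf _ (xor_lt ha hb), d.el_xor a ha b hb, d.el_xor _ (hlt a) _ (hlt b), ← hf a ha, ← hf b hb]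
    group
  have hinj : ∀ a, a < 2048 → ∀ b, b < 2048 → f a = f b → a = b := by
    intro a ha b hb e
    refine d.el_inj a ha b hb ?_
    have h := (hf a ha).trans (e ▸ (hf b hb).symm)
    exact mul_left_cancel (mul_right_cancel h)
  have hconj : ∀ a, a < 2048 → IsConj (elx S d.x a) (elx S d.x (f a)) := fun a ha =>
    isConj_iff.2 ⟨(n : G), hf a ha⟩
  have hD : ∀ a, a < 2048 → isD a = true → isD (f a) = true := by
    intro a ha h
    have h0 : a ≠ 0 := fun e => by rw [e, isD_zero] at h; exact Bool.false_ne_true h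
    have hf0 : f a ≠ 0 := by
      intro e
      have hz : f 0 = 0 := by
        have := hadd 0 (by norm_num) 0 (by norm_num)
        rw [Nat.xor_self, Nat.xor_self] at this
        exact this
      exact h0 (hinj a ha 0 (by norm_num) (e.trans hz.symm))
    by_contra hc
    rw [Bool.not_eq_true] at hc
    have h1 := (d.cls (f a) (hlt a)).2 ⟨hf0, hc⟩
    have h2 := ((d.cls a ha).1 (h1.trans (hconj a ha).symm)).2
    rw [h] at h2
    exact Bool.noConfusion h2
  obtain ⟨σ, hσ, e⟩ := exists_perm f (fun a _ => hlt a) hadd hinj hD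
  exact ⟨⟨σ, hσ⟩, fun a ha => by rw [hf a ha, e a ha]⟩

/-- The permutation induced by an element of the normaliser. -/
noncomputable def toPermFun (n : ↥(Subgroup.normalizer (S.B : Set G))) : ↥Cfsg.M24 :=
  (d.exists_σ n).choose

theorem toPermFun_spec (n : ↥(Subgroup.normalizer (S.B : Set G))) {a : ℕ} (ha : a < 2048) :
    (n : G) * elx S d.x a * (n : G)⁻¹ = elx S d.x (act (d.toPermFun n : Equiv.Perm GolayPt) a) :=
  (d.exists_σ n).choose_spec a ha

theorem toPermFun_unique (n : ↥(Subgroup.normalizer (S.B : Set G))) (σ : ↥Cfsg.M24)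
    (h : ∀ a, a < 2048 → (n : G) * elx S d.x a * (n : G)⁻¹ = elx S d.x (act (σ : Equiv.Perm GolayPt) a)) :
    d.toPermFun n = σ :=
  Subtype.ext (act_inj (d.toPermFun n).2 σ.2 fun a ha =>
    d.el_inj _ (act_lt _ _) _ (act_lt _ _) ((d.toPermFun_spec n ha).symm.trans (h a ha)))

/-- The action on the numbers as a homomorphism. -/
noncomputable def toPerm : ↥(Subgroup.normalizer (S.B : Set G)) →* ↥Cfsg.M24 where
  toFun := d.toPermFun
  map_one' := d.toPermFun_unique 1 1 fun a ha => by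
    rw [Subgroup.coe_one, one_mul, inv_one, mul_one, Subgroup.coe_one, act_one ha]
  map_mul' n m := d.toPermFun_unique (n * m) _ fun a ha => by
    rw [Subgroup.coe_mul, Subgroup.coe_mul, act_mul (d.toPermFun n).2, ← d.toPermFun_spec n (act_lt _ _),
      ← d.toPermFun_spec m ha]
    group

theorem ker_toPerm : d.toPerm.ker = S.B.subgroupOf (Subgroup.normalizer (S.B : Set G)) := by
  ext n
  rw [Subgroup.mem_subgroupOf, MonoidHom.mem_ker]
  constructor
  · intro h
    refine cent_le_B S.L S.hB S.hmem (Subgroup.mem_centralizer_iff.2 fun b hb => ?_)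
    obtain ⟨a, ha, rfl⟩ := d.el_surj b hb
    have e := d.toPermFun_spec n ha
    rw [show d.toPermFun n = 1 from h, Subgroup.coe_one, act_one ha] at e
    exact (mul_inv_eq_iff_eq_mul.1 e).symm
  · intro h
    refine d.toPermFun_unique n 1 fun a ha => ?_
    rw [Subgroup.coe_one, act_one ha, S.commB h (d.el_mem a ha), mul_inv_cancel_right]

theorem card_conj_z : Set.ncard {b : G | b ∈ S.B ∧ IsConj z b} = 1771 := by
  rw [show {b : G | b ∈ S.B ∧ IsConj z b} = elx S d.x '' {n | n < 2048 ∧ IsQ n} from ?_, Set.InjOn.ncard_image,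
    ncard_Q]
  · exact fun a ha b hb e => d.el_inj a ha.1 b hb.1 e
  ext b
  constructor
  · rintro ⟨hb, hz⟩
    obtain ⟨a, ha, rfl⟩ := d.el_surj b hb
    exact ⟨a, ⟨ha, (d.cls a ha).1 hz⟩, rfl⟩
  · rintro ⟨a, ⟨ha, hq⟩, rfl⟩
    exact ⟨d.el_mem a ha, (d.cls a ha).2 hq⟩

theorem card_normB : Nat.card ↥(Subgroup.normalizer (S.B : Set G)) = 244823040 * 2 ^ 11 := by
  letI : MulAction ↥(Subgroup.normalizer (S.B : Set G)) ↥S.B :=
    MulAction.compHom _ S.B.normalizerMonoidHom
  obtain ⟨z0, hz0⟩ : ∃ z0 : ↥S.B, z0 = ⟨z, z_mem_B S.L S.hB S.hmem⟩ := ⟨_, rfl⟩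
  have hz0v : ((z0 : ↥S.B) : G) = z := by rw [hz0]
  have hsm : ∀ (g : ↥(Subgroup.normalizer (S.B : Set G))) (y : ↥S.B),
      ((g • y : ↥S.B) : G) = (g : G) * y * (g : G)⁻¹ := fun g y => rfl
  have horb : MulAction.orbit ↥(Subgroup.normalizer (S.B : Set G)) z0 = {y : ↥S.B | IsConj z (y : G)} := by
    refine Set.Subset.antisymm ?_ ?_
    · rintro _ ⟨g, rfl⟩
      exact isConj_iff.2 ⟨(g : G), by rw [hsm, hz0v]⟩
    · intro y hy
      obtain ⟨g, hg⟩ := isConj_iff.1 hy
      obtain ⟨m, hm, e⟩ := fusion_control S.L S.hB S.hmem (g := g) (hg ▸ y.2)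
      exact ⟨⟨m, hm⟩, Subtype.ext (by rw [hsm, hz0v]; exact e.trans hg)⟩
  have hn : Set.ncard {y : ↥S.B | IsConj z (y : G)} = 1771 := by
    rw [← d.card_conj_z, ← Set.ncard_image_of_injective _ Subtype.val_injective]
    congr 1
    ext b
    exact ⟨fun ⟨y, hy, e⟩ => e ▸ ⟨y.2, hy⟩, fun ⟨hb, hz⟩ => ⟨⟨b, hb⟩, hz, rfl⟩⟩
  have hst : Nat.card ↥(MulAction.stabilizer ↥(Subgroup.normalizer (S.B : Set G)) z0) =
      Nat.card ↥(Subgroup.normalizer (S.B : Set G) ⊓ cH z : Subgroup G) := by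
    refine Nat.card_congr
      { toFun := fun g => ⟨((g : ↥(Subgroup.normalizer (S.B : Set G))) : G),
          (g : ↥(Subgroup.normalizer (S.B : Set G))).2, ?_⟩
        invFun := fun h => ⟨⟨(h : G), h.2.1⟩, ?_⟩
        left_inv := fun g => rfl
        right_inv := fun h => rfl }
    · refine Subgroup.mem_centralizer_singleton_iff.2 ?_
      have := congrArg Subtype.val (MulAction.mem_stabilizer_iff.1 g.2)
      rw [hsm, hz0v] at this
      exact mul_inv_eq_iff_eq_mul.1 this
    · refine MulAction.mem_stabilizer_iff.2 (Subtype.ext ?_)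
      rw [hsm, hz0v]
      show (h : G) * z * (h : G)⁻¹ = z
      rw [Subgroup.mem_centralizer_singleton_iff.1 h.2.2, mul_inv_cancel_right]
  have h := (MulAction.stabilizer ↥(Subgroup.normalizer (S.B : Set G)) z0).card_mul_index
  rw [MulAction.index_stabilizer, horb, hn, hst, card_stab S.L S.hB S.hmem] at h
  rw [← h]; norm_num

theorem toPerm_surjective : Function.Surjective d.toPerm := by
  refine MonoidHom.range_eq_top.1 (Subgroup.eq_top_of_card_eq _ ?_)
  have h := d.toPerm.ker.card_mul_index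
  rw [Subgroup.index_ker, d.ker_toPerm,
    Nat.card_congr (Subgroup.subgroupOfEquivOfLe (Subgroup.le_normalizer (H := S.B))).toEquiv, S.hB.2.2,
    d.card_normB] at h
  rw [Golay.card_M24]
  omega

/-- The subgroup with its coordinates. -/
noncomputable def todd : Todd G z where
  el := elx S d.x
  el_xor := d.el_xor
  el_inj := d.el_inj
  el_z := d.el_one
  V := S.B
  mem_V x := ⟨d.el_surj x, fun ⟨a, ha, e⟩ => e ▸ d.el_mem a ha⟩
  cent := cent_le_B S.L S.hB S.hmem
  uniq _ h := uniq_B S.L S.hB S.hmem h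
  cls := d.cls
  ρ := d.toPerm
  ρ_spec n _ ha := d.toPermFun_spec n ha
  ρ_surj := d.toPerm_surjective

end SpecData

/-- The coordinates at `z`, given the numbering. -/
theorem loc_of_spec (S : Base D X) (d : SpecData S) : Nonempty (Loc D X S.L) :=
  ⟨{ f := S.f
     T := d.todd
     mem_B := S.hmem
     x := d.x
     x_zero := d.x_zero
     x_π := d.x_π
     x_sq := d.x_sq
     x_nz := d.x_nz
     x_z := d.x_z
     el_eq := fun _ _ => rfl
     conjB := fun _ hV hc => conj_of_elemAb S.L S.hB S.hmem hV hc }⟩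

end Cfsg.Agent.Lib.J4Two56
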