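import Cfsg.Agent.Lib.J4Type19.M22Checks
import Cfsg.Agent.Lib.J4Two56.M22Data

/-! Kernel checks on the data of `M22Data`. -/

set_option autoImplicit false
set_option maxRecDepth 100000

namespace Cfsg.Agent.Lib.J4Two56

open Cfsg.Agent.Lib.Compute Cfsg.Agent.Lib.Compute.Mathieu
open Cfsg.Agent.Lib.J4Type19 (mc c1 normOK cb)
open Cfsg.Agent.Lib.Fusion (memCode)

namespace M22D

/-- Code of an element of the plane. -/
def uC (i : ℕ) : ℕ := (uLits.getD i (0, 0)).1

/-- Generator literals. -/
def gL (k : ℕ) : ℕ × ℕ := genLits.getD k (0, 0)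

/-- Permutation entry. -/
def uP (k i : ℕ) : ℕ := (uPerms.getD k []).getD i 0

/-- Composite of a word on the indices. -/
def uW (w : List ℕ) (i : ℕ) : ℕ := w.foldr uP i

/-- Code and inverse code of a word in the generators. -/
noncomputable def wC : List ℕ → ℕ × ℕ :=
  fun l => List.rec (motive := fun _ => ℕ × ℕ) (c1, c1)
    (fun k _ r => (mc (gL k).1 r.1, mc r.2 (gL k).2)) l

/-- Code and inverse code of a translation followed by a word. -/
noncomputable def uwC (i : ℕ) (w : List ℕ) : ℕ × ℕ := (mc (uC i) (wC w).1, mc (wC w).2 (uC i))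

/-- Base conjugator. -/
noncomputable def baseC (t : ℕ) : ℕ × ℕ := [(c1, c1), t1, t60].getD t (0, 0)

/-- Conjugator of a plane. -/
noncomputable def plC (j : ℕ) : ℕ × ℕ :=
  let e := planeList.getD j (0, 0, [])
  (mc (uwC e.2.1 e.2.2).1 (baseC e.1).1, mc (baseC e.1).2 (uwC e.2.1 e.2.2).2)

/-- Conjugate of the plane. -/
noncomputable def conjU (g : ℕ × ℕ) : List ℕ := (List.range 16).map fun i => mc (mc g.1 (uC i)) g.2

/-- The three generators of M22 used. -/
def gen3 : List (ℕ × ℕ) := [J4Type19.Data.gn1, J4Type19.Data.gn2, J4Type19.Data.elc]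

/-- All literals lifted. -/
def lits : List (ℕ × ℕ) := uLits ++ genLits ++ [t1, t60]

theorem lits_ok : lits.all (pairCheck 8 24 m22Chain) = true := by decide +kernel

theorem u_codes_eq : (List.range 16).map uC = uLits.map Prod.fst := by decide +kernel

theorem u_set_ok : ((uLits.map Prod.fst).all (fun x => memCode x (J4Type19.Data.u0.map Prod.fst)) &&
    (J4Type19.Data.u0.map Prod.fst).all (fun x => memCode x (uLits.map Prod.fst)) &&
    decide (uLits.map Prod.fst).Nodup) = true := by decide +kernel

theorem u_xor_ok : ((List.range 16).all fun i => (List.range 16).all fun j =>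
    Nat.beq (uC (i ^^^ j)) (mc (uC i) (uC j))) = true := by decide +kernel

theorem nu_ok : ((List.range 4).all fun k => (List.range 16).all fun i =>
    Nat.beq (mc (mc (gL k).1 (uC i)) (gL k).2) (uC (uP k i)) && Nat.blt (uP k i) 16) = true := by decide +kernel

theorem ay_ok : (Nat.beq (mc (gL 0).1 (mc (gL 0).1 (gL 0).1)) c1 && !Nat.beq (gL 0).1 c1 &&
    Nat.beq (mc (mc (gL 2).1 (gL 2).1) (mc (gL 2).1 (gL 2).1)) c1 &&
    Nat.beq (mc (mc (gL 2).1 (gL 0).1) (gL 2).2) (gL 1).1 &&
    Nat.beq (mc (gL 0).1 (gL 1).1) (mc (gL 1).1 (gL 0).1) &&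
    !Nat.beq (gL 1).1 c1 && !Nat.beq (gL 1).1 (gL 0).1 && !Nat.beq (gL 1).1 (gL 0).2 &&
    Nat.beq (mc (mc (gL 2).1 (gL 1).1) (gL 2).2) (gL 0).2) = true := by decide +kernel

theorem norm_ab : (normOK (gL 0) (J4Type19.Data.u0.map Prod.fst) &&
    normOK (gL 1) (J4Type19.Data.u0.map Prod.fst)) = true := by decide +kernel

/-- Permutations of the complement. -/
def aPerms : List (List ℕ) :=
  parents.tail.foldl (fun acc p => acc ++ [(acc.getD p.2 []).map (uP p.1)]) [List.range 16]

theorem aPerms_len : aPerms.length = 360 := by decide +kernel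

theorem parents_ok : (parents.tail.all fun p => Nat.blt p.1 4) = true := by decide +kernel

theorem aPerms_nodup : decide ((aPerms.map fun l => l.foldr (fun x r => x + 16 * r) 0).Nodup) = true := by
  decide +kernel

theorem planeList_ok : (Nat.beq planeList.length 77 && planeList.all fun e =>
    Nat.blt e.1 3 && Nat.blt e.2.1 16 && e.2.2.all fun k => Nat.blt k 4) = true := by decide +kernel

theorem planes_nodup : ((List.range 77).all fun j => (List.range 77).all fun k =>
    Nat.beq j k || (conjU (plC j)).any fun x => !memCode x (conjU (plC k))) = true := by decide +kernel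

theorem planes_disjoint : ((List.range 77).all fun j => Nat.beq j 0 || (List.range 16).all fun i =>
    Nat.beq i 0 || !memCode (uC i) (conjU (plC j))) = true := by decide +kernel

theorem planeMoves_ok : ((List.range 3).all fun g => (List.range 77).all fun j =>
    let k := (planeMoves.getD g []).getD j 0
    let p := gen3.getD g (0, 0)
    Nat.blt k 77 && (conjU (mc p.1 (plC j).1, mc (plC j).2 p.2)).all fun x => memCode x (conjU (plC k))) = true := by
  decide +kernel

theorem t1_norm_ok : ([gL 0, gL 1].all fun g => normOK g (conjU t1)) = true := by decide +kernel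

/-- Value of an item of `word1`. -/
noncomputable def item1 (j : ℕ) : ℕ := if j < 16 then uC j else mc (mc t1.1 (uC (j - 16))) t1.2

/-- Value of an item of `word60`. -/
noncomputable def item60 (p : Option ℕ × ℕ) : ℕ :=
  match p.1 with
  | none => uC p.2
  | some k =>
    let h := [([] : List ℕ), [0], [1], [2], [3]].getD k []
    mc (mc (mc (wC h).1 t60.1) (uC p.2)) (mc t60.2 (wC h).2)

theorem word1_ok : (Nat.beq (word1.foldr (fun j r => mc (item1 j) r) c1) (gL 0).1 &&
    word1.all fun j => Nat.blt j 32) = true := by decide +kernel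

theorem word60_ok : (Nat.beq (word60.foldr (fun p r => mc (item60 p) r) c1) (gL 0).1 &&
    word60.all fun p => Nat.blt p.2 16 && (match p.1 with | none => true | some k => Nat.blt k 5)) = true := by
  decide +kernel

theorem stab60_ok : (stab60.all fun e => Nat.blt e.1 16 && (e.2.all fun k => Nat.blt k 4) &&
    normOK (uwC e.1 e.2) (conjU t60)) = true := by decide +kernel

/-- The two involutions. -/
noncomputable def cA : ℕ × ℕ := uwC splitA.1 splitA.2

/-- The two involutions. -/
noncomputable def cB : ℕ × ℕ := uwC splitB.1 splitB.2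

theorem split_ok : (Nat.blt splitA.1 16 && Nat.blt splitB.1 16 &&
    (splitA.2.all fun k => Nat.blt k 4) && (splitB.2.all fun k => Nat.blt k 4) &&
    Nat.beq (mc cA.1 cA.1) c1 && Nat.beq (mc cB.1 cB.1) c1 &&
    (let r := mc cA.1 cB.1
     Nat.beq (mc (mc r r) (mc r r)) c1 && !Nat.beq (mc r r) c1) &&
    normOK cA (conjU t1) && normOK cB (conjU t1) &&
    decide (((List.range 8).map fun t => (List.range 16).map (uW ((List.replicate (t / 2)
      (splitA.2 ++ splitB.2)).flatten ++ (if t % 2 = 1 then splitA.2 else [])))).Nodup)) = true := by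
  decide +kernel

theorem delta_check : (permCheck 8 24 delta delta && Nat.beq (packP 8 (getP 8 delta) 24) delta) = true := by
  decide +kernel

theorem delta_gens : ((m22Gens.map fun g => (mc (mc delta g.1) delta, mc (mc delta g.2) delta)).all
    (pairCheck 8 24 m22Chain)) = true := by decide +kernel

theorem delta_ok : (Nat.beq (mc delta delta) c1 && normOK (delta, delta) (conjU t1) &&
    Nat.beq (mc (mc delta cA.1) delta) cA.1 && Nat.beq (mc (mc delta cB.1) delta) cB.1 &&
    ((List.range 16).all fun i => Nat.beq (mc (mc delta (uC i)) delta) (uC (deltaPerm.getD i 0)) &&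
      Nat.blt (deltaPerm.getD i 0) 16) &&
    !decide (deltaPerm ∈ aPerms)) = true := by decide +kernel

end M22D

end Cfsg.Agent.Lib.J4Two56
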