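import Cfsg.Agent.Lib.J4Two56.Stmts2
import Cfsg.Agent.Lib.J4Two56.Classes

/-!
# The centraliser of `z` inside the normaliser of the subgroup of order `2¹¹`

Elements of the centraliser of `z` normalising `P` and the first plane normalise the subgroup, as does the
extraspecial group; an element of the normaliser inducing a translation lies in the product of the two.
-/

set_option autoImplicit false

universe u

namespace Cfsg.Agent.Lib.J4Two56

open Cfsg Cfsg.Agent.Lib.J4Type19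

attribute [local instance] m22_finite

namespace Split

theorem lines_check : ((List.range 16).all fun i => (List.range 16).all fun j =>
    decide (i = 0) || decide (j = 0) || decide (i = j) ||
      (List.range 64).any fun v => inLine i v && !inLine j v) = true := by decide +kernel

theorem lines_inj {i j : ℕ} (hi : i < 16) (hj : j < 16) (hi0 : i ≠ 0) (hj0 : j ≠ 0)
    (h : ∀ v < 64, inLine i v = true → inLine j v = true) : i = j := by
  have h1 := List.all_eq_true.1 lines_check i (List.mem_range.2 hi)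
  have h2 := List.all_eq_true.1 h1 j (List.mem_range.2 hj)
  simp only [Bool.or_eq_true, decide_eq_true_eq, List.any_eq_true, List.mem_range, Bool.and_eq_true,
    Bool.not_eq_true'] at h2
  rcases h2 with ((e | e) | e) | ⟨v, hv, e1, e2⟩
  · exact absurd e hi0
  · exact absurd e hj0
  · exact e
  · rw [h v hv e1] at e2; exact absurd e2 (by decide)

variable {G : Type u} [Group G] [Finite G] {z : G} {P : Subgroup G} {D : HData z P} {X : Plus M22t}
  {L : Lifts D.toJMod X.F}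

/-- Normalising `P` and a plane. -/
def Norms (D : HData z P) (U : Subgroup M22t) (h : G) : Prop :=
  ∃ hh : h ∈ cH z, (h * D.p * h⁻¹ = D.p ∨ h * D.p * h⁻¹ = D.p⁻¹) ∧ ∀ u ∈ U, D.φ ⟨h, hh⟩ u ∈ U

theorem norms_one (U : Subgroup M22t) : Norms D U 1 :=
  ⟨one_mem _, Or.inl (by simp), fun u hu => by
    rw [show (⟨1, one_mem _⟩ : ↥(cH z)) = 1 from rfl, map_one]; exact hu⟩

theorem norms_mul {U : Subgroup M22t} {h k : G} (h1 : Norms D U h) (h2 : Norms D U k) : Norms D U (h * k) := by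
  obtain ⟨hh, hp, hu⟩ := h1
  obtain ⟨kh, kp, ku⟩ := h2
  refine ⟨mul_mem hh kh, ?_, fun u huU => ?_⟩
  · rw [show h * k * D.p * (h * k)⁻¹ = h * (k * D.p * k⁻¹) * h⁻¹ by group]
    rcases kp with e | e <;> rw [e]
    · exact hp
    · rw [← conj_inv]
      rcases hp with e' | e' <;> rw [e']
      · exact Or.inr rfl
      · exact Or.inl (inv_inv _)
  · rw [show (⟨h * k, mul_mem hh kh⟩ : ↥(cH z)) = ⟨h, hh⟩ * ⟨k, kh⟩ from rfl, map_mul]
    exact hu _ (ku u huU)

theorem norms_inv {U : Subgroup M22t} {h : G} (h1 : Norms D U h) : Norms D U h⁻¹ := by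
  have hpow : ∀ n : ℕ, Norms D U (h ^ n) := by
    intro n
    induction n with
    | zero => simpa using norms_one U
    | succ n ih => rw [pow_succ]; exact norms_mul ih h1
  have e : h ^ (orderOf h - 1) = h⁻¹ := eq_inv_of_mul_eq_one_left (by
    rw [← pow_succ, Nat.sub_add_cancel (orderOf_pos h), pow_orderOf_eq_one])
  exact e ▸ hpow _

/-- The elements normalising `P` and a plane. -/
def nrm (D : HData z P) (U : Subgroup M22t) : Subgroup G where
  carrier := {h | Norms D U h}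
  one_mem' := norms_one U
  mul_mem' := norms_mul
  inv_mem' := norms_inv

theorem mem_nrm {U : Subgroup M22t} {h : G} : h ∈ nrm D U ↔ Norms D U h := Iff.rfl

theorem p_mem_nrm (U : Subgroup M22t) : D.p ∈ nrm D U :=
  ⟨D.pH, Or.inl (by group), fun u hu => by
    rw [(D.φ_eq ⟨D.p, D.pH⟩).2 ⟨1, one_mem _, D.p, D.p_mem, (one_mul _).symm⟩]; exact hu⟩

theorem conj_lift {h : G} (hh : h ∈ cH z) (hp : h * D.p * h⁻¹ = D.p ∨ h * D.p * h⁻¹ = D.p⁻¹)
    (c : ↥(cC z P)) :
    ∃ c' : ↥(cC z P), (c' : G) = h * c * h⁻¹ ∧ D.π c' = D.φ ⟨h, hh⟩ (D.π c) := by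
  have hH : h * (c : G) * h⁻¹ ∈ cH z := mul_mem (mul_mem hh c.2.1) (inv_mem hh)
  have h1 : Commute (h * D.p * h⁻¹) (h * (c : G) * h⁻¹) :=
    Commute.conj_iff _ |>.2 (show Commute D.p (c : G) from D.comm_p c)
  have h2 : Commute D.p (h * (c : G) * h⁻¹) := by
    rcases hp with e | e <;> rw [e] at h1
    · exact h1
    · exact Commute.inv_left_iff.1 h1
  have hC : h * (c : G) * h⁻¹ ∈ Subgroup.centralizer (P : Set G) := by
    refine Subgroup.mem_centralizer_iff.2 fun x hx => ?_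
    rcases (D.mem_P x).1 hx with rfl | rfl | rfl
    · rw [one_mul, mul_one]
    · exact h2.eq
    · exact (h2.mul_left h2).eq
  refine ⟨⟨_, hH, hC⟩, rfl, m22_conj_injective ?_⟩
  rw [D.π_eq, show (⟨h * (c : G) * h⁻¹, hH⟩ : ↥(cH z)) = ⟨h, hh⟩ * ⟨(c : G), c.2.1⟩ * ⟨h, hh⟩⁻¹ from rfl,
    map_mul, map_mul, map_inv, ← D.π_eq]
  refine MulEquiv.ext fun m => ?_
  simp

theorem fix_map {U : Subgroup M22t} {h : G} (hn : Norms D U h) (hh : h ∈ cH z) {e : ↥(cE z)}
    (he : mk e ∈ D.toJMod.fix U) : mk (cEAut h hh e) ∈ D.toJMod.fix U := by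
  intro d hd h4
  obtain ⟨hh', hp', hU'⟩ := norms_inv hn
  obtain ⟨c, hc, hπ⟩ := conj_lift hh' hp' d
  have hcU : D.π c ∈ U := hπ ▸ hU' _ hd
  have hc4 : c ^ 4 = 1 := Subtype.ext (by
    have h4' : (d : G) ^ 4 = 1 := congrArg Subtype.val h4
    rw [SubgroupClass.coe_pow, hc, conj_pow, h4', mul_one, mul_inv_cancel]; rfl)
  have hce := he c hcU hc4
  rw [smul_mk] at hce ⊢
  have h2 := D.mk_map hh hce
  have e1 : cEAut h hh (cEAut (c : G) c.2.1 e) = cEAut (d : G) d.2.1 (cEAut h hh e) := by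
    refine Subtype.ext ?_
    show h * ((c : G) * e * (c : G)⁻¹) * h⁻¹ = d * (h * e * h⁻¹) * (d : G)⁻¹
    rw [hc]; group
  rwa [e1] at h2

theorem z_comm {h : G} (hh : h ∈ cH z) : z * h = h * z :=
  (Subgroup.mem_centralizer_singleton_iff.1 hh).symm

theorem z_conj {h : G} (hh : h ∈ cH z) : h * z * h⁻¹ = z := by
  rw [← z_comm hh, mul_inv_cancel_right]

theorem z_pow (D : HData z P) (a : ℕ) : z ^ a = 1 ∨ z ^ a = z := by
  rcases Nat.even_or_odd' a with ⟨k, rfl | rfl⟩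
  · left; rw [pow_mul, pow_two, z_sq D.hJ, one_pow]
  · right; rw [pow_succ, pow_mul, pow_two, z_sq D.hJ, one_pow, one_mul]

theorem pC_pow_smul (j : ℕ) (v : cV z) : (D.pC ^ j) • v = D.toJMod.ω ^ j • v := rfl

theorem zC_smul (v : cV z) : (⟨z, D.z_mem_C⟩ : ↥(cC z P)) • v = v := by
  have h2 : (⟨z, D.z_mem_C⟩ : ↥(cC z P)) ^ 2 = 1 := Subtype.ext (by
    rw [SubgroupClass.coe_pow, pow_two, z_sq D.hJ]; rfl)
  refine D.toJMod.ker_two_smul ((D.ker_iff _).2 ⟨0, Or.inr (by simp)⟩) ?_ v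
  rw [show (4 : ℕ) = 2 * 2 from rfl, pow_mul, h2, one_pow]

theorem sec_one : sec D (1 : ↥(cE z)) = 1 := by simp [sec]

theorem sec_of_mk_zero {e : ↥(cE z)} (he : mk e = 0) : sec D e = 1 := by
  have hc : ∀ {g : G} (hg : g ∈ cH z), cEAut g hg e = e := by
    intro g hg
    refine Subtype.ext ?_
    show g * (e : G) * g⁻¹ = e
    rcases (mk_eq_zero D.hJ).1 he with h | h <;> rw [h]
    · simp
    · exact z_conj hg
  refine Subtype.ext ?_
  show (cEAut D.p D.pH (cEAut D.p D.pH e) : G) * (cEAut D.p D.pH e : G) = 1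
  rw [hc D.pH, hc D.pH]
  rcases (mk_eq_zero D.hJ).1 he with h | h <;> rw [h]
  · simp
  · exact z_sq D.hJ

variable (l : Loc D X L)
include l

theorem vec_zero : l.f.vec 0 = 0 := by
  have h := l.f.vec_xor 0 (by norm_num) 0 (by norm_num)
  rwa [Nat.xor_self, cV_two D.hJ] at h

theorem vec_one_ne : l.f.vec 1 ≠ 0 := by
  intro h
  have := l.f.vec_inj 1 (by norm_num) 0 (by norm_num) (h.trans (vec_zero l).symm)
  omega

/-- The image of `c + 1` lies in the fixed space of the first plane. -/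
theorem rng_le {c : ↥(cC z P)} (hc : D.π c ∈ X.F.U0) (h4 : c ^ 4 = 1) (v : cV z) :
    c • v + v ∈ D.toJMod.fix X.F.U0 := by
  obtain ⟨i, hi, hiu⟩ := X.u_surj _ hc
  by_cases h0 : i = 0
  · subst h0
    have h1 : X.u 0 = 1 := by
      have h := X.u_xor 0 (by norm_num) 0 (by norm_num)
      rw [Nat.xor_self] at h
      exact left_eq_mul.1 h
    rw [D.toJMod.ker_two_smul (k := c) (show D.π c = 1 by rw [← hiu, h1]) h4, cV_two D.hJ]
    exact zero_mem _
  · obtain ⟨w, hw, -, hwx⟩ := (l.f.line i hi h0 c hiu.symm h4 _).1 ⟨v, rfl⟩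
    exact hwx ▸ l.f.vec_mem w hw

theorem z_mem_V : z ∈ l.T.V := by
  have := l.T.el_mem (a := 1) (by norm_num)
  rwa [l.T.el_z] at this

theorem mem_V_of_fix {e : ↥(cE z)} (he : mk e ∈ D.toJMod.fix X.F.U0) : (e : G) ∈ l.T.V :=
  (l.mem_B _).2 ⟨e, he, 1, by rw [map_one]; exact one_mem _, one_pow 4, by simp⟩

theorem x_pow_four {i : ℕ} (hi : i < 16) : l.x i ^ 4 = 1 := by
  rw [show (4 : ℕ) = 2 * 2 from rfl, pow_mul, pow_two (l.x i), l.x_sq i hi, one_pow]

theorem x_mem {i : ℕ} (hi : i < 16) : (l.x i : G) ∈ l.T.V :=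
  (l.mem_B _).2 ⟨1, by rw [mk_one]; exact zero_mem _, l.x i, by rw [l.x_π i hi]; exact X.u_mem i hi,
    x_pow_four l hi, by simp⟩

theorem x_zero_coe : (l.x 0 : G) = 1 := by rw [l.x_zero]; rfl

theorem V_decomp {b : G} (hb : b ∈ l.T.V) : ∃ (a : ℕ) (e0 : ↥(cE z)), mk e0 ∈ D.toJMod.fix X.F.U0 ∧
    ∃ i, i < 16 ∧ b = z ^ a * (sec D e0 : G) * (l.x i : G) := by
  obtain ⟨n, hn, rfl⟩ := (l.T.mem_V b).1 hb
  refine ⟨n % 2 + epsW (n / 128), Function.surjInv mk_surjective (l.f.vec (n / 2 % 64)),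
    by rw [Function.surjInv_eq mk_surjective]; exact l.f.vec_mem _ (Nat.mod_lt _ (by norm_num)), n / 128,
    by omega, ?_⟩
  rw [l.el_eq n hn]
  show z ^ (n % 2) * (sec D _ : G) * ((l.x (n / 128) : G) * z ^ epsW (n / 128)) = _
  have hc : Commute (z ^ epsW (n / 128)) ((sec D (Function.surjInv mk_surjective (l.f.vec (n / 2 % 64))) : G) * (l.x (n / 128) : G)) :=
    Commute.pow_left (z_comm (mul_mem (cE_le z (sec D _).2) (l.x _).2.1)) _
  rw [pow_add, mul_assoc (z ^ (n % 2)) (z ^ epsW _), mul_assoc (z ^ (n % 2)) (z ^ epsW _ * _),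
    mul_assoc (z ^ epsW _), hc.eq]
  group

theorem V_le_cH : l.T.V ≤ cH z := fun b hb => by
  obtain ⟨e, -, c, -, -, rfl⟩ := (l.mem_B b).1 hb
  exact mul_mem (cE_le z e.2) c.2.1

theorem φ_V {b : G} (hb : b ∈ l.T.V) {a i : ℕ} {e0 : ↥(cE z)}
    (he : b = z ^ a * (sec D e0 : G) * (l.x i : G)) (hi : i < 16) :
    D.φ ⟨b, V_le_cH l hb⟩ = MulAut.conj (X.u i) := by
  rw [← l.x_π i hi]
  exact D.φ_inner (mul_mem (pow_mem (z_mem D.hJ) a) (sec D e0).2) (l.x i) he

theorem φ_V_exists {b : G} (hb : b ∈ l.T.V) :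
    ∃ i, i < 16 ∧ D.φ ⟨b, V_le_cH l hb⟩ = MulAut.conj (X.u i) := by
  obtain ⟨a, e0, -, i, hi, he⟩ := V_decomp l hb
  exact ⟨i, hi, φ_V l hb he hi⟩

theorem mem_N_of_norms {h : G} (hn : Norms D X.F.U0 h) : h ∈ Subgroup.normalizer (l.T.V : Set G) := by
  have key : ∀ k, Norms D X.F.U0 k → ∀ b ∈ l.T.V, k * b * k⁻¹ ∈ l.T.V := by
    intro k hk b hb
    obtain ⟨e, he, c, hc, h4, rfl⟩ := (l.mem_B b).1 hb
    obtain ⟨kh, kp, kU⟩ := id hk
    obtain ⟨c', hc', hπ⟩ := conj_lift kh kp c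
    refine (l.mem_B _).2 ⟨cEAut k kh e, fix_map hk kh he, c', hπ ▸ kU _ hc, Subtype.ext ?_, ?_⟩
    · have h4' : (c : G) ^ 4 = 1 := congrArg Subtype.val h4
      rw [SubgroupClass.coe_pow, hc', conj_pow, h4', mul_one, mul_inv_cancel]; rfl
    · show _ = k * (e : G) * k⁻¹ * _
      rw [hc']; group
  rw [Subgroup.mem_normalizer_iff]
  refine fun b => ⟨key h hn b, fun hb => ?_⟩
  have := key _ (norms_inv hn) _ hb
  simpa [mul_assoc] using this

theorem cE_le_N : cE z ≤ Subgroup.normalizer (l.T.V : Set G) := by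
  have key : ∀ e ∈ cE z, ∀ b ∈ l.T.V, e * b * e⁻¹ ∈ l.T.V := by
    intro e he b hb
    obtain ⟨e', he', c, hc, h4, rfl⟩ := (l.mem_B b).1 hb
    obtain ⟨ee, hee⟩ : ∃ ee, ee = (⟨e, he⟩ : ↥(cE z)) := ⟨_, rfl⟩
    refine (l.mem_B _).2 ⟨ee * e' * ee⁻¹ * (ee * cEAut (c : G) c.2.1 ee⁻¹), ?_, c, hc, h4, ?_⟩
    · have hn : mk ee⁻¹ = mk ee := by
        refine (mk_eq D.hJ).2 ?_
        rcases sq_or D.hJ ee with h | h
        · left; rw [Subgroup.coe_inv]; exact (inv_eq_of_mul_eq_one_right h).symm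
        · right
          rw [Subgroup.coe_inv, eq_inv_mul_iff_mul_eq, h]
      have e1 : mk (ee * e' * ee⁻¹) = mk e' := by
        rw [mk_mul, mk_mul, hn, add_comm (mk ee), add_assoc, cV_two D.hJ, add_zero]
      rw [mk_mul, e1, mk_mul, ← smul_mk, hn, add_comm (mk ee)]
      exact add_mem he' (rng_le l hc h4 _)
    · rw [hee]
      simp [cEAut, mul_assoc]
  intro e he
  rw [Subgroup.mem_normalizer_iff]
  refine fun b => ⟨key e he b, fun hb => ?_⟩
  have := key _ (inv_mem he) _ hb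
  simpa [mul_assoc] using this

/-- An element of the normaliser inducing a translation lies in the product with the extraspecial group. -/
theorem exists_E_of_InW (hS : SecStmt.{u}) {k : ↥(Subgroup.normalizer (l.T.V : Set G))}
    (hk : InW ((l.T.ρ k : ↥Cfsg.M24) : Equiv.Perm GolayPt)) :
    ∃ e ∈ cE z, e⁻¹ * (k : G) ∈ l.T.V := by
  obtain ⟨-, hσ1, hσ⟩ := hk
  have hU := D.toJMod.good_U0 L
  have hkH : (k : G) ∈ cH z := by
    have h := l.T.ρ_spec k 1 (by norm_num)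
    rw [hσ1, l.T.el_z] at h
    exact Subgroup.mem_centralizer_singleton_iff.2 (mul_inv_eq_iff_eq_mul.1 h)
  have htriv : ∀ v ∈ D.toJMod.fix X.F.U0, ∀ s : ↥(cE z), mk s = v → mk (cEAut (k : G) hkH s) = v := by
    intro v hv s hs
    obtain ⟨m, hm, rfl⟩ := l.f.vec_surj v hv
    obtain ⟨s', hs'⟩ : ∃ s', s' = secV D (l.f.vec m) := ⟨_, rfl⟩
    have hs'm : mk s' = l.f.vec m := by
      rw [hs', secV, ((hS G z P D X L _ hU).1 _ (by rw [Function.surjInv_eq mk_surjective]; exact hv)).1,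
        Function.surjInv_eq mk_surjective]
    rw [D.mk_map hkH (hs.trans hs'm.symm), ← hs'm]
    have hel : l.T.el (2 * m) = (s' : G) := by
      rw [l.el_eq _ (by omega), show 2 * m % 2 = 0 by omega, show 2 * m / 2 % 64 = m by omega,
        show 2 * m / 128 = 0 by omega, x_zero_coe l, ← hs']
      simp [epsW]
    have h := l.T.ρ_spec k (2 * m) (by omega)
    rw [hel] at h
    rcases hσ (2 * m) (by omega) with e | e <;> rw [e] at h
    · rw [hel] at h
      exact congrArg mk (Subtype.ext h)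
    · rw [l.T.el_xor _ (by omega) 1 (by norm_num), hel, l.T.el_z] at h
      refine (mk_eq D.hJ).2 (Or.inr ?_)
      show (s' : G) = (k : G) * s' * (k : G)⁻¹ * z
      rw [h, mul_assoc, z_sq D.hJ, mul_one]
  obtain ⟨e, he, c, hc, hcase⟩ := D.decomp ⟨(k : G), hkH⟩
  have hstrip : ∀ m : G, ∀ hm : m ∈ cH z, (k : G) = e * m → ∀ s : ↥(cE z),
      mk (cEAut m hm s) = mk (cEAut (k : G) hkH s) := by
    intro m hm hkm s
    rw [← D.mk_conj_cE he (cEAut m hm s)]
    refine congrArg mk (Subtype.ext ?_)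
    show e * (m * s * m⁻¹) * e⁻¹ = (k : G) * s * (k : G)⁻¹
    rw [hkm]; group
  rcases hcase with hcase | hcase
  swap
  · exfalso
    have hm : (D.t : G) * c ∈ cH z := mul_mem D.t.2 hc.1
    obtain ⟨v, hv⟩ : ∃ v, v = l.f.vec 1 := ⟨_, rfl⟩
    have hvS : v ∈ D.toJMod.fix X.F.U0 := hv ▸ l.f.vec_mem 1 (by norm_num)
    obtain ⟨s, hs⟩ := mk_surjective v
    have h1 : mk (cEAut _ hm s) = v := (hstrip _ hm hcase s).trans (htriv v hvS s hs)
    have h2 : mk (cEAut _ hm (cEAut D.p D.pH s)) = D.toJMod.ω • v :=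
      (hstrip _ hm hcase _).trans (htriv _ (D.toJMod.ω_mem_fix hvS) _ (by rw [← hs]; rfl))
    have hmp : (D.t : G) * c * D.p * ((D.t : G) * c)⁻¹ = D.p⁻¹ := by
      have hcp : c * D.p * c⁻¹ = D.p := by
        rw [← D.comm_p ⟨c, hc⟩]
        exact mul_inv_cancel_right _ _
      rw [show (D.t : G) * c * D.p * ((D.t : G) * c)⁻¹ = D.t * (c * D.p * c⁻¹) * (D.t : G)⁻¹ by group, hcp,
        D.tp]
    have h3 : D.toJMod.ω • D.toJMod.ω • v = v := by
      have h4 : cEAut D.p D.pH (cEAut _ hm (cEAut D.p D.pH s)) = cEAut _ hm s := by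
        refine Subtype.ext ?_
        show D.p * ((D.t : G) * c * (D.p * s * D.p⁻¹) * ((D.t : G) * c)⁻¹) * D.p⁻¹
          = (D.t : G) * c * s * ((D.t : G) * c)⁻¹
        rw [show (D.t : G) * c * (D.p * s * D.p⁻¹) * ((D.t : G) * c)⁻¹
          = ((D.t : G) * c * D.p * ((D.t : G) * c)⁻¹) * ((D.t : G) * c * s * ((D.t : G) * c)⁻¹) *
            ((D.t : G) * c * D.p * ((D.t : G) * c)⁻¹)⁻¹ by group, hmp]
        group
      have h5 := congrArg mk h4
      rw [← D.smul_p_mk, h2, h1] at h5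
      exact h5
    refine vec_one_ne l ?_
    rw [← hv]
    refine D.toJMod.ωfix v ?_
    conv_lhs => rw [← h3]
    exact D.toJMod.ω3_smul v
  · obtain ⟨cc, hcc⟩ : ∃ cc : ↥(cC z P), cc = ⟨c, hc⟩ := ⟨_, rfl⟩
    have hfix : ∀ v ∈ D.toJMod.fix X.F.U0, cc • v = v := by
      intro v hv
      obtain ⟨s, hs⟩ := mk_surjective v
      rw [← hs, smul_mk, hcc, hstrip c hc.1 hcase s, htriv v hv s hs, hs]
    have hφk : D.φ ⟨(k : G), hkH⟩ = MulAut.conj (D.π cc) := by
      rw [hcc]; exact D.φ_inner he ⟨c, hc⟩ hcase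
    have hcomm : ∀ v ∈ X.F.U0, D.π cc * v = v * D.π cc := by
      intro v hv
      obtain ⟨i, hi, rfl⟩ := X.u_surj v hv
      have hkV : (k : G) * (l.x i : G) * (k : G)⁻¹ ∈ l.T.V :=
        (Subgroup.mem_normalizer_iff.1 k.2 _).1 (x_mem l hi)
      obtain ⟨j, hj, hφ⟩ := φ_V_exists l hkV
      have hπ : D.π cc * X.u i * (D.π cc)⁻¹ = X.u j := by
        apply m22_conj_injective
        rw [← hφ, map_mul, map_mul, map_inv, ← hφk, ← l.x_π i hi, D.π_eq, ← map_inv, ← map_mul, ← map_mul]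
        rfl
      by_cases hi0 : i = 0
      · subst hi0
        rw [← l.x_π 0 hi, l.x_zero, map_one, mul_one, one_mul]
      have hj0 : j ≠ 0 := by
        rintro rfl
        rw [← l.x_π 0 hj, l.x_zero, map_one, conj_eq_one_iff] at hπ
        refine hi0 (X.u_inj i hi 0 (by norm_num) ?_)
        rw [hπ, ← l.x_π 0 (by norm_num), l.x_zero, map_one]
      have hij : i = j := by
        refine lines_inj hi hj hi0 hj0 fun w hw hin => ?_
        have h4 := x_pow_four l hi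
        obtain ⟨w', hw'⟩ := (l.f.line i hi hi0 (l.x i) (l.x_π i hi) h4 (l.f.vec w)).2 ⟨w, hw, hin, rfl⟩
        obtain ⟨v, hv64, hinj, hvw⟩ := (l.f.line j hj hj0 (cc * l.x i * cc⁻¹)
          (by rw [map_mul, map_mul, map_inv, l.x_π i hi, hπ]) (D.toJMod.conj_four h4) (l.f.vec w)).1
          ⟨cc • w', by
            rw [mul_smul, mul_smul, inv_smul_smul, ← smul_add, hw', hfix _ (l.f.vec_mem w hw)]⟩
        rwa [← l.f.vec_inj v hv64 w hw hvw]
      rw [← hij] at hπ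
      exact mul_inv_eq_iff_eq_mul.1 hπ
    obtain ⟨i, hi, hiu⟩ := X.u_surj _ (X.cent_le _ hcomm)
    obtain ⟨k0, hk0⟩ : ∃ k0, k0 = (l.x i)⁻¹ * cc := ⟨_, rfl⟩
    have hk01 : D.π k0 = 1 := by rw [hk0, map_mul, map_inv, l.x_π i hi, hiu, inv_mul_cancel]
    have hk0v : k0 • l.f.vec 1 = l.f.vec 1 := by
      rw [hk0, mul_smul, hfix _ (l.f.vec_mem 1 (by norm_num)), inv_smul_eq_iff]
      exact (l.f.vec_mem 1 (by norm_num) (l.x i)
        (show D.π (l.x i) ∈ X.F.U0 by rw [l.x_π i hi]; exact X.u_mem i hi) (x_pow_four l hi)).symm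
    have hp1 : ∀ j : ℕ, (D.pC ^ j) • l.f.vec 1 = l.f.vec 1 → D.p ^ j = 1 := by
      intro j hj
      have h3 : D.p ^ j = D.p ^ (j % 3) := by
        conv_lhs => rw [← Nat.mod_add_div j 3, pow_add, pow_mul, D.p3, one_pow, mul_one]
      rw [pC_pow_smul, D.toJMod.ωpow_congr (m := j % 3) (by omega)] at hj
      rcases (by omega : j % 3 = 0 ∨ j % 3 = 1 ∨ j % 3 = 2) with e | e | e
      · rw [h3, e, pow_zero]
      · exfalso
        rw [e, pow_one] at hj
        exact vec_one_ne l (D.toJMod.ωfix _ hj)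
      · exfalso
        rw [e, pow_two, mul_smul] at hj
        refine vec_one_ne l (D.toJMod.ωfix _ ?_)
        conv_lhs => rw [← hj]
        exact D.toJMod.ω3_smul _
    have hcx : (c : G) = (l.x i : G) * (k0 : G) := by
      rw [← Subgroup.coe_mul, hk0, mul_inv_cancel_left, hcc]
    refine ⟨e, he, ?_⟩
    rw [show e⁻¹ * (k : G) = c by rw [show (k : G) = e * c from hcase, inv_mul_cancel_left], hcx]
    refine mul_mem (x_mem l hi) ?_
    obtain ⟨j, hj | hj⟩ := (D.ker_iff k0).1 hk01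
    · have hj1 := hp1 j (by
        rwa [show k0 = D.pC ^ j from Subtype.ext (by rw [hj, SubgroupClass.coe_pow]; rfl)] at hk0v)
      rw [hj, hj1]; exact one_mem _
    · have hj1 := hp1 j (by
        rwa [show k0 = ⟨z, D.z_mem_C⟩ * D.pC ^ j from Subtype.ext (by
          rw [hj, Subgroup.coe_mul, SubgroupClass.coe_pow]; rfl), mul_smul, zC_smul (D := D)] at hk0v)
      rw [hj, hj1, mul_one]; exact z_mem_V l

end Split

end Cfsg.Agent.Lib.J4Two56
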